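import Mathlib
import Cfsg.Agent.Lib.SFour55.Graph

/-!
# Goldschmidt amalgams: one end moves `Ω₁(Z(T))`, the other centralizes it
-/

set_option autoImplicit false

namespace Cfsg.Agent.Lib.Goldschmidt73

open Cfsg Subgroup Cfsg.Agent.Lib.Amalgam
open Cfsg.Agent.Lib.SFour55 (omCenter map_centralizer_equiv omCenter_map)
open scoped commutatorElement

variable {G : Type*} [Group G]

/-- The hypothesis: both residues are `S₃`, the left end moves `Ω₁(Z(T))`, the right one centralizes it. -/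
structure Hyp (P₁ P₂ : Subgroup G) : Prop where
  charP : IsCharPAmalgamPair 2 P₁ P₂
  pgroup : IsPGroup 2 ↥(P₁ ⊓ P₂)
  left : Nat.card P₁ = 3 * Nat.card ↥(P₁ ⊓ P₂) ∧ Nat.card ↥(P₁ ⊓ P₂) = 2 * Nat.card (pCoreOf 2 P₁)
  right : Nat.card P₂ = 3 * Nat.card ↥(P₁ ⊓ P₂) ∧ Nat.card ↥(P₁ ⊓ P₂) = 2 * Nat.card (pCoreOf 2 P₂)
  move : ¬ P₁ ≤ centralizer (omCenter (P₁ ⊓ P₂) : Set G)
  fix : P₂ ≤ centralizer (omCenter (P₁ ⊓ P₂) : Set G)

variable {P₁ P₂ : Subgroup G}

local notation "St" => MulAction.stabilizer G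

/-- The vertices of the moving kind. -/
abbrev IsN (δ : CosetVertex P₁ P₂) : Prop := δ.isLeft = true

/-- The vertices of the centralizing kind. -/
abbrev IsC (δ : CosetVertex P₁ P₂) : Prop := δ.isLeft = false

theorem edge_facts (h : Hyp P₁ P₂) {δ μ : CosetVertex P₁ P₂} (hadj : (cosetGraph P₁ P₂).Adj δ μ) :
    Nat.card (St δ) = 3 * Nat.card (edgeStabilizer δ μ) ∧
      Nat.card (edgeStabilizer δ μ) = 2 * Nat.card (vertexQ 2 δ) ∧
      IsPGroup 2 (edgeStabilizer δ μ) ∧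
      (IsN δ → ¬ St δ ≤ centralizer (omCenter (edgeStabilizer δ μ) : Set G)) ∧
      (IsC δ → St δ ≤ centralizer (omCenter (edgeStabilizer δ μ) : Set G)) := by
  have key : ∀ (P : Subgroup G) (x : G),
      (Nat.card P = 3 * Nat.card ↥(P₁ ⊓ P₂) ∧ Nat.card ↥(P₁ ⊓ P₂) = 2 * Nat.card (pCoreOf 2 P)) →
      St δ = P.map (MulAut.conj x).toMonoidHom →
      edgeStabilizer δ μ = (P₁ ⊓ P₂).map (MulAut.conj x).toMonoidHom →
      Nat.card (St δ) = 3 * Nat.card (edgeStabilizer δ μ) ∧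
        Nat.card (edgeStabilizer δ μ) = 2 * Nat.card (vertexQ 2 δ) ∧
        IsPGroup 2 (edgeStabilizer δ μ) ∧
        (St δ ≤ centralizer (omCenter (edgeStabilizer δ μ) : Set G) ↔
          P ≤ centralizer (omCenter (P₁ ⊓ P₂) : Set G)) := by
    rintro P x ⟨c1, c2⟩ e1 e2
    have hinj := (MulAut.conj x).injective
    refine ⟨?_, ?_, ?_, ?_⟩
    · rw [e1, e2, card_map_of_injective hinj, card_map_of_injective hinj]; exact c1
    · show _ = 2 * Nat.card (pCoreOf 2 (St δ))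
      rw [e1, e2, pCoreOf_map _ hinj, card_map_of_injective hinj, card_map_of_injective hinj]; exact c2
    · rw [e2]; exact h.pgroup.map _
    · rw [e1, e2, ← omCenter_map, ← map_centralizer_equiv, map_le_map_iff_of_injective hinj]
  obtain ⟨x, ⟨rfl, rfl⟩ | ⟨rfl, rfl⟩⟩ := adj_iff.1 hadj
  · obtain ⟨a, b, c, d⟩ := key P₁ x h.left (stabilizer_inl x) (edgeStabilizer_inl_inr x)
    exact ⟨a, b, c, fun _ hh => h.move (d.1 hh), fun hh => by simp [IsC] at hh⟩
  · obtain ⟨a, b, c, d⟩ :=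
      key P₂ x h.right (stabilizer_inr x) (by rw [edgeStabilizer_comm, edgeStabilizer_inl_inr])
    exact ⟨a, b, c, fun hh => by simp [IsN] at hh, fun _ => d.2 h.fix⟩

variable (h : Hyp P₁ P₂)
include h

theorem fin (δ : CosetVertex P₁ P₂) : Finite (St δ) :=
  haveI : Fact (Nat.Prime 2) := ⟨Nat.prime_two⟩
  finite_stabilizer h.charP δ

theorem finQ (δ : CosetVertex P₁ P₂) : Finite (vertexQ 2 δ) :=
  haveI := fin h δ
  Finite.of_injective (inclusion (pCoreOf_le 2 (St δ))) (inclusion_injective _)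

theorem finEdge (δ μ : CosetVertex P₁ P₂) : Finite ↥(edgeStabilizer δ μ) :=
  haveI := fin h δ
  Finite.of_injective (inclusion (inf_le_left : edgeStabilizer δ μ ≤ St δ)) (inclusion_injective _)

theorem isSylowOf_edge {δ μ : CosetVertex P₁ P₂} (hadj : (cosetGraph P₁ P₂).Adj δ μ) :
    IsSylowOf 2 (edgeStabilizer δ μ) (St δ) := by
  haveI : Fact (Nat.Prime 2) := ⟨Nat.prime_two⟩
  haveI := finEdge h δ μ
  refine isSylowOf_of_edge h.charP hadj ⟨le_rfl, (edge_facts h hadj).2.2.1, ?_⟩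
  obtain ⟨k, hk⟩ := IsPGroup.iff_card.1 (edge_facts h hadj).2.2.1
  rw [hk, Nat.Prime.factorization_pow Nat.prime_two, Finsupp.single_eq_same]

theorem Q_le_edge {δ μ : CosetVertex P₁ P₂} (hadj : (cosetGraph P₁ P₂).Adj δ μ) :
    vertexQ 2 δ ≤ edgeStabilizer δ μ :=
  haveI := fin h δ
  haveI : Fact (Nat.Prime 2) := ⟨Nat.prime_two⟩
  pCoreOf_le_of_isSylowOf (isSylowOf_edge h hadj)

omit h in
theorem le_normalizer_edgeQ (δ : CosetVertex P₁ P₂) : St δ ≤ normalizer (vertexQ 2 δ : Set G) :=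
  le_normalizer_pCoreOf 2 _

/-- The three-point action: a subgroup containing an edge group and an element moving the edge is everything. -/
theorem stab_le_of_move {δ μ : CosetVertex P₁ P₂} (hadj : (cosetGraph P₁ P₂).Adj δ μ) {K : Subgroup G}
    (hK : edgeStabilizer δ μ ≤ K) {g : G} (hg : g ∈ St δ) (hgK : g ∈ K) (hμ : g • μ ≠ μ) :
    St δ ≤ K := by
  haveI := fin h δ
  set H := St δ ⊓ K
  have hH : edgeStabilizer δ μ ≤ H := le_inf inf_le_left hK
  have hne : edgeStabilizer δ μ ≠ H := fun e => hμ ((e.symm ▸ (⟨hg, hgK⟩ : g ∈ H)) : g ∈ edgeStabilizer δ μ).2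
  haveI : Finite H := Finite.of_injective (inclusion (inf_le_left : H ≤ St δ)) (inclusion_injective _)
  have h1 := card_dvd_of_le hH
  have h2 := card_dvd_of_le (inf_le_left : H ≤ St δ)
  obtain ⟨m, hm⟩ := h1
  rw [(edge_facts h hadj).1, hm, mul_comm 3] at h2
  haveI := finEdge h δ μ
  have hm3 : m ∣ 3 := Nat.dvd_of_mul_dvd_mul_left Nat.card_pos h2
  rcases (Nat.dvd_prime Nat.prime_three).1 hm3 with rfl | rfl
  · rw [mul_one] at hm
    exact absurd (eq_of_le_of_card_ge hH hm.le) hne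
  · have : H = St δ := eq_of_le_of_card_ge inf_le_left (by rw [(edge_facts h hadj).1, hm, mul_comm])
    exact this ▸ (inf_le_right : H ≤ K)

omit h in
theorem neighbourKernel_le_edge {δ μ : CosetVertex P₁ P₂} (hadj : (cosetGraph P₁ P₂).Adj δ μ) :
    neighbourKernel δ ≤ edgeStabilizer δ μ :=
  le_inf (neighbourKernel_le_stabilizer δ) (neighbourKernel_le_of_adj hadj)

/-- `Q_δ` is the kernel on the neighbours. -/
theorem neighbourKernel_eq (δ : CosetVertex P₁ P₂) : neighbourKernel δ = vertexQ 2 δ := by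
  haveI : Fact (Nat.Prime 2) := ⟨Nat.prime_two⟩
  refine le_antisymm ?_ (vertexQ_le_neighbourKernel h.charP δ)
  obtain ⟨μ, hμ⟩ := exists_adj δ
  have hn : ((neighbourKernel δ).subgroupOf (St δ)).Normal := by
    refine ⟨fun a ha g => ?_⟩
    simp only [mem_subgroupOf, mem_neighbourKernel, coe_mul, InvMemClass.coe_inv] at ha ⊢
    have hg : (g : G) • δ = δ := g.2
    have hg' : (g : G)⁻¹ • δ = δ := inv_smul_eq_iff.2 hg.symm
    refine ⟨by rw [mul_smul, mul_smul, hg', ha.1, hg], fun ν hν => ?_⟩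
    have hν' : (cosetGraph P₁ P₂).Adj δ ((g : G)⁻¹ • ν) := by
      have := adj_smul (g : G)⁻¹ hν
      rwa [hg'] at this
    rw [mul_smul, mul_smul, ha.2 _ hν', smul_inv_smul]
  have hp : IsPGroup 2 ((neighbourKernel δ).subgroupOf (St δ)) :=
    ((edge_facts h hμ).2.2.1.to_le (neighbourKernel_le_edge hμ)).of_equiv
      (subgroupOfEquivOfLe (neighbourKernel_le_stabilizer δ)).symm
  intro x hx
  exact ⟨⟨x, neighbourKernel_le_stabilizer δ hx⟩, (le_sSup ⟨hn, hp⟩ : _ ≤ pCore 2 (St δ)) hx, rfl⟩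

theorem mem_Q_of_fixes {δ : CosetVertex P₁ P₂} {g : G} (hg : g ∈ St δ)
    (hall : ∀ ν, (cosetGraph P₁ P₂).Adj δ ν → g • ν = ν) : g ∈ vertexQ 2 δ := by
  rw [← neighbourKernel_eq h]
  exact mem_neighbourKernel.2 ⟨hg, hall⟩

theorem Q_smul_eq {δ ν : CosetVertex P₁ P₂} (hadj : (cosetGraph P₁ P₂).Adj δ ν) {g : G}
    (hg : g ∈ vertexQ 2 δ) : g • ν = ν := (Q_le_edge h hadj hg).2

/-- Different neighbours give different edge groups; the common part is `Q_δ`. -/
theorem edge_inf_edge {δ μ ν : CosetVertex P₁ P₂} (hμ : (cosetGraph P₁ P₂).Adj δ μ)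
    (hν : (cosetGraph P₁ P₂).Adj δ ν) (hne : μ ≠ ν) {g : G} (h1 : g ∈ edgeStabilizer δ μ)
    (h2 : g • ν = ν) : g ∈ vertexQ 2 δ := by
  haveI : Fact (Nat.Prime 2) := ⟨Nat.prime_two⟩
  haveI := fin h δ
  haveI := finEdge h δ μ
  by_contra hgQ
  -- the edge group of `ν` would equal that of `μ`
  set D := edgeStabilizer δ μ ⊓ edgeStabilizer δ ν
  have hQD : vertexQ 2 δ ≤ D := le_inf (Q_le_edge h hμ) (Q_le_edge h hν)
  have hgD : g ∈ D := ⟨h1, h1.1, h2⟩
  haveI : Finite D := Finite.of_injective (inclusion (inf_le_left : D ≤ edgeStabilizer δ μ)) (inclusion_injective _)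
  haveI := finQ h δ
  have hlt : Nat.card (vertexQ 2 δ) < Nat.card D := by
    rcases (card_le_of_le hQD).lt_or_eq with hl | he
    · exact hl
    · exact absurd ((eq_of_le_of_card_ge hQD he.ge).symm ▸ hgD) hgQ
  obtain ⟨m, hm⟩ := card_dvd_of_le (inf_le_left : D ≤ edgeStabilizer δ μ)
  obtain ⟨k, hk⟩ := card_dvd_of_le hQD
  have e : edgeStabilizer δ μ = edgeStabilizer δ ν := by
    have h3 : Nat.card (edgeStabilizer δ μ) ≤ Nat.card D := by
      rw [(edge_facts h hμ).2.1] at hm ⊢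
      have hk2 : 2 ≤ k := by
        by_contra hk2
        interval_cases k <;> omega
      calc 2 * Nat.card (vertexQ 2 δ) ≤ Nat.card (vertexQ 2 δ) * k := by
            rw [mul_comm]; exact Nat.mul_le_mul_left _ hk2
        _ = Nat.card D := hk.symm
    have e1 : D = edgeStabilizer δ μ := eq_of_le_of_card_ge inf_le_left h3
    haveI := finEdge h δ ν
    refine eq_of_le_of_card_ge (e1 ▸ inf_le_right : edgeStabilizer δ μ ≤ edgeStabilizer δ ν) ?_
    rw [(edge_facts h hμ).2.1, (edge_facts h hν).2.1]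
  obtain ⟨a, ha, haν⟩ := exists_smul_neighbour hμ hν
  have han : a ∈ normalizer (edgeStabilizer δ μ : Set G) := by
    refine mem_normalizer_of_map_conj_eq ?_
    conv_rhs => rw [e, ← haν]
    rw [edgeStabilizer, edgeStabilizer, Subgroup.map_inf _ _ _ (MulAut.conj a).injective, ← smul_stabilizer,
      ← smul_stabilizer, MulAction.mem_stabilizer_iff.1 ha]
  have hS : St δ ≤ normalizer (edgeStabilizer δ μ : Set G) :=
    stab_le_of_move h hμ Subgroup.le_normalizer ha han (by rw [haν]; exact hne.symm)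
  have hn : ((edgeStabilizer δ μ).subgroupOf (St δ)).Normal :=
    (normal_subgroupOf_iff_le_normalizer inf_le_left).2 hS
  have hp : IsPGroup 2 ((edgeStabilizer δ μ).subgroupOf (St δ)) :=
    (edge_facts h hμ).2.2.1.of_equiv (subgroupOfEquivOfLe inf_le_left).symm
  have hle : edgeStabilizer δ μ ≤ vertexQ 2 δ := fun x hx =>
    ⟨⟨x, hx.1⟩, (le_sSup ⟨hn, hp⟩ : _ ≤ pCore 2 (St δ)) hx, rfl⟩
  have h4 := card_le_of_le hle
  have h5 := (edge_facts h hμ).2.1
  have : 0 < Nat.card (vertexQ 2 δ) := Nat.card_pos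
  omega

theorem exists_edge_not_Q {δ μ : CosetVertex P₁ P₂} (hadj : (cosetGraph P₁ P₂).Adj δ μ) :
    ∃ g ∈ edgeStabilizer δ μ, g ∉ vertexQ 2 δ := by
  by_contra hc
  push Not at hc
  haveI := finQ h δ
  have h4 := card_le_of_le (fun x hx => hc x hx : edgeStabilizer δ μ ≤ vertexQ 2 δ)
  have h5 := (edge_facts h hadj).2.1
  have : 0 < Nat.card (vertexQ 2 δ) := Nat.card_pos
  omega

/-- Index two. -/
theorem inv_mul_mem_Q {δ μ : CosetVertex P₁ P₂} (hadj : (cosetGraph P₁ P₂).Adj δ μ) {a b : G}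
    (ha : a ∈ edgeStabilizer δ μ) (hb : b ∈ edgeStabilizer δ μ) (haQ : a ∉ vertexQ 2 δ)
    (hbQ : b ∉ vertexQ 2 δ) : a⁻¹ * b ∈ vertexQ 2 δ := by
  haveI := finEdge h δ μ
  haveI := finQ h δ
  set E := edgeStabilizer δ μ
  have hidx : ((vertexQ 2 δ).subgroupOf E).index = 2 := by
    have h1 := card_mul_index ((vertexQ 2 δ).subgroupOf E)
    rw [Nat.card_congr (subgroupOfEquivOfLe (Q_le_edge h hadj)).toEquiv,
      (edge_facts h hadj).2.1, mul_comm 2] at h1
    exact Nat.eq_of_mul_eq_mul_left Nat.card_pos h1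
  have := (mul_mem_iff_of_index_two hidx (a := (⟨a⁻¹, inv_mem ha⟩ : E)) (b := ⟨b, hb⟩))
  simpa [mem_subgroupOf, haQ, hbQ] using this

theorem ncard_neighbours (δ : CosetVertex P₁ P₂) :
    ((cosetGraph P₁ P₂).neighborSet δ).ncard = 3 := by
  obtain ⟨μ, hμ⟩ := exists_adj δ
  haveI := fin h δ
  have e : (cosetGraph P₁ P₂).neighborSet δ = MulAction.orbit ↥(St δ) μ := by
    ext ν
    refine ⟨fun hν => ?_, ?_⟩
    · obtain ⟨g, hg, hgν⟩ := exists_smul_neighbour hμ hν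
      exact ⟨⟨g, hg⟩, hgν⟩
    · rintro ⟨g, rfl⟩
      have := adj_smul (g : G) hμ
      rwa [show (g : G) • δ = δ from g.2] at this
  have e2 : MulAction.stabilizer ↥(St δ) μ = (edgeStabilizer δ μ).subgroupOf (St δ) := by
    ext g
    simp only [MulAction.mem_stabilizer_iff, mem_subgroupOf, mem_inf]
    exact ⟨fun hg => ⟨g.2, hg⟩, fun hg => hg.2⟩
  rw [e, show (MulAction.orbit (↥(St δ)) μ).ncard = (MulAction.stabilizer ↥(St δ) μ).index from
    (MulAction.index_stabilizer _ μ).symm, e2]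
  have h1 := card_mul_index ((edgeStabilizer δ μ).subgroupOf (St δ))
  rw [Nat.card_congr (subgroupOfEquivOfLe inf_le_left).toEquiv, (edge_facts h hμ).1, mul_comm 3] at h1
  haveI := finEdge h δ μ
  exact Nat.eq_of_mul_eq_mul_left Nat.card_pos h1

theorem exists_other {δ μ : CosetVertex P₁ P₂} (_hμ : (cosetGraph P₁ P₂).Adj δ μ) :
    ∃ ν, (cosetGraph P₁ P₂).Adj δ ν ∧ ν ≠ μ := by
  by_contra hc
  push Not at hc
  have hsub : (cosetGraph P₁ P₂).neighborSet δ ⊆ ({μ} : Set (CosetVertex P₁ P₂)) := fun ν hν => hc ν hν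
  have h1 := Set.ncard_le_ncard hsub (Set.finite_singleton μ)
  rw [ncard_neighbours h, Set.ncard_singleton] at h1
  omega

theorem exists_third {δ μ ν : CosetVertex P₁ P₂} (_hμ : (cosetGraph P₁ P₂).Adj δ μ)
    (_hν : (cosetGraph P₁ P₂).Adj δ ν) :
    ∃ ρ, (cosetGraph P₁ P₂).Adj δ ρ ∧ ρ ≠ μ ∧ ρ ≠ ν := by
  by_contra hc
  push Not at hc
  have hsub : (cosetGraph P₁ P₂).neighborSet δ ⊆ {μ, ν} := fun ρ hρ => by
    by_cases hρμ : ρ = μ
    · exact Or.inl hρμ
    · exact Or.inr (hc ρ hρ hρμ)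
  have h1 := Set.ncard_le_ncard hsub (Set.toFinite _)
  have h2 : ({μ, ν} : Set (CosetVertex P₁ P₂)).ncard ≤ 2 := by
    refine (Set.ncard_insert_le _ _).trans ?_
    simp
  rw [ncard_neighbours h] at h1
  omega

/-- An element outside `Q_δ` fixing a neighbour moves every other one to the remaining one. -/
theorem swap {δ μ ν ν' : CosetVertex P₁ P₂} (hμ : (cosetGraph P₁ P₂).Adj δ μ)
    (hν : (cosetGraph P₁ P₂).Adj δ ν) (hν' : (cosetGraph P₁ P₂).Adj δ ν') (h1 : ν ≠ μ) (h2 : ν' ≠ μ)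
    (h3 : ν' ≠ ν) {g : G} (hg : g ∈ edgeStabilizer δ μ) (hgQ : g ∉ vertexQ 2 δ) : g • ν = ν' := by
  have hne : g • ν ≠ ν := fun e => hgQ (edge_inf_edge h hμ hν h1.symm hg e)
  have hne' : g • ν ≠ μ := fun e => h1 (smul_left_cancel g (e.trans (MulAction.mem_stabilizer_iff.1 hg.2).symm))
  have hfull : ({μ, ν, ν'} : Set (CosetVertex P₁ P₂)) = (cosetGraph P₁ P₂).neighborSet δ := by
    have hsub : ({μ, ν, ν'} : Set (CosetVertex P₁ P₂)) ⊆ (cosetGraph P₁ P₂).neighborSet δ := by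
      rintro _ (rfl | rfl | rfl) <;> assumption
    refine Set.eq_of_subset_of_ncard_le hsub ?_ (Set.finite_of_ncard_pos (by rw [ncard_neighbours h]; omega))
    rw [ncard_neighbours h]
    exact le_of_eq (Set.ncard_eq_three.2 ⟨μ, ν, ν', h1.symm, h2.symm, h3.symm, rfl⟩).symm
  have hmem : g • ν ∈ ({μ, ν, ν'} : Set (CosetVertex P₁ P₂)) := by
    rw [hfull]
    have := adj_smul g hν
    rwa [MulAction.mem_stabilizer_iff.1 hg.1] at this
  simpa [hne, hne'] using hmem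

omit h in
theorem exists_smul_same_side {u v : CosetVertex P₁ P₂} (hs : u.isLeft = v.isLeft) :
    ∃ g : G, g • u = v := by
  rcases u with q | q <;> rcases v with r | r <;> simp at hs <;>
    induction q using QuotientGroup.induction_on with | _ x => ?_ <;>
    induction r using QuotientGroup.induction_on with | _ y => ?_
  · exact ⟨y * x⁻¹, by rw [smul_inl_coe, inv_mul_cancel_right]⟩
  · exact ⟨y * x⁻¹, by rw [smul_inr_coe, inv_mul_cancel_right]⟩

omit h in
theorem adj_isLeft {u v : CosetVertex P₁ P₂} (huv : (cosetGraph P₁ P₂).Adj u v) :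
    u.isLeft = !v.isLeft := by
  obtain ⟨x, ⟨rfl, rfl⟩ | ⟨rfl, rfl⟩⟩ := adj_iff.1 huv <;> rfl

theorem normal_bot {α β : CosetVertex P₁ P₂} (hadj : (cosetGraph P₁ P₂).Adj α β) {N : Subgroup G}
    (hN : N ≤ edgeStabilizer α β) (h1 : St α ≤ normalizer (N : Set G))
    (h2 : St β ≤ normalizer (N : Set G)) : N = ⊥ :=
  eq_bot_of_normalizer_transitive h.charP.1 hadj hN
    (fun _ _ ha hb => let ⟨g, hg, hgν⟩ := exists_smul_neighbour ha hb; ⟨g, ⟨h1 hg, hg⟩, hgν⟩)
    (fun _ _ ha hb => let ⟨g, hg, hgν⟩ := exists_smul_neighbour ha hb; ⟨g, ⟨h2 hg, hg⟩, hgν⟩)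

omit h in
theorem Q_smul (g : G) (δ : CosetVertex P₁ P₂) :
    vertexQ 2 (g • δ) = (vertexQ 2 δ).map (MulAut.conj g).toMonoidHom := by
  show pCoreOf 2 _ = _
  rw [smul_stabilizer, pCoreOf_map _ (MulAut.conj g).injective]

theorem Q_ne {α β : CosetVertex P₁ P₂} (hadj : (cosetGraph P₁ P₂).Adj α β) :
    ¬ vertexQ 2 α ≤ vertexQ 2 β := by
  intro hle
  haveI := finQ h β
  haveI := finQ h α
  have e : vertexQ 2 α = vertexQ 2 β := by
    refine eq_of_le_of_card_ge hle ?_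
    have h1 := (edge_facts h hadj).2.1
    have h2 := (edge_facts h hadj.symm).2.1
    rw [edgeStabilizer_comm] at h2
    omega
  have hbot := normal_bot h hadj (Q_le_edge h hadj) (le_normalizer_edgeQ α) (e ▸ le_normalizer_edgeQ β)
  haveI : Fact (Nat.Prime 2) := ⟨Nat.prime_two⟩
  exact Amalgam55.vertexZ_ne_bot h.charP α (le_bot_iff.1 (hbot ▸ vertexZ_le_vertexQ h.charP α))

end Cfsg.Agent.Lib.Goldschmidt73
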