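import Mathlib
import Cfsg.Agent.Lib.Goldschmidt73.Graph

/-!
# Goldschmidt amalgams: the groups `Z_δ`
-/

set_option autoImplicit false

namespace Cfsg.Agent.Lib.Goldschmidt73

open Cfsg Subgroup Cfsg.Agent.Lib.Amalgam
open Cfsg.Agent.Lib.SFour55 (omCenter map_centralizer_equiv omCenter_map)

variable {G : Type*} [Group G] {P₁ P₂ : Subgroup G}

local notation "St" => MulAction.stabilizer G

theorem mul_self_inv {x : G} (hx : x * x = 1) : x⁻¹ = x :=
  (eq_inv_of_mul_eq_one_left hx).symm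

theorem conj_mem {T : Subgroup G} {g x : G} (hg : g ∈ normalizer (T : Set G)) (hx : x ∈ T) :
    g * x * g⁻¹ ∈ T :=
  LocalChar.conj_mem_of_mem_normalizer hg hx

/-- To normalize a finite subgroup it is enough to map it into itself. -/
theorem mem_normalizer_of_forall {K : Subgroup G} [Finite K] {t : G}
    (ht : ∀ y ∈ K, t * y * t⁻¹ ∈ K) : t ∈ normalizer (K : Set G) := by
  refine mem_normalizer_of_map_conj_eq (eq_of_le_of_card_ge ?_
    (card_map_of_injective (MulAut.conj t).injective).ge)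
  rintro _ ⟨y, hy, rfl⟩
  exact ht y hy

theorem omCenter_spec {T : Subgroup G} {x : G} (hx : x ∈ omCenter T) :
    x ∈ T ∧ ∀ a ∈ T, a * x = x * a :=
  have h1 := omegaOne_le 2 _ hx
  ⟨h1.1, mem_centralizer_iff.1 h1.2⟩

theorem mem_omCenter {T : Subgroup G} {x : G} (hx : x ∈ T) (h2 : x * x = 1)
    (hc : ∀ a ∈ T, a * x = x * a) : x ∈ omCenter T :=
  subset_closure ⟨⟨hx, mem_centralizer_iff.2 hc⟩, by rw [pow_two, h2]⟩

theorem isN_or_isC (δ : CosetVertex P₁ P₂) : IsN δ ∨ IsC δ := by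
  cases hδ : δ.isLeft
  · exact Or.inr hδ
  · exact Or.inl hδ

theorem isC_of_adj {u v : CosetVertex P₁ P₂} (huv : (cosetGraph P₁ P₂).Adj u v) (hu : IsN u) : IsC v := by
  have := adj_isLeft huv
  rw [IsN] at hu
  rw [hu] at this
  simpa [IsC] using this.symm

theorem isN_of_adj {u v : CosetVertex P₁ P₂} (huv : (cosetGraph P₁ P₂).Adj u v) (hu : IsC u) : IsN v := by
  have := adj_isLeft huv
  rw [IsC] at hu
  rw [hu] at this
  simpa [IsN] using this.symm

theorem adj_smul_fix {δ μ : CosetVertex P₁ P₂} (hμ : (cosetGraph P₁ P₂).Adj δ μ) {g : G}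
    (hg : g ∈ St δ) : (cosetGraph P₁ P₂).Adj δ (g • μ) := by
  have := adj_smul g hμ
  rwa [MulAction.mem_stabilizer_iff.1 hg] at this

theorem map_edge {δ μ : CosetVertex P₁ P₂} {g : G} (hg : g ∈ St δ) :
    (edgeStabilizer δ μ).map (MulAut.conj g).toMonoidHom = edgeStabilizer δ (g • μ) := by
  rw [edgeStabilizer, edgeStabilizer, Subgroup.map_inf _ _ _ (MulAut.conj g).injective, ← smul_stabilizer,
    ← smul_stabilizer, MulAction.mem_stabilizer_iff.1 hg]

variable (h : Hyp P₁ P₂)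
include h

theorem conn : (cosetGraph P₁ P₂).Connected := connected h.charP.1.1

theorem Z_spec {δ : CosetVertex P₁ P₂} {x : G} (hx : x ∈ vertexZ 2 δ) :
    x ∈ vertexQ 2 δ ∧ x * x = 1 ∧ ∀ q ∈ vertexQ 2 δ, q * x = x * q := by
  haveI := fin h δ
  let A : Subgroup G :=
    { carrier := {y | y ∈ vertexQ 2 δ ∧ y * y = 1 ∧ ∀ q ∈ vertexQ 2 δ, q * y = y * q}
      one_mem' := ⟨one_mem _, mul_one 1, fun q _ => by simp⟩
      mul_mem' := fun {a b} ha hb => ⟨mul_mem ha.1 hb.1, by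
          rw [mul_assoc, ← mul_assoc b, hb.2.2 a ha.1 |>.symm, mul_assoc a b, hb.2.1, mul_one, ha.2.1],
        fun q hq => by rw [← mul_assoc, ha.2.2 q hq, mul_assoc, hb.2.2 q hq, mul_assoc]⟩
      inv_mem' := fun {a} ha => by
        rw [← eq_inv_of_mul_eq_one_left ha.2.1]
        exact ha }
  have hle : vertexZ 2 δ ≤ A := by
    show sylowCenterClosure 2 _ ≤ A
    rw [sylowCenterClosure_eq]
    refine iSup_le fun T => ?_
    refine (closure_le A).2 fun y hy => ?_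
    obtain ⟨⟨hyT, hyc⟩, hy2⟩ := hy
    have hQT : vertexQ 2 δ ≤ (T : Subgroup G) := pCoreOf_le_of_isSylowOf T.2
    have hyq : ∀ q ∈ vertexQ 2 δ, q * y = y * q := fun q hq => mem_centralizer_iff.1 hyc q (hQT hq)
    exact ⟨charP_stabilizer h.charP δ ⟨T.2.1 hyT, mem_centralizer_iff.2 hyq⟩, by rwa [← pow_two], hyq⟩
  exact hle hx

theorem Z_comm {δ : CosetVertex P₁ P₂} {x y : G} (hx : x ∈ vertexZ 2 δ) (hy : y ∈ vertexZ 2 δ) :
    x * y = y * x :=
  (Z_spec h hy).2.2 x (Z_spec h hx).1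

theorem Z_sq {δ : CosetVertex P₁ P₂} {x : G} (hx : x ∈ vertexZ 2 δ) : x * x = 1 := (Z_spec h hx).2.1

theorem Z_le_Q (δ : CosetVertex P₁ P₂) : vertexZ 2 δ ≤ vertexQ 2 δ := fun _ hx => (Z_spec h hx).1

theorem Z_le_normalizer (δ : CosetVertex P₁ P₂) : St δ ≤ normalizer (vertexZ 2 δ : Set G) :=
  haveI := fin h δ
  le_normalizer_sylowCenterClosure _

theorem Z_mem_conj {δ : CosetVertex P₁ P₂} {g x : G} (hg : g ∈ St δ) (hx : x ∈ vertexZ 2 δ) :
    g * x * g⁻¹ ∈ vertexZ 2 δ :=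
  conj_mem (Z_le_normalizer h δ hg) hx

theorem Q_mem_conj {δ : CosetVertex P₁ P₂} {g x : G} (hg : g ∈ St δ) (hx : x ∈ vertexQ 2 δ) :
    g * x * g⁻¹ ∈ vertexQ 2 δ :=
  conj_mem (le_normalizer_edgeQ δ hg) hx

theorem conj_smul_mem_Z {δ : CosetVertex P₁ P₂} (g : G) {x : G} (hx : x ∈ vertexZ 2 δ) :
    g * x * g⁻¹ ∈ vertexZ 2 (g • δ) := by
  rw [Amalgam55.vertexZ_smul h.charP]
  exact ⟨x, hx, rfl⟩

theorem conj_smul_mem_Z_iff {δ : CosetVertex P₁ P₂} (g : G) {x : G} :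
    g * x * g⁻¹ ∈ vertexZ 2 (g • δ) ↔ x ∈ vertexZ 2 δ := by
  refine ⟨fun hx => ?_, conj_smul_mem_Z h g⟩
  have := conj_smul_mem_Z h g⁻¹ hx
  rw [inv_smul_smul] at this
  simpa [mul_assoc] using this

theorem conj_smul_mem_Q {δ : CosetVertex P₁ P₂} (g : G) {x : G} (hx : x ∈ vertexQ 2 δ) :
    g * x * g⁻¹ ∈ vertexQ 2 (g • δ) := by
  rw [Q_smul]
  exact ⟨x, hx, rfl⟩

theorem conj_smul_mem_Q_iff {δ : CosetVertex P₁ P₂} (g : G) {x : G} :
    g * x * g⁻¹ ∈ vertexQ 2 (g • δ) ↔ x ∈ vertexQ 2 δ := by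
  refine ⟨fun hx => ?_, conj_smul_mem_Q h g⟩
  have := conj_smul_mem_Q h g⁻¹ hx
  rw [inv_smul_smul] at this
  simpa [mul_assoc] using this

theorem card_Z_smul (g : G) (δ : CosetVertex P₁ P₂) :
    Nat.card (vertexZ 2 (g • δ)) = Nat.card (vertexZ 2 δ) := by
  rw [Amalgam55.vertexZ_smul h.charP, card_map_of_injective (MulAut.conj g).injective]

theorem finZ (δ : CosetVertex P₁ P₂) : Finite (vertexZ 2 δ) :=
  haveI := finQ h δ
  Finite.of_injective (inclusion (Z_le_Q h δ)) (inclusion_injective _)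

theorem omCenter_le_Z {δ μ : CosetVertex P₁ P₂} (hadj : (cosetGraph P₁ P₂).Adj δ μ) :
    omCenter (edgeStabilizer δ μ) ≤ vertexZ 2 δ :=
  haveI := fin h δ
  omegaOne_center_le_sylowCenterClosure (isSylowOf_edge h hadj)

theorem Q_of_lt {δ μ : CosetVertex P₁ P₂}
    (hd : (cosetGraph P₁ P₂).dist δ μ < criticalDistance 2 P₁ P₂) : vertexZ 2 δ ≤ vertexQ 2 μ := by
  rw [← neighbourKernel_eq h]
  exact vertexZ_le_of_dist_lt hd

/-- `C_{G_δ}(Z_δ) = Q_δ` at a moving vertex. -/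
theorem mem_Q_of_centralizes {δ : CosetVertex P₁ P₂} (hN : IsN δ) {g : G} (hg : g ∈ St δ)
    (hc : ∀ z ∈ vertexZ 2 δ, g * z = z * g) : g ∈ vertexQ 2 δ := by
  refine mem_Q_of_fixes h hg fun ν hν => ?_
  by_contra hne
  refine (edge_facts h hν).2.2.2.1 hN (stab_le_of_move h hν ?_ hg ?_ hne)
  · intro a ha
    exact mem_centralizer_iff.2 fun w hw => ((omCenter_spec hw).2 a ha).symm
  · exact mem_centralizer_iff.2 fun w hw => (hc w (omCenter_le_Z h hν hw)).symm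

theorem Z_eq_omCenter {β α : CosetVertex P₁ P₂} (hC : IsC β) (hadj : (cosetGraph P₁ P₂).Adj β α) :
    vertexZ 2 β = omCenter (edgeStabilizer β α) := by
  refine le_antisymm ?_ (omCenter_le_Z h hadj)
  haveI := fin h β
  show sylowCenterClosure 2 _ ≤ _
  rw [sylowCenterClosure_eq]
  refine iSup_le fun T => ?_
  obtain ⟨a, ha, haT⟩ := (isSylowOf_edge h hadj).exists_conj T.2
  show omCenter (T : Subgroup G) ≤ _
  rw [← haT, ← omCenter_map]
  rintro _ ⟨x, hx, rfl⟩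
  show a * x * a⁻¹ ∈ _
  rwa [← mem_centralizer_iff.1 ((edge_facts h hadj).2.2.2.2 hC ha) x hx, mul_inv_cancel_right]

theorem C_central {β : CosetVertex P₁ P₂} (hC : IsC β) {g x : G} (hg : g ∈ St β)
    (hx : x ∈ vertexZ 2 β) : g * x = x * g := by
  obtain ⟨α, hα⟩ := exists_adj β
  rw [Z_eq_omCenter h hC hα] at hx
  exact (mem_centralizer_iff.1 ((edge_facts h hα).2.2.2.2 hC hg) x hx).symm

theorem Zc_le {β α : CosetVertex P₁ P₂} (hC : IsC β) (hadj : (cosetGraph P₁ P₂).Adj β α) :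
    vertexZ 2 β ≤ vertexZ 2 α := by
  rw [Z_eq_omCenter h hC hadj, edgeStabilizer_comm]
  exact omCenter_le_Z h hadj.symm

/-- A normal subset of `G_δ` outside `Q_δ` moves every neighbour. -/
theorem exists_mover {δ μ : CosetVertex P₁ P₂} (hadj : (cosetGraph P₁ P₂).Adj δ μ) {K : Subgroup G}
    (hK : St δ ≤ normalizer (K : Set G)) {k : G} (hk : k ∈ K) (hkS : k ∈ St δ) (hkQ : k ∉ vertexQ 2 δ) :
    ∃ k' ∈ K, k' ∈ St δ ∧ k' • μ ≠ μ := by
  obtain ⟨ν, hν, hmove⟩ : ∃ ν, (cosetGraph P₁ P₂).Adj δ ν ∧ k • ν ≠ ν := by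
    by_contra hc
    push Not at hc
    exact hkQ (mem_Q_of_fixes h hkS hc)
  obtain ⟨g, hg, rfl⟩ := exists_smul_neighbour hν hadj
  refine ⟨g * k * g⁻¹, conj_mem (hK hg) hk, mul_mem (mul_mem hg hkS) (inv_mem hg), fun e => hmove ?_⟩
  rw [mul_smul, mul_smul, inv_smul_smul] at e
  exact smul_left_cancel g e

/-- A moving vertex has no nontrivial central element in `Q`. -/
theorem fixed_bot {γ : CosetVertex P₁ P₂} (hN : IsN γ) {x : G} (hx : x ∈ vertexQ 2 γ)
    (hc : ∀ g ∈ St γ, g * x = x * g) : x = 1 := by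
  set Y := vertexQ 2 γ ⊓ centralizer (St γ : Set G)
  by_contra hx1
  have hY : Y ≠ ⊥ := fun e => hx1 (mem_bot.1 (e ▸ (⟨hx, mem_centralizer_iff.2 hc⟩ : x ∈ Y)))
  obtain ⟨β, hβ⟩ := exists_adj γ
  have hp : IsPGroup 2 Y := ((edge_facts h hβ).2.2.1.to_le (Q_le_edge h hβ)).to_le inf_le_left
  refine exists_pow_eq_one_of_ne_bot hp hY ?_
  have hle : omegaOne 2 Y ≤ omCenter (edgeStabilizer γ β) :=
    omegaOne_mono' (inf_le_inf (Q_le_edge h hβ) (centralizer_le inf_le_left))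
  refine normal_bot h hβ (hle.trans ((omegaOne_le 2 _).trans inf_le_left)) ?_ ?_
  · refine le_trans ?_ (centralizer_le_normalizer _)
    intro g hg
    exact mem_centralizer_iff.2 fun y hy =>
      (mem_centralizer_iff.1 (omegaOne_le 2 Y hy).2 g hg).symm
  · refine le_trans ?_ (centralizer_le_normalizer _)
    intro g hg
    refine mem_centralizer_iff.2 fun y hy => ?_
    have : y ∈ vertexZ 2 β := by
      rw [Z_eq_omCenter h (isC_of_adj hβ hN) hβ.symm, edgeStabilizer_comm]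
      exact hle hy
    exact (C_central h (isC_of_adj hβ hN) hg this).symm

theorem Z_mid {γ β δ : CosetVertex P₁ P₂} (hN : IsN γ) (hβ : (cosetGraph P₁ P₂).Adj γ β)
    (hδ : (cosetGraph P₁ P₂).Adj γ δ) (hne : β ≠ δ) {x : G} (hx : x ∈ vertexZ 2 β)
    (hx' : x ∈ vertexZ 2 δ) : x = 1 := by
  refine fixed_bot h hN (Z_le_Q h γ (Zc_le h (isC_of_adj hβ hN) hβ.symm hx)) ?_
  obtain ⟨t, ht, htQ⟩ := exists_edge_not_Q h hδ
  have h1 : edgeStabilizer γ β ≤ centralizer ({x} : Set G) := fun a ha =>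
    mem_centralizer_singleton_iff.2 (C_central h (isC_of_adj hβ hN) ha.2 hx)
  have h2 : t ∈ centralizer ({x} : Set G) :=
    mem_centralizer_singleton_iff.2 (C_central h (isC_of_adj hδ hN) ht.2 hx')
  exact fun g hg => mem_centralizer_singleton_iff.1
    (stab_le_of_move h hβ h1 ht.1 h2 (fun e => htQ (edge_inf_edge h hδ hβ hne.symm ht e)) hg)

theorem comm_mem' {γ β : CosetVertex P₁ P₂} (hN : IsN γ) (hβ : (cosetGraph P₁ P₂).Adj γ β) {t x : G}
    (ht : t ∈ edgeStabilizer γ β) (hx : x ∈ vertexQ 2 γ) (hx2 : x * x = 1)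
    (hxc : ∀ q ∈ vertexQ 2 γ, q * x = x * q) : x * (t * x * t⁻¹) ∈ vertexZ 2 β := by
  have hC := isC_of_adj hβ hN
  set w := t * x * t⁻¹ with hw
  by_cases htQ : t ∈ vertexQ 2 γ
  · rw [hw, hxc t htQ, mul_inv_cancel_right, hx2]; exact one_mem _
  have hwQ : w ∈ vertexQ 2 γ := Q_mem_conj h ht.1 hx
  have hw2 : w * w = 1 := by
    rw [hw, show t * x * t⁻¹ * (t * x * t⁻¹) = t * (x * x) * t⁻¹ by group, hx2]; group
  have hwc : ∀ q ∈ vertexQ 2 γ, q * w = w * q := by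
    intro q hq
    have h3 := hxc _ (Q_mem_conj h (inv_mem ht.1) hq)
    rw [inv_inv] at h3
    calc q * w = t * (t⁻¹ * q * t * x) * t⁻¹ := by rw [hw]; group
      _ = t * (x * (t⁻¹ * q * t)) * t⁻¹ := by rw [h3]
      _ = w * q := by rw [hw]; group
  have hxw : x * w = w * x := hwc x hx
  have hyQ : x * w ∈ vertexQ 2 γ := mul_mem hx hwQ
  have hyc : ∀ q ∈ vertexQ 2 γ, q * (x * w) = (x * w) * q := fun q hq => by
    calc q * (x * w) = (q * x) * w := by group
      _ = x * (q * w) := by rw [hxc q hq]; group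
      _ = (x * w) * q := by rw [hwc q hq]; group
  have hty : t * (x * w) = (x * w) * t := by
    have ht2 : t * t ∈ vertexQ 2 γ := by
      have := inv_mul_mem_Q h hβ (inv_mem ht) ht (fun e => htQ (inv_mem_iff.1 e)) htQ
      rwa [inv_inv] at this
    have h4 : t * w * t⁻¹ = x := by
      rw [hw, show t * (t * x * t⁻¹) * t⁻¹ = t * t * x * (t * t)⁻¹ by group, hxc _ ht2, mul_inv_cancel_right]
    calc t * (x * w) = (t * x * t⁻¹) * (t * w * t⁻¹) * t := by group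
      _ = w * x * t := by rw [← hw, h4]
      _ = (x * w) * t := by rw [hxw]
  rw [Z_eq_omCenter h hC hβ.symm, edgeStabilizer_comm]
  refine mem_omCenter (Q_le_edge h hβ hyQ) ?_ fun a ha => ?_
  · rw [mul_assoc, ← mul_assoc w, ← hxw, mul_assoc x w w, hw2, mul_one, hx2]
  · by_cases haQ : a ∈ vertexQ 2 γ
    · exact hyc a haQ
    · have h5 := hyc _ (inv_mul_mem_Q h hβ ht ha htQ haQ)
      calc a * (x * w) = t * ((t⁻¹ * a) * (x * w)) := by group
        _ = t * ((x * w) * (t⁻¹ * a)) := by rw [h5]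
        _ = (t * (x * w)) * (t⁻¹ * a) := by group
        _ = (x * w) * a := by rw [hty]; group

theorem comm_mem {γ β : CosetVertex P₁ P₂} (hN : IsN γ) (hβ : (cosetGraph P₁ P₂).Adj γ β) {t x : G}
    (ht : t ∈ edgeStabilizer γ β) (hx : x ∈ vertexZ 2 γ) : x * (t * x * t⁻¹) ∈ vertexZ 2 β :=
  comm_mem' h hN hβ ht (Z_spec h hx).1 (Z_spec h hx).2.1 (Z_spec h hx).2.2

theorem fix_eq {γ β : CosetVertex P₁ P₂} (hN : IsN γ) (hβ : (cosetGraph P₁ P₂).Adj γ β) {t x : G}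
    (ht : t ∈ edgeStabilizer γ β) (htQ : t ∉ vertexQ 2 γ) (hx : x ∈ vertexZ 2 γ) (hc : t * x = x * t) :
    x ∈ vertexZ 2 β := by
  rw [Z_eq_omCenter h (isC_of_adj hβ hN) hβ.symm, edgeStabilizer_comm]
  refine mem_omCenter (Q_le_edge h hβ (Z_spec h hx).1) (Z_sq h hx) fun a ha => ?_
  by_cases haQ : a ∈ vertexQ 2 γ
  · exact (Z_spec h hx).2.2 a haQ
  · have h5 := (Z_spec h hx).2.2 _ (inv_mul_mem_Q h hβ ht ha htQ haQ)
    calc a * x = t * ((t⁻¹ * a) * x) := by group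
      _ = t * (x * (t⁻¹ * a)) := by rw [h5]
      _ = (t * x) * (t⁻¹ * a) := by group
      _ = x * a := by rw [hc]; group

theorem Z_le_sup {γ β δ : CosetVertex P₁ P₂} (hN : IsN γ) (hβ : (cosetGraph P₁ P₂).Adj γ β)
    (hδ : (cosetGraph P₁ P₂).Adj γ δ) (hne : β ≠ δ) : vertexZ 2 γ ≤ vertexZ 2 β ⊔ vertexZ 2 δ := by
  haveI := fin h γ
  show sylowCenterClosure 2 _ ≤ _
  rw [sylowCenterClosure_eq]
  refine iSup_le fun T => ?_
  obtain ⟨a, ha, haT⟩ := (isSylowOf_edge h hβ).exists_conj T.2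
  show omCenter (T : Subgroup G) ≤ _
  have hν : (cosetGraph P₁ P₂).Adj γ (a • β) := adj_smul_fix hβ ha
  rw [← haT, map_edge ha, edgeStabilizer_comm, ← Z_eq_omCenter h (isC_of_adj hν hN) hν.symm]
  rcases eq_or_ne (a • β) β with e | e1
  · rw [e]; exact le_sup_left
  rcases eq_or_ne (a • β) δ with e | e2
  · rw [e]; exact le_sup_right
  obtain ⟨t, ht, htQ⟩ := exists_edge_not_Q h hβ
  have hs : t • δ = a • β := swap h hβ hδ hν hne.symm e1 e2 ht htQ
  intro x hx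
  have hx' : t⁻¹ * x * t ∈ vertexZ 2 δ := by
    have := conj_smul_mem_Z h t⁻¹ hx
    rwa [← hs, inv_smul_smul, inv_inv] at this
  have h6 := comm_mem h hN hβ ht (Zc_le h (isC_of_adj hδ hN) hδ.symm hx')
  rw [show t⁻¹ * x * t * (t * (t⁻¹ * x * t) * t⁻¹) = t⁻¹ * x * t * x by group] at h6
  have e : x = (t⁻¹ * x * t)⁻¹ * (t⁻¹ * x * t * x) := by group
  rw [e]
  exact mul_mem (inv_mem (mem_sup_right hx')) (mem_sup_left h6)

theorem sup_le_Z {γ β δ : CosetVertex P₁ P₂} (hN : IsN γ) (hβ : (cosetGraph P₁ P₂).Adj γ β)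
    (hδ : (cosetGraph P₁ P₂).Adj γ δ) : vertexZ 2 β ⊔ vertexZ 2 δ ≤ vertexZ 2 γ :=
  sup_le (Zc_le h (isC_of_adj hβ hN) hβ.symm) (Zc_le h (isC_of_adj hδ hN) hδ.symm)

theorem card_Z {γ β : CosetVertex P₁ P₂} (hN : IsN γ) (hβ : (cosetGraph P₁ P₂).Adj γ β) :
    Nat.card (vertexZ 2 γ) = Nat.card (vertexZ 2 β) * Nat.card (vertexZ 2 β) := by
  obtain ⟨δ, hδ, hne⟩ := exists_other h hβ
  obtain ⟨g, -, hg⟩ := exists_smul_neighbour hδ hβ
  have hcard : Nat.card (vertexZ 2 δ) = Nat.card (vertexZ 2 β) := by rw [← hg, card_Z_smul h]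
  have hn : vertexZ 2 β ≤ normalizer (vertexZ 2 δ : Set G) := fun x hx =>
    centralizer_le_normalizer _ (mem_centralizer_iff.2 fun y hy =>
      Z_comm h (sup_le_Z h hN hβ hδ (mem_sup_right hy)) (sup_le_Z h hN hβ hδ (mem_sup_left hx)))
  let f : vertexZ 2 β × vertexZ 2 δ → vertexZ 2 γ := fun p =>
    ⟨(p.1 : G) * (p.2 : G), sup_le_Z h hN hβ hδ (mul_mem (mem_sup_left p.1.2) (mem_sup_right p.2.2))⟩
  have hf : Function.Bijective f := by
    constructor
    · rintro ⟨⟨a, ha⟩, ⟨b, hb⟩⟩ ⟨⟨c, hc⟩, ⟨d, hd⟩⟩ e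
      have e' : a * b = c * d := congrArg Subtype.val e
      have e2 : c⁻¹ * a = d * b⁻¹ := by
        calc c⁻¹ * a = c⁻¹ * (a * b) * b⁻¹ := by group
          _ = d * b⁻¹ := by rw [e']; group
      have h1 := Z_mid h hN hβ hδ hne.symm (mul_mem (inv_mem hc) ha) (e2 ▸ mul_mem hd (inv_mem hb))
      obtain rfl : c = a := inv_mul_eq_one.1 h1
      obtain rfl : b = d := mul_left_cancel e'
      rfl
    · rintro ⟨x, hx⟩
      have h1 : x ∈ ((vertexZ 2 β ⊔ vertexZ 2 δ : Subgroup G) : Set G) := Z_le_sup h hN hβ hδ hne.symm hx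
      rw [coe_mul_of_left_le_normalizer_right _ _ hn] at h1
      obtain ⟨a, ha, b, hb, rfl⟩ := h1
      exact ⟨(⟨a, ha⟩, ⟨b, hb⟩), rfl⟩
  rw [← Nat.card_eq_of_bijective f hf, Nat.card_prod, hcard]

/-- `Ω₁(Z(Q_γ)) = Z_γ` at a moving vertex. -/
theorem mem_Z_of_central {γ : CosetVertex P₁ P₂} (hN : IsN γ) {x : G} (hx : x ∈ vertexQ 2 γ)
    (hx2 : x * x = 1) (hxc : ∀ q ∈ vertexQ 2 γ, q * x = x * q) : x ∈ vertexZ 2 γ := by
  haveI := fin h γ
  haveI := finQ h γ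
  obtain ⟨β, hβ⟩ := exists_adj γ
  obtain ⟨δ, hδ, hne⟩ := exists_other h hβ
  obtain ⟨t, ht, htQ⟩ := exists_edge_not_Q h hβ
  obtain ⟨s, hs, hsQ⟩ := exists_edge_not_Q h hδ
  set P := fun a : G => a ∈ vertexQ 2 γ ∧ a * a = 1 ∧ ∀ q ∈ vertexQ 2 γ, q * a = a * q with hP
  have Pc : ∀ g ∈ St γ, ∀ a, P a → P (g * a * g⁻¹) := by
    rintro g hg a ⟨h1, h2, h3⟩
    refine ⟨Q_mem_conj h hg h1,
      by rw [show g * a * g⁻¹ * (g * a * g⁻¹) = g * (a * a) * g⁻¹ by group, h2]; group, fun q hq => ?_⟩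
    have h4 := h3 _ (Q_mem_conj h (inv_mem hg) hq)
    rw [inv_inv] at h4
    calc q * (g * a * g⁻¹) = g * (g⁻¹ * q * g * a) * g⁻¹ := by group
      _ = g * (a * (g⁻¹ * q * g)) * g⁻¹ := by rw [h4]
      _ = g * a * g⁻¹ * q := by group
  let M : Subgroup G :=
    { carrier := {g | g ∈ St γ ∧ ∀ a, P a → a * (g * a * g⁻¹) ∈ vertexZ 2 γ}
      one_mem' := ⟨one_mem _, fun a ha => by simp [ha.2.1, one_mem]⟩
      mul_mem' := fun {g k} hg hk => ⟨mul_mem hg.1 hk.1, fun a ha => by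
        have hb := Pc k hk.1 a ha
        have := mul_mem (hk.2 a ha) (hg.2 _ hb)
        rw [show a * (k * a * k⁻¹) * (k * a * k⁻¹ * (g * (k * a * k⁻¹) * g⁻¹))
          = a * ((k * a * k⁻¹) * (k * a * k⁻¹)) * (g * (k * a * k⁻¹) * g⁻¹) by group, hb.2.1, mul_one] at this
        rwa [show g * k * a * (g * k)⁻¹ = g * (k * a * k⁻¹) * g⁻¹ by group]⟩
      inv_mem' := fun {g} hg => ⟨inv_mem hg.1, fun a ha => by
        have hb := Pc g⁻¹ (inv_mem hg.1) a ha
        rw [inv_inv] at hb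
        have := hg.2 _ hb
        rw [show g * (g⁻¹ * a * g) * g⁻¹ = a by group] at this
        rw [inv_inv, hb.2.2 a ha.1]
        exact this⟩ }
  have hM : St γ ≤ M := by
    refine stab_le_of_move h hβ (K := M) ?_ hs.1 ?_ (fun e => hsQ (edge_inf_edge h hδ hβ hne hs e))
    · exact fun g hg => ⟨hg.1, fun a ha =>
        sup_le_Z h hN hβ hβ (mem_sup_left (comm_mem' h hN hβ hg ha.1 ha.2.1 ha.2.2))⟩
    · exact ⟨hs.1, fun a ha =>
        sup_le_Z h hN hδ hδ (mem_sup_left (comm_mem' h hN hδ hs ha.1 ha.2.1 ha.2.2))⟩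
  obtain ⟨⟨d, hd⟩, hd3⟩ := exists_prime_orderOf_dvd_card' (G := ↥(St γ)) 3
    ⟨_, (edge_facts h hβ).1⟩
  rw [← Subgroup.orderOf_coe] at hd3
  change orderOf d = 3 at hd3
  -- an element of `P` fixed by `d` is trivial
  have key : ∀ a, P a → d * a = a * d → a = 1 := by
    rintro a ⟨ha, ha2, hac⟩ had
    set K := vertexQ 2 γ ⊔ zpowers d
    have hKS : K ≤ St γ := sup_le (pCoreOf_le _ _) (zpowers_le.2 hd)
    have hKc : K ≤ centralizer ({a} : Set G) := sup_le
      (fun q hq => mem_centralizer_singleton_iff.2 (hac q hq))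
      (zpowers_le.2 (mem_centralizer_singleton_iff.2 had))
    have hKn : (K.subgroupOf (St γ)).Normal := by
      haveI : Finite K := Finite.of_injective (inclusion hKS) (inclusion_injective _)
      have h1 : Nat.card (vertexQ 2 γ) ∣ Nat.card K := card_dvd_of_le le_sup_left
      have h2 : 3 ∣ Nat.card K := by
        rw [← hd3, ← Nat.card_zpowers]; exact card_dvd_of_le le_sup_right
      obtain ⟨m, hm⟩ := IsPGroup.iff_card.1 ((edge_facts h hβ).2.2.1.to_le (Q_le_edge h hβ))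
      have h3 : 3 * Nat.card (vertexQ 2 γ) ∣ Nat.card K := by
        refine Nat.Coprime.mul_dvd_of_dvd_of_dvd ?_ h2 h1
        rw [hm]
        exact Nat.Coprime.pow_right _ (by norm_num)
      have h4 := card_mul_index (K.subgroupOf (St γ))
      rw [Nat.card_congr (subgroupOfEquivOfLe hKS).toEquiv, (edge_facts h hβ).1, (edge_facts h hβ).2.1] at h4
      obtain ⟨n, hn⟩ := h3
      rw [hn] at h4
      have h5 : n * (K.subgroupOf (St γ)).index = 2 := by
        refine Nat.eq_of_mul_eq_mul_left (n := 3 * Nat.card (vertexQ 2 γ)) (by have := Nat.card_pos (α := vertexQ 2 γ); omega) ?_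
        rw [← mul_assoc, h4]; ring
      have h6 : (K.subgroupOf (St γ)).index ∣ 2 := ⟨n, by rw [← h5, mul_comm]⟩
      rcases (Nat.dvd_prime Nat.prime_two).1 h6 with e | e
      · rw [index_eq_one.1 e]; infer_instance
      · exact normal_of_index_eq_two e
    have hdK : t⁻¹ * d * t ∈ K := by
      have := hKn.conj_mem ⟨d, hd⟩ (mem_sup_right (mem_zpowers d)) ⟨t⁻¹, inv_mem ht.1⟩
      simpa [mem_subgroupOf] using this
    have hdt : d * (t * a * t⁻¹) = (t * a * t⁻¹) * d := by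
      have := mem_centralizer_singleton_iff.1 (hKc hdK)
      calc d * (t * a * t⁻¹) = t * (t⁻¹ * d * t * a) * t⁻¹ := by group
        _ = t * (a * (t⁻¹ * d * t)) * t⁻¹ := by rw [this]
        _ = (t * a * t⁻¹) * d := by group
    have hy := comm_mem' h hN hβ ht ha ha2 hac
    have hdy : d * (a * (t * a * t⁻¹)) * d⁻¹ = a * (t * a * t⁻¹) := by
      rw [← mul_assoc d, had, mul_assoc a d, hdt]; group
    have hdβ : d • β ≠ β := by
      intro e
      obtain ⟨m, hm⟩ := (edge_facts h hβ).2.2.1 ⟨d, hd, e⟩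
      have h7 : d ^ 2 ^ m = 1 := congrArg Subtype.val hm
      have h8 := orderOf_dvd_of_pow_eq_one h7
      rw [hd3] at h8
      have := Nat.prime_three.dvd_of_dvd_pow h8
      omega
    have hy' := conj_smul_mem_Z h d hy
    rw [hdy] at hy'
    have h1 := Z_mid h hN hβ (adj_smul_fix hβ hd) hdβ.symm hy hy'
    have hta : t * a = a * t := by
      have : t * a * t⁻¹ = a := (eq_inv_of_mul_eq_one_right h1).trans (mul_self_inv ha2)
      calc t * a = t * a * t⁻¹ * t := by group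
        _ = a * t := by rw [this]
    refine fixed_bot h hN ha fun g hg => mem_centralizer_singleton_iff.1
      (stab_le_of_move h hβ (K := centralizer ({a} : Set G)) ?_ hd (mem_centralizer_singleton_iff.2 had) hdβ hg)
    intro g hg
    refine mem_centralizer_singleton_iff.2 ?_
    by_cases hgQ : g ∈ vertexQ 2 γ
    · exact hac g hgQ
    · have h5 := hac _ (inv_mul_mem_Q h hβ ht hg htQ hgQ)
      calc g * a = t * ((t⁻¹ * g) * a) := by group
        _ = t * (a * (t⁻¹ * g)) := by rw [h5]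
        _ = (t * a) * (t⁻¹ * g) := by group
        _ = a * g := by rw [hta]; group
  have hx' : P x := ⟨hx, hx2, hxc⟩
  have h1 := Pc d hd x hx'
  have hd2 : d * d ∈ St γ := mul_mem hd hd
  have h2 := Pc _ hd2 x hx'
  set y := d * x * d⁻¹ with hy
  set z := d * d * x * (d * d)⁻¹ with hz
  have hp : x * y * z = 1 := by
    refine key _ ⟨mul_mem (mul_mem hx h1.1) h2.1, ?_, fun q hq => ?_⟩ ?_
    · have e1 : y * x = x * y := hxc y h1.1
      have e2 : z * x = x * z := hxc z h2.1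
      have e3 : z * y = y * z := h1.2.2 z h2.1
      calc x * y * z * (x * y * z) = x * y * (z * x) * y * z := by group
        _ = x * y * (x * z) * y * z := by rw [e2]
        _ = x * (y * x) * (z * y) * z := by group
        _ = x * (x * y) * (y * z) * z := by rw [e1, e3]
        _ = (x * x) * (y * y) * (z * z) := by group
        _ = 1 := by rw [hx2, h1.2.1, h2.2.1]; simp
    · calc q * (x * y * z) = (q * x) * y * z := by group
        _ = x * (q * y) * z := by rw [hxc q hq]; group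
        _ = x * y * (q * z) := by rw [h1.2.2 q hq]; group
        _ = x * y * z * q := by rw [h2.2.2 q hq]; group
    · have e3 : d ^ 3 = 1 := hd3 ▸ pow_orderOf_eq_one d
      have hz' : d * z * d⁻¹ = x := by
        rw [hz, show d * (d * d * x * (d * d)⁻¹) * d⁻¹ = d ^ 3 * x * (d ^ 3)⁻¹ by
          simp [pow_succ, mul_assoc], e3]
        group
      calc d * (x * y * z) = (d * x * d⁻¹) * (d * y * d⁻¹) * (d * z * d⁻¹) * d := by group
        _ = y * z * x * d := by rw [hz', ← hy, show d * y * d⁻¹ = z by rw [hy, hz]; group]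
        _ = x * y * z * d := by
          rw [mul_assoc y, hxc z h2.1, ← mul_assoc y, hxc y h1.1]
  have e : x = (x * y * z)⁻¹ * ((x * y) * (x * z)) := by
    rw [show (x * y * z)⁻¹ * ((x * y) * (x * z)) = z⁻¹ * x * z by group, mul_assoc, ← hxc z h2.1]
    group
  rw [e, hp, inv_one, one_mul]
  exact mul_mem ((hM hd).2 x hx') ((hM hd2).2 x hx')

end Cfsg.Agent.Lib.Goldschmidt73
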