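import Mathlib
import Cfsg.Agent.Lib.Goldschmidt73.Centre

/-!
# Goldschmidt amalgams: walks, their conjugacy, and critical walks
-/

set_option autoImplicit false

namespace Cfsg.Agent.Lib.Goldschmidt73

open Cfsg Subgroup Cfsg.Agent.Lib.Amalgam

variable {G : Type*} [Group G] {P₁ P₂ : Subgroup G}

local notation "St" => MulAction.stabilizer G
local notation "bb" => criticalDistance 2 P₁ P₂

/-- A sequence of adjacent vertices. -/
def IsPath (p : ℕ → CosetVertex P₁ P₂) (j : ℕ) : Prop :=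
  ∀ i < j, (cosetGraph P₁ P₂).Adj (p i) (p (i + 1))

/-- A path without backtracking. -/
def IsWalk (p : ℕ → CosetVertex P₁ P₂) (j : ℕ) : Prop :=
  IsPath p j ∧ ∀ i, i + 2 ≤ j → p (i + 2) ≠ p i

/-- Prepend a vertex. -/
def consW {α : Type*} (x : α) (p : ℕ → α) : ℕ → α := fun i => if i = 0 then x else p (i - 1)

/-- Append a vertex after the position `j`. -/
def snocW {α : Type*} (p : ℕ → α) (j : ℕ) (x : α) : ℕ → α := fun i => if i ≤ j then p i else x

theorem consW_zero {α : Type*} (x : α) (p : ℕ → α) : consW x p 0 = x := rfl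

theorem consW_succ {α : Type*} (x : α) (p : ℕ → α) (i : ℕ) : consW x p (i + 1) = p i := by
  simp [consW]

theorem snocW_le {α : Type*} (p : ℕ → α) {j i : ℕ} (x : α) (hi : i ≤ j) : snocW p j x i = p i := by
  simp [snocW, hi]

theorem snocW_succ {α : Type*} (p : ℕ → α) (j : ℕ) (x : α) : snocW p j x (j + 1) = x := by
  simp [snocW]

variable {p q : ℕ → CosetVertex P₁ P₂} {j : ℕ}

theorem IsPath.mono (hp : IsPath p j) {k : ℕ} (hk : k ≤ j) : IsPath p k := fun i hi => hp i (by omega)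

theorem IsWalk.mono (hp : IsWalk p j) {k : ℕ} (hk : k ≤ j) : IsWalk p k :=
  ⟨hp.1.mono hk, fun i hi => hp.2 i (by omega)⟩

theorem IsPath.shift (hp : IsPath p j) (c : ℕ) {k : ℕ} (hk : k + c ≤ j) : IsPath (fun i => p (i + c)) k := by
  intro i hi
  have := hp (i + c) (by omega)
  rwa [show i + c + 1 = i + 1 + c by omega] at this

theorem IsWalk.shift (hp : IsWalk p j) (c : ℕ) {k : ℕ} (hk : k + c ≤ j) : IsWalk (fun i => p (i + c)) k := by
  refine ⟨hp.1.shift c hk, fun i hi => ?_⟩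
  have := hp.2 (i + c) (by omega)
  rwa [show i + c + 2 = i + 2 + c by omega] at this

theorem IsPath.rev (hp : IsPath p j) : IsPath (fun i => p (j - i)) j := by
  intro i hi
  have := (hp (j - (i + 1)) (by omega)).symm
  rwa [show j - (i + 1) + 1 = j - i by omega] at this

theorem IsWalk.rev (hp : IsWalk p j) : IsWalk (fun i => p (j - i)) j := by
  refine ⟨hp.1.rev, fun i hi => ?_⟩
  have := (hp.2 (j - (i + 2)) (by omega)).symm
  rwa [show j - (i + 2) + 2 = j - i by omega] at this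

theorem IsPath.cons (hp : IsPath p j) {x : CosetVertex P₁ P₂} (hx : (cosetGraph P₁ P₂).Adj x (p 0)) :
    IsPath (consW x p) (j + 1) := by
  intro i hi
  rcases i with _ | i
  · simpa [consW] using hx
  · rw [consW_succ, consW_succ]; exact hp i (by omega)

theorem IsWalk.cons (hp : IsWalk p j) {x : CosetVertex P₁ P₂} (hx : (cosetGraph P₁ P₂).Adj x (p 0))
    (hne : 1 ≤ j → p 1 ≠ x) : IsWalk (consW x p) (j + 1) := by
  refine ⟨hp.1.cons hx, fun i hi => ?_⟩
  rcases i with _ | i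
  · rw [consW_succ, consW_zero]; exact hne (by omega)
  · show consW x p ((i + 2) + 1) ≠ _
    rw [consW_succ, consW_succ]; exact hp.2 i (by omega)

theorem IsPath.snoc (hp : IsPath p j) {x : CosetVertex P₁ P₂} (hx : (cosetGraph P₁ P₂).Adj (p j) x) :
    IsPath (snocW p j x) (j + 1) := by
  intro i hi
  rcases Nat.lt_or_ge i j with h | h
  · rw [snocW_le _ _ h.le, snocW_le _ _ h]; exact hp i h
  · obtain rfl : i = j := by omega
    rw [snocW_le _ _ le_rfl, snocW_succ]; exact hx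

theorem IsWalk.snoc (hp : IsWalk p j) {x : CosetVertex P₁ P₂} (hx : (cosetGraph P₁ P₂).Adj (p j) x)
    (hne : 1 ≤ j → x ≠ p (j - 1)) : IsWalk (snocW p j x) (j + 1) := by
  refine ⟨hp.1.snoc hx, fun i hi => ?_⟩
  rw [snocW_le _ _ (by omega : i ≤ j)]
  rcases Nat.lt_or_ge (i + 1) j with h | h
  · rw [snocW_le _ _ (by omega : i + 2 ≤ j)]; exact hp.2 i (by omega)
  · obtain rfl : i + 1 = j := by omega
    rw [snocW_succ]; simpa using hne (by omega)

theorem IsPath.adj_pred (hp : IsPath p j) {i : ℕ} (h1 : 1 ≤ i) (hi : i ≤ j) :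
    (cosetGraph P₁ P₂).Adj (p (i - 1)) (p i) := by
  have := hp (i - 1) (by omega)
  rwa [show i - 1 + 1 = i by omega] at this

theorem IsPath.isLeft_even (hp : IsPath p j) : ∀ {k : ℕ}, 2 * k ≤ j → (p (2 * k)).isLeft = (p 0).isLeft := by
  intro k
  induction k with
  | zero => intro; rfl
  | succ k ih =>
    intro hk
    have h1 := adj_isLeft (hp (2 * k) (by omega))
    have h2 := adj_isLeft (hp (2 * k + 1) (by omega))
    rw [show 2 * (k + 1) = 2 * k + 1 + 1 by omega, ← ih (by omega), h1, h2]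
    simp

theorem IsPath.isLeft_odd (hp : IsPath p j) {k : ℕ} (hk : 2 * k + 1 ≤ j) :
    (p (2 * k + 1)).isLeft = !(p 0).isLeft := by
  rw [← hp.isLeft_even (k := k) (by omega), adj_isLeft (hp (2 * k) (by omega))]
  simp

theorem IsPath.isLeft_congr (hp : IsPath p j) (hq : IsPath q j) (h0 : (p 0).isLeft = (q 0).isLeft) :
    ∀ {i : ℕ}, i ≤ j → (p i).isLeft = (q i).isLeft := by
  intro i
  induction i with
  | zero => intro; exact h0
  | succ i ih =>
    intro hi
    have h1 := adj_isLeft (hp i (by omega)).symm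
    have h2 := adj_isLeft (hq i (by omega)).symm
    rw [h1, h2, ih (by omega)]

/-- A reference element for extending walks that end at the kind `τ`. -/
def Ref (P₁ P₂ : Subgroup G) (τ : Bool) (L : ℕ) : Prop :=
  ∃ (p : ℕ → CosetVertex P₁ P₂) (g : G), IsWalk p L ∧ (p L).isLeft = τ ∧
    (∀ i ≤ L, g ∈ St (p i)) ∧ g ∉ vertexQ 2 (p L)

theorem Ref.mono {τ : Bool} {L : ℕ} (hr : Ref P₁ P₂ τ L) {L' : ℕ} (hL : L' ≤ L) : Ref P₁ P₂ τ L' := by
  obtain ⟨p, g, hp, hτ, hg, hgQ⟩ := hr
  refine ⟨fun i => p (i + (L - L')), g, hp.shift _ (by omega), ?_, fun i hi => hg _ (by omega), ?_⟩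
  · show (p (L' + (L - L'))).isLeft = τ
    rwa [Nat.add_sub_cancel' hL]
  · show g ∉ vertexQ 2 (p (L' + (L - L')))
    rwa [Nat.add_sub_cancel' hL]

variable (h : Hyp P₁ P₂)
include h

theorem exists_walk (x y : CosetVertex P₁ P₂) : ∀ n, ∃ p, IsWalk p n ∧ p 0 = x ∧ (1 ≤ n → p 1 ≠ y) := by
  intro n
  induction n with
  | zero => exact ⟨fun _ => x, ⟨fun i hi => by omega, fun i hi => by omega⟩, rfl, by omega⟩
  | succ n ih =>
    obtain ⟨p, hp, h0, h1⟩ := ih
    rcases Nat.eq_zero_or_pos n with rfl | hn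
    · obtain ⟨μ, hμ⟩ := exists_adj x
      obtain ⟨ν, hν, hne⟩ : ∃ ν, (cosetGraph P₁ P₂).Adj x ν ∧ ν ≠ y := by
        rcases eq_or_ne μ y with e | e
        · subst e; exact exists_other h hμ
        · exact ⟨μ, hμ, e⟩
      exact ⟨snocW p 0 ν, hp.snoc (by rwa [h0]) (by omega), by rw [snocW_le _ _ le_rfl, h0],
        fun _ => by rw [snocW_succ]; exact hne⟩
    · obtain ⟨ν, hν, hne⟩ := exists_other h (hp.1.adj_pred hn le_rfl).symm
      exact ⟨snocW p n ν, hp.snoc hν (fun _ => hne), by rw [snocW_le _ _ (Nat.zero_le _), h0],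
        fun _ => by rw [snocW_le _ _ hn]; exact h1 hn⟩

/-- Walks of bounded length with the same kind of start are conjugate, given the two reference elements. -/
theorem transitive {L : ℕ} (hN : Ref P₁ P₂ true L) (hC : Ref P₁ P₂ false L) :
    ∀ {j : ℕ}, j ≤ L + 1 → ∀ {p q : ℕ → CosetVertex P₁ P₂}, IsWalk p j → IsWalk q j →
      (p 0).isLeft = (q 0).isLeft → ∃ g : G, ∀ i ≤ j, g • p i = q i := by
  intro j
  induction j with
  | zero =>
    intro _ p q _ _ h0
    obtain ⟨g, hg⟩ := exists_smul_same_side h0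
    exact ⟨g, fun i hi => by rw [Nat.le_zero.1 hi]; exact hg⟩
  | succ j ih =>
    intro hj p q hp hq h0
    obtain ⟨g, hg⟩ := ih (by omega) (hp.mono (by omega)) (hq.mono (by omega)) h0
    have hadj : (cosetGraph P₁ P₂).Adj (q j) (g • p (j + 1)) := by
      rw [← hg j le_rfl]; exact adj_smul g (hp.1 j (by omega))
    rcases Nat.eq_zero_or_pos j with rfl | hjp
    · obtain ⟨a, ha, hae⟩ := exists_smul_neighbour hadj (hq.1 0 (by omega))
      refine ⟨a * g, fun i hi => ?_⟩
      rcases Nat.le_one_iff_eq_zero_or_eq_one.1 hi with rfl | rfl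
      · rw [mul_smul, hg 0 le_rfl]; exact ha
      · rw [mul_smul]; exact hae
    rcases eq_or_ne (g • p (j + 1)) (q (j + 1)) with e | hne
    · refine ⟨g, fun i hi => ?_⟩
      rcases Nat.lt_or_ge i (j + 1) with h1 | h1
      · exact hg i (by omega)
      · obtain rfl : i = j + 1 := by omega
        exact e
    obtain ⟨R, a, hR, hRτ, haR, haQ⟩ : Ref P₁ P₂ (q j).isLeft j := by
      cases hτ : (q j).isLeft
      · exact hC.mono (by omega)
      · exact hN.mono (by omega)
    have hR0 : (R 0).isLeft = (q 0).isLeft := by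
      have h1 := hR.1
      have h2 := hq.1.mono (show j ≤ j + 1 by omega)
      rcases Nat.even_or_odd' j with ⟨k, rfl | rfl⟩
      · rw [← h1.isLeft_even le_rfl, ← h2.isLeft_even le_rfl, hRτ]
      · have e1 := h1.isLeft_odd le_rfl
        rw [hRτ, h2.isLeft_odd le_rfl] at e1
        exact (Bool.not_inj e1).symm
    obtain ⟨c, hc⟩ := ih (by omega) hR (hq.mono (by omega)) hR0
    set a' := c * a * c⁻¹ with ha'
    have hfix : ∀ i ≤ j, a' • q i = q i := fun i hi => by
      rw [ha', mul_smul, mul_smul, ← hc i hi, inv_smul_smul, MulAction.mem_stabilizer_iff.1 (haR i hi)]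
    have hQ : a' ∉ vertexQ 2 (q j) := by
      rw [← hc j le_rfl, ha', conj_smul_mem_Q_iff h]
      exact haQ
    have hprev : (cosetGraph P₁ P₂).Adj (q j) (q (j - 1)) := (hq.1.adj_pred hjp (by omega)).symm
    have hn1 : g • p (j + 1) ≠ q (j - 1) := by
      rw [← hg (j - 1) (by omega)]
      intro e
      have := hp.2 (j - 1) (by omega)
      rw [show j - 1 + 2 = j + 1 by omega] at this
      exact this (smul_left_cancel g e)
    have hn2 : q (j + 1) ≠ q (j - 1) := by
      have := hq.2 (j - 1) (by omega)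
      rwa [show j - 1 + 2 = j + 1 by omega] at this
    have hsw := swap h hprev hadj (hq.1 j (by omega)) hn1 hn2 hne.symm (g := a')
      ⟨hfix j le_rfl, hfix (j - 1) (by omega)⟩ hQ
    refine ⟨a' * g, fun i hi => ?_⟩
    rw [mul_smul]
    rcases Nat.lt_or_ge i (j + 1) with h1 | h1
    · rw [hg i (by omega)]; exact hfix i (by omega)
    · obtain rfl : i = j + 1 := by omega
      exact hsw

/-- If long enough walks are conjugate, the ends of such a walk between centralizing vertices share no `Z`. -/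
theorem no_shared {L m : ℕ} (hN : Ref P₁ P₂ true L) (hC : Ref P₁ P₂ false L) (hm : m ≤ L + 1)
    {k : ℕ} (hmk : m = 2 * k + 2) {w : ℕ → CosetVertex P₁ P₂} (hw : IsWalk w m) (hw0 : IsC (w 0)) {x : G}
    (hx0 : x ∈ vertexZ 2 (w 0)) (hxm : x ∈ vertexZ 2 (w m)) : x = 1 := by
  set β := w 0
  set α := w 1
  have hβα : (cosetGraph P₁ P₂).Adj β α := hw.1 0 (by omega)
  have hαN : IsN α := isN_of_adj hβα hw0
  obtain ⟨ν, hν, hνβ⟩ := exists_other h hβα.symm
  obtain ⟨ρ, hρ, hρν, hρβ⟩ := exists_third h hν hβα.symm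
  obtain ⟨p, hp, hp0, hp1⟩ := exists_walk h ρ α (2 * k)
  have mk : ∀ y, (cosetGraph P₁ P₂).Adj α y → ρ ≠ y →
      IsWalk (consW y (consW α p)) m := by
    intro y hy hne
    rw [hmk]
    refine (hp.cons (by rwa [hp0]) hp1).cons (by rw [consW_zero]; exact hy.symm) fun _ => ?_
    rw [consW_succ, hp0]; exact hne
  have hq := (mk β hβα.symm hρβ).rev
  have hq' := (mk ν hν hρν).rev
  set q := fun i => consW β (consW α p) (m - i) with hqdef
  set q' := fun i => consW ν (consW α p) (m - i) with hqdef'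
  have e0 : q 0 = q' 0 := by
    simp only [hqdef, hqdef', hmk, Nat.sub_zero, show 2 * k + 2 = (2 * k + 1) + 1 by omega, consW_succ]
  have em : q m = β := by simp [hqdef, consW]
  have em' : q' m = ν := by simp [hqdef', consW]
  have hside : (w 0).isLeft = (q 0).isLeft := by
    have := hq.1.isLeft_even (k := k + 1) (by omega)
    rw [show 2 * (k + 1) = m by omega] at this
    rw [← this]
    exact congrArg Sum.isLeft em.symm
  obtain ⟨c, hc⟩ := transitive h hN hC hm hw hq hside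
  obtain ⟨g, hg⟩ := transitive h hN hC hm hq hq' (by rw [e0])
  set y := c * x * c⁻¹
  have hy0 : y ∈ vertexZ 2 (q 0) := by rw [← hc 0 (Nat.zero_le _)]; exact conj_smul_mem_Z h c hx0
  have hym : y ∈ vertexZ 2 β := by rw [← em, ← hc m le_rfl]; exact conj_smul_mem_Z h c hxm
  have hqC : IsC (q 0) := hside.symm.trans hw0
  have hgf : g ∈ St (q 0) := (hg 0 (Nat.zero_le _)).trans e0.symm
  have hyν : y ∈ vertexZ 2 ν := by
    have h1 := conj_smul_mem_Z h g hym
    rw [C_central h hqC hgf hy0, mul_inv_cancel_right] at h1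
    rwa [show g • β = ν by rw [← em, ← em']; exact hg m le_rfl] at h1
  have := Z_mid h hαN hν hβα.symm hνβ hyν hym
  simpa [y, mul_inv_eq_one] using this

/-! ### Distances along paths -/

omit h in
theorem dist_path_le (hgen : P₁ ⊔ P₂ = ⊤) (hp : IsPath p j) (a : ℕ) :
    ∀ {n : ℕ}, a + n ≤ j → (cosetGraph P₁ P₂).dist (p a) (p (a + n)) ≤ n := by
  intro n
  induction n with
  | zero => intro; simp
  | succ n ih =>
    intro hn
    have h1 := (connected hgen).dist_triangle (u := p a) (v := p (a + n)) (w := p (a + n + 1))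
    rw [SimpleGraph.dist_eq_one_iff_adj.2 (hp (a + n) (by omega))] at h1
    have := ih (by omega)
    rw [← add_assoc]
    omega

theorem dist_le_of_path (hp : IsPath p j) {a c d : ℕ} (ha : a ≤ j) (hc : c ≤ j) (h1 : a ≤ c + d)
    (h2 : c ≤ a + d) : (cosetGraph P₁ P₂).dist (p a) (p c) ≤ d := by
  rcases Nat.le_total a c with hac | hac
  · have := dist_path_le h.charP.1.1 hp a (n := c - a) (by omega)
    rw [show a + (c - a) = c by omega] at this
    omega
  · have := dist_path_le h.charP.1.1 hp c (n := a - c) (by omega)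
    rw [show c + (a - c) = a by omega, SimpleGraph.dist_comm] at this
    omega

/-- `Z` of a vertex on a short path lies in the other `Q`. -/
theorem near (hp : IsPath p j) {a c : ℕ} (ha : a ≤ j) (hc : c ≤ j) (h1 : a + 1 ≤ c + bb)
    (h2 : c + 1 ≤ a + bb) : vertexZ 2 (p a) ≤ vertexQ 2 (p c) := by
  refine Q_of_lt h ?_
  have := dist_le_of_path h hp ha hc (d := bb - 1) (by omega) (by omega)
  omega

theorem near_adj (hp : IsPath p j) {a c : ℕ} (ha : a ≤ j) (hc : c ≤ j) (h1 : a + 2 ≤ c + bb)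
    (h2 : c + 2 ≤ a + bb) {ν : CosetVertex P₁ P₂} (hν : (cosetGraph P₁ P₂).Adj (p a) ν) :
    vertexZ 2 ν ≤ vertexQ 2 (p c) := by
  refine Q_of_lt h ?_
  have := dist_le_of_path h hp ha hc (d := bb - 2) (by omega) (by omega)
  have h3 := (conn h).dist_triangle (u := ν) (v := p a) (w := p c)
  rw [SimpleGraph.dist_eq_one_iff_adj.2 hν.symm] at h3
  omega

/-! ### Critical walks -/

omit h in
/-- A critical walk. -/
def Crit (p : ℕ → CosetVertex P₁ P₂) : Prop :=
  IsPath p bb ∧ ¬ vertexZ 2 (p 0) ≤ vertexQ 2 (p bb)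

theorem exists_crit : ∃ p : ℕ → CosetVertex P₁ P₂, Crit p := by
  have hne : {n : ℕ | ∃ δ μ : CosetVertex P₁ P₂, (cosetGraph P₁ P₂).dist δ μ = n ∧
      ¬ vertexZ 2 δ ≤ neighbourKernel μ}.Nonempty := by
    by_contra he
    let δ : CosetVertex P₁ P₂ := Sum.inl ((1 : G) : G ⧸ P₁)
    refine Amalgam55.vertexZ_ne_bot h.charP δ (eq_bot_of_le_all_stabilizers h.charP.1.2.2.2 fun v => ?_)
    refine le_trans ?_ (neighbourKernel_le_stabilizer v)
    by_contra hv
    exact he ⟨_, δ, v, rfl, hv⟩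
  obtain ⟨α, α', hd, hc⟩ := Nat.sInf_mem hne
  obtain ⟨w, hw⟩ := (conn h).exists_walk_length_eq_dist α α'
  have hlen : w.length = bb := hw.trans hd
  refine ⟨w.getVert, fun i hi => w.adj_getVert_succ (by omega), ?_⟩
  rw [neighbourKernel_eq h] at hc
  rwa [SimpleGraph.Walk.getVert_zero, ← hlen, SimpleGraph.Walk.getVert_length]

theorem crit_pos (hp : Crit p) : 0 < bb := by
  by_contra hb
  have e : bb = 0 := by omega
  exact hp.2 (by rw [e]; exact Z_le_Q h _)

theorem crit_isN (hp : Crit p) : IsN (p 0) := by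
  rcases isN_or_isC (p 0) with hN | hC
  · exact hN
  have hb := crit_pos h hp
  exact absurd ((Zc_le h hC (hp.1 0 hb)).trans (near h hp.1 (by omega) le_rfl (by omega) (by omega))) hp.2

theorem crit_dist (hp : Crit p) : (cosetGraph P₁ P₂).dist (p 0) (p bb) = bb := by
  have h1 := dist_le_of_path h hp.1 (a := 0) (c := bb) (d := bb) (by omega) le_rfl (by omega) (by omega)
  rcases h1.lt_or_eq with h2 | h2
  · exact absurd (Q_of_lt h h2) hp.2
  · exact h2

theorem crit_walk (hp : Crit p) : IsWalk p bb := by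
  refine ⟨hp.1, fun i hi e => ?_⟩
  have h1 := dist_le_of_path h hp.1 (a := 0) (c := i) (d := i) (by omega) (by omega) (by omega) (by omega)
  have h2 := dist_le_of_path h hp.1 (a := i + 2) (c := bb) (d := bb - (i + 2)) (by omega) le_rfl (by omega)
    (by omega)
  have h3 := (conn h).dist_triangle (u := p 0) (v := p i) (w := p bb)
  have h4 := crit_dist h hp
  rw [e] at h2
  omega

theorem crit_fix (hp : Crit p) {i : ℕ} (hi : i ≤ bb) : vertexZ 2 (p 0) ≤ St (p i) := by
  have hb := crit_pos h hp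
  rcases hi.lt_or_eq with h1 | rfl
  · exact (near h hp.1 (by omega) hi (by omega) (by omega)).trans (pCoreOf_le _ _)
  · exact (near h hp.1 (Nat.zero_le _) (by omega : bb - 1 ≤ bb) (by omega) (by omega)).trans
      ((Q_le_edge h (hp.1.adj_pred hb le_rfl)).trans inf_le_right)

theorem crit_fix' (hp : Crit p) {i : ℕ} (hi : i ≤ bb) : vertexZ 2 (p bb) ≤ St (p i) := by
  have hb := crit_pos h hp
  rcases Nat.eq_zero_or_pos i with rfl | h1
  · exact (near h hp.1 le_rfl (by omega : 1 ≤ bb) (by omega) (by omega)).trans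
      ((Q_le_edge h (hp.1 0 hb).symm).trans inf_le_right)
  · exact (near h hp.1 le_rfl hi (by omega) (by omega)).trans (pCoreOf_le _ _)

theorem crit_ref (hp : Crit p) : Ref P₁ P₂ (p bb).isLeft bb := by
  obtain ⟨z, hz, hzQ⟩ := SetLike.not_le_iff_exists.1 hp.2
  exact ⟨p, z, crit_walk h hp, rfl, fun i hi => crit_fix h hp hi hz, hzQ⟩

/-! ### The groups `V_δ` -/

omit h in
/-- The group generated by the `Z` of the neighbours. -/
abbrev V (x : CosetVertex P₁ P₂) : Subgroup G :=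
  ⨆ ν : {ν // (cosetGraph P₁ P₂).Adj x ν}, vertexZ 2 (ν : CosetVertex P₁ P₂)

omit h in
theorem Z_le_V {x ν : CosetVertex P₁ P₂} (hν : (cosetGraph P₁ P₂).Adj x ν) : vertexZ 2 ν ≤ V x :=
  le_iSup (fun ν : {ν // (cosetGraph P₁ P₂).Adj x ν} => vertexZ 2 (ν : CosetVertex P₁ P₂)) ⟨ν, hν⟩

omit h in
theorem V_le {x : CosetVertex P₁ P₂} {T : Subgroup G}
    (hT : ∀ ν, (cosetGraph P₁ P₂).Adj x ν → vertexZ 2 ν ≤ T) : V x ≤ T :=
  iSup_le fun ν => hT ν ν.2

theorem conj_smul_mem_V {x : CosetVertex P₁ P₂} (g : G) {v : G} (hv : v ∈ V x) :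
    g * v * g⁻¹ ∈ V (g • x) := by
  have hle : V x ≤ (V (g • x)).comap (MulAut.conj g).toMonoidHom := V_le fun ν hν z hz =>
    Z_le_V (adj_smul g hν) (conj_smul_mem_Z h g hz)
  exact hle hv

theorem conj_smul_mem_V_iff {x : CosetVertex P₁ P₂} (g : G) {v : G} :
    g * v * g⁻¹ ∈ V (g • x) ↔ v ∈ V x := by
  refine ⟨fun hv => ?_, conj_smul_mem_V h g⟩
  have := conj_smul_mem_V h g⁻¹ hv
  rw [inv_smul_smul] at this
  simpa [mul_assoc] using this

theorem V_mem_conj {x : CosetVertex P₁ P₂} {g v : G} (hg : g ∈ St x) (hv : v ∈ V x) :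
    g * v * g⁻¹ ∈ V x := by
  have := conj_smul_mem_V h g hv
  rwa [MulAction.mem_stabilizer_iff.1 hg] at this

theorem V_le_Q (hp : IsPath p j) {a c : ℕ} (ha : a ≤ j) (hc : c ≤ j) (h1 : a + 2 ≤ c + bb)
    (h2 : c + 2 ≤ a + bb) : V (p a) ≤ vertexQ 2 (p c) :=
  V_le fun _ hν => near_adj h hp ha hc h1 h2 hν

theorem V_le_Q_self {x : CosetVertex P₁ P₂} (hb : 2 ≤ bb) : V x ≤ vertexQ 2 x :=
  V_le_Q h (p := fun _ => x) (j := 0) (a := 0) (c := 0) (fun i hi => by omega) le_rfl le_rfl (by omega) (by omega)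

theorem V_le_normalizer {x : CosetVertex P₁ P₂} (hb : 2 ≤ bb) : St x ≤ normalizer (V x : Set G) := by
  intro g hg
  haveI := finQ h x
  haveI : Finite (V x) := Finite.of_injective (inclusion (V_le_Q_self h hb)) (inclusion_injective _)
  exact mem_normalizer_of_forall fun y hy => V_mem_conj h hg hy

theorem V_comm (hb : 3 ≤ bb) {x : CosetVertex P₁ P₂} {v w : G} (hv : v ∈ V x) (hw : w ∈ V x) :
    v * w = w * v := by
  have hle : V x ≤ centralizer (V x : Set G) := by
    refine V_le fun ν hν => ?_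
    rw [le_centralizer_iff]
    refine V_le fun μ hμ => ?_
    intro a ha
    refine mem_centralizer_iff.2 fun c hc => ?_
    refine ((Z_spec h hc).2.2 a (Q_of_lt h ?_ ha)).symm
    have h3 := (conn h).dist_triangle (u := μ) (v := x) (w := ν)
    rw [SimpleGraph.dist_eq_one_iff_adj.2 hμ.symm, SimpleGraph.dist_eq_one_iff_adj.2 hν] at h3
    omega
  exact (mem_centralizer_iff.1 (hle hv) w hw).symm

theorem V_sq (hb : 3 ≤ bb) {x : CosetVertex P₁ P₂} {v : G} (hv : v ∈ V x) : v * v = 1 := by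
  let A : Subgroup G :=
    { carrier := {a | a ∈ V x ∧ a * a = 1}
      one_mem' := ⟨one_mem _, mul_one 1⟩
      mul_mem' := fun {a c} ha hc => ⟨mul_mem ha.1 hc.1, by
        rw [mul_assoc, ← mul_assoc c, V_comm h hb hc.1 ha.1, mul_assoc a c c, hc.2, mul_one, ha.2]⟩
      inv_mem' := fun {a} ha => by rw [mul_self_inv ha.2]; exact ha }
  have hle : V x ≤ A := V_le fun ν hν z hz => ⟨Z_le_V hν hz, Z_sq h hz⟩
  exact (hle hv).2

theorem V_quot (hb : 3 ≤ bb) {x : CosetVertex P₁ P₂} (hC : IsC x) {q v : G} (hq : q ∈ vertexQ 2 x)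
    (hv : v ∈ V x) : v * (q * v * q⁻¹) ∈ vertexZ 2 x := by
  have hqS : q ∈ St x := pCoreOf_le _ _ hq
  let A : Subgroup G :=
    { carrier := {a | a ∈ V x ∧ a * (q * a * q⁻¹) ∈ vertexZ 2 x}
      one_mem' := ⟨one_mem _, by simp [one_mem]⟩
      mul_mem' := fun {a c} ha hc => ⟨mul_mem ha.1 hc.1, by
        have := mul_mem ha.2 hc.2
        have e : q * a * q⁻¹ * c = c * (q * a * q⁻¹) := V_comm h hb (V_mem_conj h hqS ha.1) hc.1
        rw [show a * (q * a * q⁻¹) * (c * (q * c * q⁻¹)) = a * (q * a * q⁻¹ * c) * (q * c * q⁻¹) by group,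
          e] at this
        rwa [show a * c * (q * (a * c) * q⁻¹) = a * (c * (q * a * q⁻¹)) * (q * c * q⁻¹) by group]⟩
      inv_mem' := fun {a} ha => by rw [mul_self_inv (V_sq h hb ha.1)]; exact ha }
  have hle : V x ≤ A := V_le fun ν hν z hz => ⟨Z_le_V hν hz,
    comm_mem h (isN_of_adj hν hC) hν.symm (by rw [edgeStabilizer_comm]; exact Q_le_edge h hν hq) hz⟩
  exact (hle hv).2

theorem all_eq_false {x l : CosetVertex P₁ P₂} (hl : (cosetGraph P₁ P₂).Adj x l)
    (hall : ∀ ν, (cosetGraph P₁ P₂).Adj x ν → vertexZ 2 ν = vertexZ 2 l) : False := by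
  refine Amalgam55.vertexZ_ne_bot h.charP l (normal_bot h hl.symm
    ((Z_le_Q h l).trans (Q_le_edge h hl.symm)) (Z_le_normalizer h l) fun g hg => ?_)
  haveI := finZ h l
  refine mem_normalizer_of_forall fun y hy => ?_
  rw [← hall _ (adj_smul_fix hl hg)]
  exact conj_smul_mem_Z h g hy

theorem Z_ne {x l l' : CosetVertex P₁ P₂} (hl : (cosetGraph P₁ P₂).Adj x l)
    (hl' : (cosetGraph P₁ P₂).Adj x l') (hne : l ≠ l') : vertexZ 2 l ≠ vertexZ 2 l' := by
  intro e
  refine all_eq_false h hl fun ν hν => ?_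
  rcases eq_or_ne ν l with rfl | h1
  · rfl
  rcases eq_or_ne ν l' with rfl | h2
  · exact e.symm
  obtain ⟨t, ht, htQ⟩ := exists_edge_not_Q h hl
  rw [← swap h hl hl' hν hne.symm h1 h2 ht htQ, Amalgam55.vertexZ_smul h.charP, ← e,
    ← Amalgam55.vertexZ_smul h.charP, MulAction.mem_stabilizer_iff.1 ht.2]

theorem mem_Q_of_centralizes_V {x : CosetVertex P₁ P₂} {g : G} (hg : g ∈ St x)
    (hc : ∀ v ∈ V x, g * v = v * g) : g ∈ vertexQ 2 x := by
  by_contra hgQ
  obtain ⟨l, hl, hmove⟩ : ∃ ν, (cosetGraph P₁ P₂).Adj x ν ∧ g • ν ≠ ν := by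
    by_contra hh
    push Not at hh
    exact hgQ (mem_Q_of_fixes h hg hh)
  refine Z_ne h hl (adj_smul_fix hl hg) hmove.symm ?_
  refine le_antisymm (fun z hz => ?_) (fun z hz => ?_)
  · have := conj_smul_mem_Z h g hz
    rwa [hc z (Z_le_V hl hz), mul_inv_cancel_right] at this
  · refine (conj_smul_mem_Z_iff h g).1 ?_
    rwa [hc z (Z_le_V (adj_smul_fix hl hg) hz), mul_inv_cancel_right]

end Cfsg.Agent.Lib.Goldschmidt73
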