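import Mathlib
import Cfsg.Agent.Lib.Goldschmidt73.Walks
import Cfsg.Agent.Lib.Core.Nilpotent

/-!
# Goldschmidt amalgams: critical distance one and two
-/

set_option autoImplicit false

namespace Cfsg.Agent.Lib.Goldschmidt73

open Cfsg Subgroup Cfsg.Agent.Lib.Amalgam

variable {G : Type*} [Group G] {P₁ P₂ : Subgroup G}

local notation "St" => MulAction.stabilizer G
local notation "bb" => criticalDistance 2 P₁ P₂

/-- A nontrivial normal subgroup of a finite `2`-group contains a central involution. -/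
theorem exists_central_invol {T Y : Subgroup G} [Finite T] (hT : IsPGroup 2 T) (hY : Y ≤ T)
    (hn : T ≤ normalizer (Y : Set G)) (hne : Y ≠ ⊥) :
    ∃ y ∈ Y, y ≠ 1 ∧ y * y = 1 ∧ ∀ a ∈ T, a * y = y * a := by
  haveI : Group.IsNilpotent T := hT.isNilpotent
  haveI : (Y.subgroupOf T).Normal := (normal_subgroupOf_iff_le_normalizer hY).2 hn
  have hne' : Y.subgroupOf T ≠ ⊥ := by
    rwa [ne_eq, subgroupOf_eq_bot, disjoint_iff, inf_eq_left.2 hY]
  have hK := Nilp.inf_center_ne_bot_of_normal hne'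
  set K := Y.subgroupOf T ⊓ center T
  obtain ⟨k, hk⟩ := IsPGroup.iff_card.1 (hT.to_subgroup K)
  have hk0 : k ≠ 0 := fun e => hK (card_eq_one.1 (by rw [hk, e, pow_zero]))
  obtain ⟨⟨x, hx⟩, hx2⟩ := exists_prime_orderOf_dvd_card' (G := K) 2 (hk ▸ dvd_pow_self 2 hk0)
  rw [← Subgroup.orderOf_coe, ← Subgroup.orderOf_coe] at hx2
  change orderOf (x : G) = 2 at hx2
  refine ⟨(x : G), hx.1, fun e => ?_, ?_, fun a ha => ?_⟩
  · rw [e, orderOf_one] at hx2; omega
  · have := pow_orderOf_eq_one (x : G)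
    rwa [hx2, pow_two] at this
  · exact congrArg Subtype.val (mem_center_iff.1 hx.2 ⟨a, ha⟩)

theorem normalizer_le_normalizer_centralizer (N : Subgroup G) :
    normalizer (N : Set G) ≤ normalizer (centralizer (N : Set G) : Set G) := fun g hg =>
  mem_normalizer_of_map_conj_eq (by
    rw [SFour55.map_centralizer_equiv, map_conj_eq_of_mem_normalizer hg])

/-- The intersection of `Q_x` with the `Q` of its neighbours. -/
abbrev Ecore (x : CosetVertex P₁ P₂) : Subgroup G :=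
  vertexQ 2 x ⊓ ⨅ ν : {ν // (cosetGraph P₁ P₂).Adj x ν}, vertexQ 2 (ν : CosetVertex P₁ P₂)

theorem mem_Ecore {x : CosetVertex P₁ P₂} {g : G} :
    g ∈ Ecore x ↔ g ∈ vertexQ 2 x ∧ ∀ ν, (cosetGraph P₁ P₂).Adj x ν → g ∈ vertexQ 2 ν := by
  simp [Ecore, Subgroup.mem_iInf]

variable (h : Hyp P₁ P₂)
include h

theorem card_edge_eq {δ μ : CosetVertex P₁ P₂} (hadj : (cosetGraph P₁ P₂).Adj δ μ) :
    Nat.card ↥(P₁ ⊓ P₂) = Nat.card (edgeStabilizer δ μ) := by
  obtain ⟨x, ⟨rfl, rfl⟩ | ⟨rfl, rfl⟩⟩ := adj_iff.1 hadj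
  · rw [edgeStabilizer_inl_inr, card_map_of_injective (MulAut.conj x).injective]
  · rw [edgeStabilizer_comm, edgeStabilizer_inl_inr, card_map_of_injective (MulAut.conj x).injective]

theorem card_Q_eq {δ μ : CosetVertex P₁ P₂} (hadj : (cosetGraph P₁ P₂).Adj δ μ) :
    Nat.card (vertexQ 2 δ) = Nat.card (vertexQ 2 μ) := by
  have h1 := (edge_facts h hadj).2.1
  have h2 := (edge_facts h hadj.symm).2.1
  rw [edgeStabilizer_comm] at h2
  omega

theorem card_base {δ μ : CosetVertex P₁ P₂} (hadj : (cosetGraph P₁ P₂).Adj δ μ) :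
    Nat.card ↥(P₁ ⊓ P₂) = 2 * Nat.card (vertexQ 2 δ) := by
  rw [card_edge_eq h hadj]; exact (edge_facts h hadj).2.1

theorem card_le_two_mul {δ μ : CosetVertex P₁ P₂} (hadj : (cosetGraph P₁ P₂).Adj δ μ) {A : Subgroup G}
    (hA : A ≤ edgeStabilizer δ μ) : Nat.card A ≤ 2 * Nat.card ↥(A ⊓ vertexQ 2 δ) := by
  haveI := finQ h δ
  haveI : Finite ↥(A ⊓ vertexQ 2 δ) :=
    Finite.of_injective (inclusion (inf_le_right : A ⊓ vertexQ 2 δ ≤ vertexQ 2 δ)) (inclusion_injective _)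
  classical
  by_cases hle : A ≤ vertexQ 2 δ
  · rw [inf_eq_left.2 hle]; omega
  obtain ⟨t, ht, htQ⟩ := SetLike.not_le_iff_exists.1 hle
  let f : A → ↥(A ⊓ vertexQ 2 δ) × Bool := fun a =>
    if ha : (a : G) ∈ vertexQ 2 δ then (⟨a, a.2, ha⟩, false)
    else (⟨t⁻¹ * a, (mul_mem (inv_mem ht) a.2 : t⁻¹ * (a : G) ∈ A), inv_mul_mem_Q h hadj (hA ht) (hA a.2) htQ ha⟩, true)
  have hf : Function.Injective f := by
    intro a c e
    simp only [f] at e
    split_ifs at e <;> obtain ⟨e1, e2⟩ := Prod.ext_iff.1 e <;> dsimp only at e1 e2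
    all_goals have e3 := Subtype.ext_iff.1 e1
    all_goals dsimp only at e3
    all_goals first
      | exact Subtype.ext e3
      | exact Subtype.ext (mul_left_cancel e3)
      | simp at e2
  have := Nat.card_le_card_of_injective f hf
  rw [Nat.card_prod, Nat.card_eq_fintype_card (α := Bool), Fintype.card_bool] at this
  omega

theorem nbr_eq {x a c d ν : CosetVertex P₁ P₂} (ha : (cosetGraph P₁ P₂).Adj x a)
    (hc : (cosetGraph P₁ P₂).Adj x c) (hd : (cosetGraph P₁ P₂).Adj x d) (hca : c ≠ a) (hda : d ≠ a)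
    (hdc : d ≠ c) (hν : (cosetGraph P₁ P₂).Adj x ν) (h1 : ν ≠ a) (h2 : ν ≠ c) : ν = d := by
  obtain ⟨t, ht, htQ⟩ := exists_edge_not_Q h ha
  rw [← swap h ha hc hν hca h1 h2 ht htQ, swap h ha hc hd hca hda hdc ht htQ]

theorem card_Q_le_Ecore (x : CosetVertex P₁ P₂) :
    Nat.card (vertexQ 2 x) ≤ 8 * Nat.card (Ecore x) := by
  obtain ⟨a, ha⟩ := exists_adj x
  obtain ⟨c, hc, hca⟩ := exists_other h ha
  obtain ⟨d, hd, hda, hdc⟩ := exists_third h ha hc
  have e : Ecore x = vertexQ 2 x ⊓ vertexQ 2 a ⊓ vertexQ 2 c ⊓ vertexQ 2 d := by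
    ext g
    rw [mem_Ecore]
    simp only [mem_inf]
    refine ⟨fun ⟨h1, h2⟩ => ⟨⟨⟨h1, h2 a ha⟩, h2 c hc⟩, h2 d hd⟩, ?_⟩
    rintro ⟨⟨⟨h1, h2⟩, h3⟩, h4⟩
    refine ⟨h1, fun ν hν => ?_⟩
    rcases eq_or_ne ν a with rfl | e1
    · exact h2
    rcases eq_or_ne ν c with rfl | e2
    · exact h3
    rw [nbr_eq h ha hc hd hca hda hdc hν e1 e2]; exact h4
  have hxe : ∀ ν, (cosetGraph P₁ P₂).Adj x ν → vertexQ 2 x ≤ edgeStabilizer ν x := fun ν hν => by
    rw [edgeStabilizer_comm]; exact Q_le_edge h hν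
  have h1 := card_le_two_mul h ha.symm (hxe a ha)
  have h2 := card_le_two_mul h hc.symm (A := vertexQ 2 x ⊓ vertexQ 2 a) (inf_le_left.trans (hxe c hc))
  have h3 := card_le_two_mul h hd.symm (A := vertexQ 2 x ⊓ vertexQ 2 a ⊓ vertexQ 2 c)
    (inf_le_left.trans (inf_le_left.trans (hxe d hd)))
  rw [e]
  omega

theorem finEcore (x : CosetVertex P₁ P₂) : Finite (Ecore x) :=
  haveI := finQ h x
  Finite.of_injective (inclusion (inf_le_left : Ecore x ≤ vertexQ 2 x)) (inclusion_injective _)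

theorem Ecore_conj {x : CosetVertex P₁ P₂} {g e : G} (hg : g ∈ St x) (he : e ∈ Ecore x) :
    g * e * g⁻¹ ∈ Ecore x := by
  rw [mem_Ecore] at he ⊢
  refine ⟨Q_mem_conj h hg he.1, fun ν hν => ?_⟩
  have h1 := conj_smul_mem_Q h g (he.2 _ (adj_smul_fix hν (inv_mem hg)))
  rwa [smul_inv_smul] at h1

theorem Ecore_le_normalizer (x : CosetVertex P₁ P₂) : St x ≤ normalizer (Ecore x : Set G) := fun _ hg =>
  haveI := finEcore h x
  mem_normalizer_of_forall fun _ hy => Ecore_conj h hg hy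

theorem Ecore_comm_V {x : CosetVertex P₁ P₂} {e v : G} (he : e ∈ Ecore x) (hv : v ∈ V x) :
    e * v = v * e := by
  have hle : V x ≤ centralizer ({e} : Set G) := V_le fun ν hν z hz =>
    mem_centralizer_singleton_iff.2 ((Z_spec h hz).2.2 e ((mem_Ecore.1 he).2 ν hν)).symm
  exact (mem_centralizer_singleton_iff.1 (hle hv)).symm

/-- A subgroup of a normal subgroup centralized by an element outside `Q_x` is normal as soon as one edge
normalizes it. -/
theorem normal_of_centralized {x μ : CosetVertex P₁ P₂} (hadj : (cosetGraph P₁ P₂).Adj x μ)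
    {T N : Subgroup G} (hTN : T ≤ N) (hN : St x ≤ normalizer (N : Set G))
    (hT : edgeStabilizer x μ ≤ normalizer (T : Set G)) {k : G} (hk : k ∈ St x)
    (hkN : ∀ e ∈ N, k * e = e * k) (hkQ : k ∉ vertexQ 2 x) : St x ≤ normalizer (T : Set G) := by
  obtain ⟨k', hk', hk'S, hmove⟩ := exists_mover h hadj (K := centralizer (N : Set G))
    (hN.trans (normalizer_le_normalizer_centralizer N))
    (mem_centralizer_iff.2 fun e he => (hkN e he).symm) hk hkQ
  exact stab_le_of_move h hadj hT hk'S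
    (centralizer_le_normalizer _ (centralizer_le hTN hk')) hmove

theorem bound_one (hb : bb = 1) : Nat.card ↥(P₁ ⊓ P₂) ≤ 2 ^ 7 := by
  obtain ⟨p, hp⟩ := exists_crit h
  have hN := crit_isN h hp
  have hadj := hp.1 0 (by omega)
  obtain ⟨z, hz, hzQ'⟩ := SetLike.not_le_iff_exists.1 hp.2
  rw [hb] at hzQ'
  set α := p 0
  set β := p (0 + 1)
  have hzQ : z ∉ vertexQ 2 β := hzQ'
  clear_value α β
  clear hzQ' hp p
  have hC : IsC β := isC_of_adj hadj hN
  have hzs := Z_spec h hz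
  have hQe : vertexQ 2 α ≤ edgeStabilizer β α := by rw [edgeStabilizer_comm]; exact Q_le_edge h hadj
  -- squares
  set Sq := Subgroup.closure {y | ∃ q ∈ vertexQ 2 α, y = q * q}
  have hsqD : ∀ q ∈ vertexQ 2 α, ∃ d ∈ vertexQ 2 α ⊓ vertexQ 2 β, q * q = d * d := by
    intro q hq
    by_cases hqβ : q ∈ vertexQ 2 β
    · exact ⟨q, ⟨hq, hqβ⟩, rfl⟩
    · refine ⟨z⁻¹ * q, ⟨(mul_mem (inv_mem hzs.1) hq : z⁻¹ * q ∈ vertexQ 2 α), inv_mul_mem_Q h hadj.symm (hQe hzs.1) (hQe hq) hzQ hqβ⟩, ?_⟩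
      rw [mul_self_inv hzs.2.1, show z * q * (z * q) = z * (q * z) * q by group, hzs.2.2 q hq,
        show z * (z * q) * q = (z * z) * (q * q) by group, hzs.2.1, one_mul]
  have hsqE : Sq ≤ Ecore β := by
    refine (closure_le _).2 ?_
    rintro y ⟨q, hq, rfl⟩
    obtain ⟨d, ⟨-, hdβ⟩, e⟩ := hsqD q hq
    rw [SetLike.mem_coe, e, mem_Ecore]
    refine ⟨mul_mem hdβ hdβ, fun ν hν => ?_⟩
    by_cases hdν : d ∈ vertexQ 2 ν
    · exact mul_mem hdν hdν
    · have hde : d ∈ edgeStabilizer ν β := by rw [edgeStabilizer_comm]; exact Q_le_edge h hν hdβ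
      have := inv_mul_mem_Q h hν.symm (inv_mem hde) hde (fun e' => hdν (inv_mem_iff.1 e')) hdν
      rwa [inv_inv] at this
  have hzE : ∀ e ∈ Ecore β, z * e = e * z := fun e he =>
    (hzs.2.2 e ((mem_Ecore.1 he).2 α hadj.symm)).symm
  have hsq1 : Sq = ⊥ := by
    have hle : Sq ≤ vertexQ 2 α := (closure_le _).2 fun y ⟨q, hq, e⟩ => e ▸ mul_mem hq hq
    haveI := finQ h α
    haveI : Finite Sq := Finite.of_injective (inclusion hle) (inclusion_injective _)
    have hn : St α ≤ normalizer (Sq : Set G) := by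
      intro g hg
      refine mem_normalizer_of_forall fun y hy => ?_
      have hsub : Sq ≤ Sq.comap (MulAut.conj g).toMonoidHom := (closure_le _).2 fun y ⟨q, hq, e⟩ => by
        subst e
        exact subset_closure ⟨g * q * g⁻¹, Q_mem_conj h hg hq, by
          show g * (q * q) * g⁻¹ = g * q * g⁻¹ * (g * q * g⁻¹)
          group⟩
      exact hsub hy
    refine normal_bot h hadj (hle.trans (Q_le_edge h hadj)) hn ?_
    exact normal_of_centralized h hadj.symm hsqE (Ecore_le_normalizer h β) (inf_le_right.trans hn)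
      (hQe hzs.1).1 hzE hzQ
  have hexp : ∀ q ∈ vertexQ 2 α, q * q = 1 := fun q hq =>
    mem_bot.1 (hsq1 ▸ subset_closure ⟨q, hq, rfl⟩ : q * q ∈ (⊥ : Subgroup G))
  have hab : ∀ a ∈ vertexQ 2 α, ∀ c ∈ vertexQ 2 α, a * c = c * a := fun a ha c hc => by
    calc a * c = (a * c)⁻¹ := (mul_self_inv (hexp _ (mul_mem ha hc))).symm
      _ = c⁻¹ * a⁻¹ := mul_inv_rev a c
      _ = c * a := by rw [mul_self_inv (hexp a ha), mul_self_inv (hexp c hc)]
  haveI := finZ h α
  have hQZ : Nat.card (vertexQ 2 α) ≤ Nat.card (vertexZ 2 α) :=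
    card_le_of_le fun q hq => mem_Z_of_central h hN hq (hexp q hq) fun a ha => hab a ha q hq
  haveI := finQ h α
  have hZQ : Nat.card (vertexZ 2 α) ≤ Nat.card (vertexQ 2 α) := card_le_of_le (Z_le_Q h α)
  rw [card_base h hadj]
  by_cases hD : ∀ ν, (cosetGraph P₁ P₂).Adj β ν → vertexQ 2 α ⊓ vertexQ 2 β ≤ vertexQ 2 ν
  · have hT : Ecore α = ⊥ := by
      refine normal_bot h hadj (inf_le_left.trans (Q_le_edge h hadj)) (Ecore_le_normalizer h α) ?_
      refine normal_of_centralized h hadj.symm (N := Ecore β) ?_ (Ecore_le_normalizer h β)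
        (inf_le_right.trans (Ecore_le_normalizer h α)) (hQe hzs.1).1 hzE hzQ
      intro g hg
      rw [mem_Ecore] at hg ⊢
      exact ⟨hg.2 β hadj, fun ν hν => hD ν hν ⟨hg.1, hg.2 β hadj⟩⟩
    have := card_Q_le_Ecore h α
    rw [hT, card_bot] at this
    omega
  push Not at hD
  obtain ⟨ν, hν, hDν⟩ := hD
  obtain ⟨d, ⟨hdα, hdβ⟩, hdν⟩ := SetLike.not_le_iff_exists.1 hDν
  have hEα : ∀ e ∈ Ecore β, e ∈ vertexQ 2 α := fun e he => (mem_Ecore.1 he).2 α hadj.symm
  have hQβE : ∀ q ∈ vertexQ 2 β, ∀ e ∈ Ecore β, q * e = e * q := by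
    intro q hq e he
    have base : ∀ q ∈ vertexQ 2 β, q ∈ vertexQ 2 ν → q * e = e * q := by
      intro q hq hqν
      obtain ⟨g, hg, hgα⟩ := exists_smul_neighbour hν hadj.symm
      have h1 : g * q * g⁻¹ ∈ vertexQ 2 α := hgα ▸ conj_smul_mem_Q h g hqν
      have h2 := hab _ h1 _ (hEα _ (Ecore_conj h hg he))
      calc q * e = g⁻¹ * ((g * q * g⁻¹) * (g * e * g⁻¹)) * g := by group
        _ = g⁻¹ * ((g * e * g⁻¹) * (g * q * g⁻¹)) * g := by rw [h2]
        _ = e * q := by group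
    by_cases hqν : q ∈ vertexQ 2 ν
    · exact base q hq hqν
    · have hde : ∀ x ∈ vertexQ 2 β, x ∈ edgeStabilizer ν β := fun x hx => by
        rw [edgeStabilizer_comm]; exact Q_le_edge h hν hx
      have h1 := base _ (mul_mem (inv_mem hdβ) hq) (inv_mul_mem_Q h hν.symm (hde d hdβ) (hde q hq) hdν hqν)
      calc q * e = d * (d⁻¹ * q * e) := by group
        _ = d * (e * (d⁻¹ * q)) := by rw [h1]
        _ = (d * e) * (d⁻¹ * q) := by group
        _ = e * q := by rw [hab d hdα e (hEα e he)]; group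
  have hEZ : Ecore β ≤ vertexZ 2 β := by
    intro e he
    rw [Z_eq_omCenter h hC hadj.symm]
    refine mem_omCenter (Q_le_edge h hadj.symm (mem_Ecore.1 he).1) (hexp e (hEα e he)) fun a ha => ?_
    by_cases haQ : a ∈ vertexQ 2 β
    · exact hQβE a haQ e he
    · have h1 := hQβE _ (inv_mul_mem_Q h hadj.symm (hQe hzs.1) ha hzQ haQ) e he
      calc a * e = z * (z⁻¹ * a * e) := by group
        _ = z * (e * (z⁻¹ * a)) := by rw [h1]
        _ = (z * e) * (z⁻¹ * a) := by group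
        _ = e * a := by rw [hzE e he]; group
  haveI := finZ h β
  have h1 := card_Q_le_Ecore h β
  have h2 := card_le_of_le hEZ
  have h3 := card_Z h hN hadj
  have h4 := card_Q_eq h hadj
  have h5 : Nat.card (vertexZ 2 β) ≤ 8 := by
    by_contra h6
    push Not at h6
    have h7 := Nat.mul_lt_mul_of_pos_right h6 (show 0 < Nat.card (vertexZ 2 β) by omega)
    omega
  omega

/-- The bound when some `V_x` is not contained in the `Q` of a neighbour. -/
theorem bound_two (hb : 2 ≤ bb) {x α : CosetVertex P₁ P₂} (hC : IsC x)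
    (hadj : (cosetGraph P₁ P₂).Adj x α) (hV : ¬ V x ≤ vertexQ 2 α) :
    Nat.card ↥(P₁ ⊓ P₂) ≤ 2 ^ 7 := by
  have hN : IsN α := isN_of_adj hadj hC
  obtain ⟨u, hu, huQ⟩ := SetLike.not_le_iff_exists.1 hV
  have hue : u ∈ edgeStabilizer α x := by
    rw [edgeStabilizer_comm]; exact Q_le_edge h hadj (V_le_Q_self h hb hu)
  obtain ⟨ν, hν, hνx⟩ := exists_other h hadj.symm
  obtain ⟨g, hg, hgν⟩ := exists_smul_neighbour hadj.symm hν
  set u' := g * u * g⁻¹
  have hu'V : u' ∈ V ν := hgν ▸ conj_smul_mem_V h g hu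
  have hu'S : u' ∈ St α := mul_mem (mul_mem hg hue.1) (inv_mem hg)
  have hu'Q : u' ∉ vertexQ 2 α := by
    rw [← MulAction.mem_stabilizer_iff.1 hg, conj_smul_mem_Q_iff h]; exact huQ
  have hu'move : u' • x ≠ x := fun e => hu'Q (edge_inf_edge h hν hadj.symm hνx
    ⟨hu'S, by
      show u' • ν = ν
      exact (Q_le_edge h hν.symm (V_le_Q_self h hb hu'V)).1⟩ e)
  -- the common centralized part is trivial
  let Y : Subgroup G := vertexQ 2 α ⊓ centralizer ((⨆ μ : {μ // (cosetGraph P₁ P₂).Adj α μ}, V μ.1 : Subgroup G) : Set G)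
  have hY : Y = ⊥ := by
    by_contra hne
    haveI := finQ h α
    haveI : Finite Y := Finite.of_injective (inclusion (inf_le_left : Y ≤ vertexQ 2 α)) (inclusion_injective _)
    haveI := finEdge h α x
    have hn : St α ≤ normalizer (Y : Set G) := by
      intro a ha
      refine mem_normalizer_of_forall fun y hy => ⟨Q_mem_conj h ha hy.1, ?_⟩
      have hcomm := hy.2
      rw [SetLike.mem_coe] at *
      refine mem_centralizer_iff.2 fun w hw => ?_
      have hsub : (⨆ μ : {μ // (cosetGraph P₁ P₂).Adj α μ}, V μ.1) ≤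
          (⨆ μ : {μ // (cosetGraph P₁ P₂).Adj α μ}, V μ.1).comap (MulAut.conj a⁻¹).toMonoidHom :=
        iSup_le fun μ v hv => le_iSup (fun μ : {μ // (cosetGraph P₁ P₂).Adj α μ} => V μ.1)
          ⟨a⁻¹ • μ.1, adj_smul_fix μ.2 (inv_mem ha)⟩ (conj_smul_mem_V h a⁻¹ hv)
      have h1 : a⁻¹ * w * a⁻¹⁻¹ * y = y * (a⁻¹ * w * a⁻¹⁻¹) := mem_centralizer_iff.1 hcomm _ (hsub hw)
      rw [inv_inv] at h1
      calc w * (a * y * a⁻¹) = a * (a⁻¹ * w * a * y) * a⁻¹ := by group
        _ = a * (y * (a⁻¹ * w * a)) * a⁻¹ := by rw [h1]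
        _ = a * y * a⁻¹ * w := by group
    obtain ⟨y, hy, hy1, hy2, hyc⟩ := exists_central_invol (edge_facts h hadj.symm).2.2.1
      (inf_le_left.trans (Q_le_edge h hadj.symm)) (inf_le_left.trans hn) hne
    refine hy1 (fixed_bot h hN hy.1 fun a ha => mem_centralizer_singleton_iff.1
      (stab_le_of_move h hadj.symm (K := centralizer ({y} : Set G))
        (fun c hc => mem_centralizer_singleton_iff.2 (hyc c hc)) hu'S
        (mem_centralizer_singleton_iff.2 ?_) hu'move ha))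
    exact mem_centralizer_iff.1 hy.2 u'
      (le_iSup (fun μ : {μ // (cosetGraph P₁ P₂).Adj α μ} => V μ.1) ⟨ν, hν⟩ hu'V)
  have hcentral : ∀ f ∈ Ecore x, f ∈ Ecore ν → f = 1 := by
    intro f hf hf'
    refine mem_bot.1 (hY ▸ (⟨(mem_Ecore.1 hf).2 α hadj, ?_⟩ : f ∈ Y))
    refine mem_centralizer_iff.2 fun w hw => ?_
    have hsub : (⨆ μ : {μ // (cosetGraph P₁ P₂).Adj α μ}, V μ.1) ≤ centralizer ({f} : Set G) := by
      refine iSup_le fun μ v hv => mem_centralizer_singleton_iff.2 ?_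
      obtain ⟨μ, hμ⟩ := μ
      rcases eq_or_ne μ x with rfl | e1
      · exact (Ecore_comm_V h hf hv).symm
      rcases eq_or_ne μ ν with rfl | e2
      · exact (Ecore_comm_V h hf' hv).symm
      have hsw : u • ν = μ := swap h hadj.symm hν hμ hνx e1 e2 hue huQ
      have hv' : u⁻¹ * v * u ∈ V ν := by
        have := conj_smul_mem_V h u⁻¹ hv
        change u⁻¹ * v * u⁻¹⁻¹ ∈ V (u⁻¹ • μ) at this
        rwa [← hsw, inv_smul_smul, inv_inv] at this
      have h1 := Ecore_comm_V h hf' hv'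
      have h2 := Ecore_comm_V h hf hu
      calc v * f = u * ((u⁻¹ * v * u) * (u⁻¹ * f * u)) * u⁻¹ := by group
        _ = u * ((u⁻¹ * v * u) * f) * u⁻¹ := by
          rw [show u⁻¹ * f * u = f by rw [mul_assoc, h2]; group]
        _ = u * (f * (u⁻¹ * v * u)) * u⁻¹ := by rw [h1]
        _ = (u * f) * (u⁻¹ * v) := by group
        _ = f * v := by rw [← h2]; group
    exact mem_centralizer_singleton_iff.1 (hsub hw)
  haveI := finQ h α
  haveI := finEcore h x
  haveI := finEcore h ν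
  have hprod : Nat.card (Ecore x) * Nat.card (Ecore ν) ≤ Nat.card (vertexQ 2 α) := by
    rw [← Nat.card_prod]
    refine Nat.card_le_card_of_injective (fun p : Ecore x × Ecore ν =>
      (⟨p.1 * p.2, mul_mem ((mem_Ecore.1 p.1.2).2 α hadj) ((mem_Ecore.1 p.2.2).2 α hν.symm)⟩ : vertexQ 2 α)) ?_
    rintro ⟨⟨a, ha⟩, ⟨c, hc⟩⟩ ⟨⟨a', ha'⟩, ⟨c', hc'⟩⟩ e
    have e' : a * c = a' * c' := congrArg Subtype.val e
    have e2 : a'⁻¹ * a = c' * c⁻¹ := by
      calc a'⁻¹ * a = a'⁻¹ * (a * c) * c⁻¹ := by group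
        _ = c' * c⁻¹ := by rw [e']; group
    obtain rfl : a' = a :=
      inv_mul_eq_one.1 (hcentral _ (mul_mem (inv_mem ha') ha) (e2 ▸ mul_mem hc' (inv_mem hc)))
    obtain rfl : c = c' := mul_left_cancel e'
    rfl
  have h1 := card_Q_le_Ecore h x
  have h2 := card_Q_le_Ecore h ν
  have h3 := card_Q_eq h hadj
  have h4 := card_Q_eq h hν
  rw [card_base h hadj]
  have h5 : Nat.card (Ecore x) ≤ 8 := by
    by_contra h6
    push Not at h6
    have h7 : 9 * Nat.card (Ecore ν) ≤ Nat.card (Ecore x) * Nat.card (Ecore ν) :=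
      Nat.mul_le_mul_right _ h6
    have : 0 < Nat.card (Ecore ν) := Nat.card_pos
    omega
  omega

end Cfsg.Agent.Lib.Goldschmidt73
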