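import Mathlib
import Cfsg.Agent.Lib.Goldschmidt73.Small

/-!
# Goldschmidt amalgams: the critical distance is not even and at least four
-/

set_option autoImplicit false

namespace Cfsg.Agent.Lib.Goldschmidt73

open Cfsg Subgroup Cfsg.Agent.Lib.Amalgam

variable {G : Type*} [Group G] {P₁ P₂ : Subgroup G}

local notation "St" => MulAction.stabilizer G
local notation "bb" => criticalDistance 2 P₁ P₂

theorem eq_of_card_two {A : Subgroup G} (hA : Nat.card A = 2) {x y : G} (hx : x ∈ A) (hy : y ∈ A)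
    (hx1 : x ≠ 1) (hy1 : y ≠ 1) : x = y := by
  obtain ⟨a, c, -, hall⟩ := Nat.card_eq_two_iff.1 hA
  have h1 : (⟨x, hx⟩ : A) = a ∨ (⟨x, hx⟩ : A) = c := by
    simpa using (Set.eq_univ_iff_forall.1 hall ⟨x, hx⟩)
  have h2 : (⟨y, hy⟩ : A) = a ∨ (⟨y, hy⟩ : A) = c := by
    simpa using (Set.eq_univ_iff_forall.1 hall ⟨y, hy⟩)
  have h3 : (1 : A) = a ∨ (1 : A) = c := by
    simpa using (Set.eq_univ_iff_forall.1 hall 1)
  have e1 : (⟨x, hx⟩ : A) ≠ 1 := fun e => hx1 (congrArg Subtype.val e)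
  have e2 : (⟨y, hy⟩ : A) ≠ 1 := fun e => hy1 (congrArg Subtype.val e)
  have e : (⟨x, hx⟩ : A) = ⟨y, hy⟩ := by
    rcases h3 with h3 | h3 <;> rcases h1 with h1 | h1 <;> rcases h2 with h2 | h2
    all_goals first
      | exact h1.trans h2.symm
      | exact absurd (h1.trans h3.symm) e1
      | exact absurd (h2.trans h3.symm) e2
  exact congrArg Subtype.val e

variable (h : Hyp P₁ P₂)
include h

theorem exists_ne_one (δ : CosetVertex P₁ P₂) : ∃ x ∈ vertexZ 2 δ, x ≠ 1 := by
  by_contra hc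
  push Not at hc
  exact Amalgam55.vertexZ_ne_bot h.charP δ ((eq_bot_iff_forall _).2 hc)

theorem card_two_of {β : CosetVertex P₁ P₂} (hβ : IsC β) (hle : Nat.card (vertexZ 2 β) ≤ 2)
    {δ : CosetVertex P₁ P₂} (hδ : IsC δ) : Nat.card (vertexZ 2 δ) = 2 := by
  obtain ⟨g, rfl⟩ := exists_smul_same_side (u := β) (v := δ) (hβ.trans hδ.symm)
  rw [card_Z_smul h]
  haveI := finZ h β
  obtain ⟨x, hx, hx1⟩ := exists_ne_one h β
  have : Nat.card (vertexZ 2 β) ≠ 1 := fun e => hx1 (mem_bot.1 (card_eq_one.1 e ▸ hx))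
  have := Nat.card_pos (α := vertexZ 2 β)
  omega

/-- Facts on a critical walk of even length. -/
theorem even_crit {p : ℕ → CosetVertex P₁ P₂} (hp : Crit p) {m : ℕ} (hb : bb = 2 * m + 2) :
    ∃ t ∈ vertexZ 2 (p bb), t ∉ vertexQ 2 (p 0) ∧ Nat.card (vertexZ 2 (p 1)) ≤ 2 ∧
      ∃ r, r ≠ 1 ∧ r ∈ vertexZ 2 (p 1) ∧ r ∈ vertexZ 2 (p (bb - 1)) := by
  have hN := crit_isN h hp
  have hNb : IsN (p bb) := by
    have := hp.1.isLeft_even (k := m + 1) (by omega)
    rw [show 2 * (m + 1) = bb by omega] at this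
    exact this.trans hN
  have h01 : (cosetGraph P₁ P₂).Adj (p 0) (p 1) := hp.1 0 (by omega)
  have hω : (cosetGraph P₁ P₂).Adj (p bb) (p (bb - 1)) := (hp.1.adj_pred (by omega) le_rfl).symm
  obtain ⟨z, hz, hzQ⟩ := SetLike.not_le_iff_exists.1 hp.2
  obtain ⟨t, ht, htQ⟩ : ∃ t ∈ vertexZ 2 (p bb), t ∉ vertexQ 2 (p 0) := by
    by_contra hc
    push Not at hc
    exact hzQ (mem_Q_of_centralizes h hNb (crit_fix h hp le_rfl hz) fun w hw =>
      ((Z_spec h hz).2.2 w (hc w hw)).symm)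
  have hte : t ∈ edgeStabilizer (p 0) (p 1) :=
    ⟨crit_fix' h hp (Nat.zero_le _) ht, crit_fix' h hp (by omega) ht⟩
  have hze : z ∈ edgeStabilizer (p bb) (p (bb - 1)) :=
    ⟨crit_fix h hp le_rfl hz, crit_fix h hp (by omega) hz⟩
  refine ⟨t, ht, htQ, ?_, z * (t * z * t⁻¹), ?_, comm_mem h hN h01 hte hz, ?_⟩
  · have h1 := card_le_two_mul h hω (A := vertexZ 2 (p 0))
      (le_inf (crit_fix h hp le_rfl) (crit_fix h hp (by omega)))
    haveI := finZ h (p 1)
    haveI := finZ h (p 0)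
    have h2 : Nat.card ↥(vertexZ 2 (p 0) ⊓ vertexQ 2 (p bb)) ≤ Nat.card (vertexZ 2 (p 1)) :=
      card_le_of_le fun w hw => fix_eq h hN h01 hte htQ hw.1 ((Z_spec h ht).2.2 w hw.2).symm
    have h3 := card_Z h hN h01
    have h4 : Nat.card (vertexZ 2 (p 1)) * Nat.card (vertexZ 2 (p 1)) ≤ 2 * Nat.card (vertexZ 2 (p 1)) := by
      omega
    exact Nat.le_of_mul_le_mul_right h4 Nat.card_pos
  · intro e
    have e' : t * z = z * t := by
      have h1 : t * z * t⁻¹ = z := (eq_inv_of_mul_eq_one_right e).trans (mul_self_inv (Z_sq h hz))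
      calc t * z = t * z * t⁻¹ * t := by group
        _ = z * t := by rw [h1]
    exact hzQ (near h hp.1 (by omega : 1 ≤ bb) le_rfl (by omega) (by omega) (fix_eq h hN h01 hte htQ hz e'))
  · have h1 := comm_mem h hNb hω hze ht
    have h2 := inv_mem h1
    have e : (t * (z * t * z⁻¹))⁻¹ = z * (t * z * t⁻¹) := by
      rw [mul_self_inv (Z_sq h hz), mul_self_inv (Z_sq h ht), mul_inv_rev, mul_inv_rev, mul_inv_rev,
        mul_self_inv (Z_sq h hz), mul_self_inv (Z_sq h ht)]
      group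
    rwa [e] at h2

theorem not_even {m : ℕ} (hb : bb = 2 * m + 4) : False := by
  obtain ⟨p, hp⟩ := exists_crit h
  have hN := crit_isN h hp
  obtain ⟨t, ht, htQ, hk, r, hr1, hr, hr'⟩ := even_crit h hp (m := m + 1) (by omega)
  have h01 : (cosetGraph P₁ P₂).Adj (p 0) (p 1) := hp.1 0 (by omega)
  have hC : IsC (p 1) := isC_of_adj h01 hN
  have hC' : IsC (p (bb - 1)) := by
    have := hp.1.isLeft_odd (k := m + 1) (by omega)
    rw [show 2 * (m + 1) + 1 = bb - 1 by omega, hN] at this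
    exact this
  have hC3 : IsC (p (bb - 3)) := by
    have := hp.1.isLeft_odd (k := m) (by omega)
    rw [show 2 * m + 1 = bb - 3 by omega, hN] at this
    exact this
  have hω : (cosetGraph P₁ P₂).Adj (p bb) (p (bb - 1)) := (hp.1.adj_pred (by omega) le_rfl).symm
  have hNb : IsN (p bb) := isN_of_adj hω.symm hC'
  obtain ⟨ν, hν, hνβ⟩ := exists_other h h01
  have hte : t ∈ edgeStabilizer (p 0) (p 1) :=
    ⟨crit_fix' h hp (Nat.zero_le _) ht, crit_fix' h hp (by omega) ht⟩
  have htν : t • ν ≠ ν := fun e => htQ (edge_inf_edge h h01 hν hνβ.symm hte e)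
  have hpath : IsPath (consW ν p) (bb + 1) := hp.1.cons hν.symm
  have hII : V ν ≤ vertexQ 2 (p (bb - 2)) := by
    refine V_le fun l hl => ?_
    by_contra hcon
    have hq : Crit (consW l (consW ν p)) := by
      refine ⟨(hpath.cons (by rw [consW_zero]; exact hl.symm)).mono (by omega), ?_⟩
      rw [consW_zero, show bb = (bb - 2) + 1 + 1 by omega, consW_succ, consW_succ]
      exact hcon
    obtain ⟨-, -, -, -, x, hx1, hx, hx'⟩ := even_crit h hq (m := m + 1) (by omega)
    rw [show (1 : ℕ) = 0 + 1 by rfl, consW_succ, consW_zero] at hx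
    rw [show bb - 1 = (bb - 3) + 1 + 1 by omega, consW_succ, consW_succ] at hx'
    have hx2 := conj_smul_mem_Z h t hx
    rw [C_central h hC3 (crit_fix' h hp (by omega) ht) hx', mul_inv_cancel_right] at hx2
    exact hx1 (Z_mid h hN hν (adj_smul_fix hν hte.1) htν.symm hx hx2)
  have hy : ¬ V ν ≤ vertexQ 2 (p (bb - 1)) := by
    intro hle
    have hZν : vertexZ 2 (p 0) ≤ V ν := Z_le_V hν.symm
    haveI := finQ h ν
    haveI : Finite (V ν) := Finite.of_injective (inclusion (V_le_Q_self h (by omega))) (inclusion_injective _)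
    have htn : t ∈ normalizer (V ν : Set G) := by
      refine mem_normalizer_of_forall fun v hv => ?_
      have hve : v ∈ edgeStabilizer (p bb) (p (bb - 1)) := by
        rw [edgeStabilizer_comm]; exact Q_le_edge h hω.symm (hle hv)
      have h1 := comm_mem h hNb hω hve ht
      have h2 : t * (v * t * v⁻¹) ∈ V ν := by
        by_cases e : t * (v * t * v⁻¹) = 1
        · rw [e]; exact one_mem _
        · rw [eq_of_card_two (card_two_of h hC hk hC') h1 hr' e hr1]
          exact hZν (Zc_le h hC h01.symm hr)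
      have h3 := mul_mem h2 hv
      rw [show t * (v * t * v⁻¹) * v = t * v * t by group] at h3
      rwa [mul_self_inv (Z_sq h ht)]
    have hbot := normal_bot h hν.symm
      ((V_le_Q_self h (by omega)).trans (Q_le_edge h hν.symm)) (V_le_normalizer h (by omega))
      (stab_le_of_move h hν (inf_le_right.trans (V_le_normalizer h (by omega))) hte.1 htn htν)
    obtain ⟨x, hx, hx1⟩ := exists_ne_one h (p 0)
    exact hx1 (mem_bot.1 (hbot ▸ hZν hx))
  obtain ⟨y, hy, hyQ⟩ := SetLike.not_le_iff_exists.1 hy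
  have hyfix : ∀ i ≤ bb - 2, y ∈ vertexQ 2 (p i) := by
    intro i hi
    rcases hi.lt_or_eq with h1 | rfl
    · have := V_le_Q h hpath (a := 0) (c := i + 1) (by omega) (by omega) (by omega) (by omega)
      rw [consW_succ] at this
      exact this hy
    · exact hII hy
  have hrefC : Ref P₁ P₂ false (bb - 1) := by
    refine ⟨p, y, (crit_walk h hp).mono (by omega), hC', fun i hi => ?_, hyQ⟩
    rcases hi.lt_or_eq with h1 | rfl
    · exact pCoreOf_le _ _ (hyfix i (by omega))
    · have h1 := hp.1 (bb - 2) (by omega)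
      rw [show bb - 2 + 1 = bb - 1 by omega] at h1
      exact (Q_le_edge h h1 (hyfix _ le_rfl)).2
  have hrefN : Ref P₁ P₂ true (bb - 1) := by
    have := crit_ref h hp
    rw [show (p bb).isLeft = true from hNb] at this
    exact this.mono (by omega)
  refine hr1 (no_shared h hrefN hrefC (m := bb - 2) (k := m) (by omega) (by omega)
    (w := fun i => p (i + 1)) ((crit_walk h hp).shift 1 (by omega)) hC hr ?_)
  show r ∈ vertexZ 2 (p (bb - 2 + 1))
  rwa [show bb - 2 + 1 = bb - 1 by omega]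

theorem bound_crit_two (hb : bb = 2) : Nat.card ↥(P₁ ⊓ P₂) ≤ 2 ^ 7 := by
  obtain ⟨p, hp⟩ := exists_crit h
  have hN := crit_isN h hp
  have h01 : (cosetGraph P₁ P₂).Adj (p 0) (p 1) := hp.1 0 (by omega)
  have h12 : (cosetGraph P₁ P₂).Adj (p 1) (p 2) := hp.1 1 (by omega)
  refine bound_two h (by omega) (isC_of_adj h01 hN) h12 fun hle => hp.2 ?_
  rw [hb]
  exact (Z_le_V h01.symm).trans hle

end Cfsg.Agent.Lib.Goldschmidt73
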