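import Mathlib
import Cfsg.Agent.Lib.Goldschmidt73.Even

/-!
# Goldschmidt amalgams: the critical distance is odd; `|Z_γ| = 4`
-/

set_option autoImplicit false

namespace Cfsg.Agent.Lib.Goldschmidt73

open Cfsg Subgroup Cfsg.Agent.Lib.Amalgam

variable {G : Type*} [Group G] {P₁ P₂ : Subgroup G}

local notation "St" => MulAction.stabilizer G
local notation "bb" => criticalDistance 2 P₁ P₂

/-- A walk of length `b - 1` between centralizing vertices, the first `V` not inside the last `Q`. -/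
def CC (w : ℕ → CosetVertex P₁ P₂) : Prop :=
  IsPath w (bb - 1) ∧ IsC (w 0) ∧ ¬ V (w 0) ≤ vertexQ 2 (w (bb - 1))

/-- A product of representatives of the two classes at `β` away from `γ`. -/
def Cls (β γ : CosetVertex P₁ P₂) (r : G) : Prop :=
  ∃ l l' a c, (cosetGraph P₁ P₂).Adj β l ∧ (cosetGraph P₁ P₂).Adj β l' ∧ l ≠ γ ∧ l' ≠ γ ∧ l ≠ l' ∧
    a ∈ vertexZ 2 l ∧ a ∉ vertexZ 2 β ∧ c ∈ vertexZ 2 l' ∧ c ∉ vertexZ 2 β ∧ r = a * c

/-- The intersection of the `Z` of the neighbours. -/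
abbrev Wcore (x : CosetVertex P₁ P₂) : Subgroup G :=
  ⨅ ν : {ν // (cosetGraph P₁ P₂).Adj x ν}, vertexZ 2 (ν : CosetVertex P₁ P₂)

theorem mem_Wcore {x : CosetVertex P₁ P₂} {g : G} :
    g ∈ Wcore x ↔ ∀ ν, (cosetGraph P₁ P₂).Adj x ν → g ∈ vertexZ 2 ν := by
  simp [Subgroup.mem_iInf]

theorem card_le_two_mul_inf {A B Z : Subgroup G} [Finite Z] (hA : A ≤ Z) (hB : B ≤ Z)
    (hZ : Nat.card Z ≤ 2 * Nat.card B) : Nat.card A ≤ 2 * Nat.card ↥(A ⊓ B) := by
  set A' := A.subgroupOf Z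
  set B' := B.subgroupOf Z
  have e1 : Nat.card A' = Nat.card A := Nat.card_congr (subgroupOfEquivOfLe hA).toEquiv
  have e2 : Nat.card B' = Nat.card B := Nat.card_congr (subgroupOfEquivOfLe hB).toEquiv
  have e3 : Nat.card ↥(A' ⊓ B') = Nat.card ↥(A ⊓ B) := by
    rw [show A' ⊓ B' = (A ⊓ B).subgroupOf Z from rfl]
    exact Nat.card_congr (subgroupOfEquivOfLe (inf_le_left.trans hA)).toEquiv
  have h1 := card_mul_index A'
  have h2 := card_mul_index B'
  have h3 := card_mul_index (A' ⊓ B')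
  have h4 : (A' ⊓ B').index ≤ A'.index * B'.index := index_inf_le
  rw [e1] at h1
  rw [e2] at h2
  rw [e3] at h3
  have hBpos : 0 < Nat.card B := by rw [← e2]; exact Nat.card_pos
  have hi : B'.index ≤ 2 := by
    by_contra hc
    push Not at hc
    have : Nat.card B * 3 ≤ Nat.card B * B'.index := Nat.mul_le_mul_left _ hc
    omega
  have h5 : Nat.card ↥(A ⊓ B) * (A' ⊓ B').index ≤ Nat.card ↥(A ⊓ B) * (A'.index * 2) :=
    Nat.mul_le_mul_left _ (h4.trans (Nat.mul_le_mul_left _ hi))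
  have hpos : 0 < A'.index := Nat.pos_of_ne_zero index_ne_zero_of_finite
  rw [h3, ← h1, show Nat.card ↥(A ⊓ B) * (A'.index * 2) = (2 * Nat.card ↥(A ⊓ B)) * A'.index by ring] at h5
  exact Nat.le_of_mul_le_mul_right h5 hpos

variable (h : Hyp P₁ P₂)
include h

theorem CC.end_C {w : ℕ → CosetVertex P₁ P₂} (hw : CC w) {m : ℕ} (hb : bb = 2 * m + 1) :
    IsC (w (bb - 1)) := by
  have := hw.1.isLeft_even (k := m) (by omega)
  rw [show 2 * m = bb - 1 by omega] at this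
  exact this.trans hw.2.1

theorem CC.crit {w : ℕ → CosetVertex P₁ P₂} (hw : CC w) (hb : 1 ≤ bb) {l : CosetVertex P₁ P₂}
    (hl : (cosetGraph P₁ P₂).Adj (w 0) l) (hne : ¬ vertexZ 2 l ≤ vertexQ 2 (w (bb - 1))) :
    Crit (consW l w) := by
  refine ⟨(hw.1.cons hl.symm).mono (by omega), ?_⟩
  rw [consW_zero, show bb = (bb - 1) + 1 by omega, consW_succ]
  exact hne

omit h in
theorem CC.exists_bad {w : ℕ → CosetVertex P₁ P₂} (hw : CC w) :
    ∃ l, (cosetGraph P₁ P₂).Adj (w 0) l ∧ ¬ vertexZ 2 l ≤ vertexQ 2 (w (bb - 1)) := by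
  by_contra hc
  push Not at hc
  exact hw.2.2 (V_le hc)

theorem CC.walk {w : ℕ → CosetVertex P₁ P₂} (hw : CC w) (hb : 1 ≤ bb) : IsWalk w (bb - 1) := by
  obtain ⟨l, hl, hne⟩ := hw.exists_bad
  have := (crit_walk h (hw.crit h hb hl hne)).shift 1 (k := bb - 1) (by omega)
  have e : (fun i => consW l w (i + 1)) = w := funext fun i => consW_succ l w i
  rwa [e] at this

theorem CC.near_adj_end {w : ℕ → CosetVertex P₁ P₂} (hw : CC w) (hb : 2 ≤ bb) {i : ℕ} (h1 : 1 ≤ i)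
    (hi : i ≤ bb - 1) {l : CosetVertex P₁ P₂} (hl : (cosetGraph P₁ P₂).Adj (w (bb - 1)) l) :
    vertexZ 2 l ≤ vertexQ 2 (w i) :=
  near_adj h hw.1 le_rfl hi (by omega) (by omega) hl

theorem crit_cc {p : ℕ → CosetVertex P₁ P₂} (hp : Crit p) : CC (fun i => p (i + 1)) := by
  have hb := crit_pos h hp
  refine ⟨hp.1.shift 1 (by omega), isC_of_adj (hp.1 0 hb) (crit_isN h hp), fun hle => hp.2 ?_⟩
  have h01 : (cosetGraph P₁ P₂).Adj (p 0) (p 1) := hp.1 0 hb
  have := (Z_le_V h01.symm).trans hle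
  change vertexZ 2 (p 0) ≤ vertexQ 2 (p (bb - 1 + 1)) at this
  rwa [show bb - 1 + 1 = bb by omega] at this

/-- The relation is symmetric. -/
theorem CC.back {w : ℕ → CosetVertex P₁ P₂} (hw : CC w) {m : ℕ} (hb : bb = 2 * m + 3) :
    CC (fun i => w (bb - 1 - i)) := by
  refine ⟨hw.1.rev, hw.end_C h (m := m + 1) (by omega), ?_⟩
  intro hle
  simp only [Nat.sub_zero, Nat.sub_self] at hle
  obtain ⟨l, hl, hne⟩ := hw.exists_bad
  have hp := hw.crit h (by omega) hl hne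
  set p := consW l w with hpdef
  have hpi : ∀ i, p (i + 1) = w i := fun i => consW_succ l w i
  have hpb : p bb = w (bb - 1) := by rw [show bb = (bb - 1) + 1 by omega, hpi]; simp
  obtain ⟨z, hz, hzQ⟩ := SetLike.not_le_iff_exists.1 hne
  obtain ⟨μ, hμ, u, hu, hzu⟩ : ∃ μ, (cosetGraph P₁ P₂).Adj (w (bb - 1)) μ ∧
      ∃ u ∈ vertexZ 2 μ, u * z ≠ z * u := by
    by_contra hc
    push Not at hc
    have hsub : V (w (bb - 1)) ≤ centralizer ({z} : Set G) := V_le fun ν hν a ha =>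
      mem_centralizer_singleton_iff.2 (hc ν hν a ha)
    refine hzQ (mem_Q_of_centralizes_V h ?_ fun v hv => (mem_centralizer_singleton_iff.1 (hsub hv)).symm)
    have := crit_fix h hp le_rfl (show z ∈ vertexZ 2 (p 0) from hz)
    rwa [hpb] at this
  have huQl : u ∉ vertexQ 2 l := fun e => hzu ((Z_spec h hz).2.2 u e)
  have hμne : μ ≠ w (bb - 2) := by
    rintro rfl
    refine huQl ?_
    have := near h hp.1 (a := bb - 1) (c := 0) (by omega) (by omega) (by omega) (by omega)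
    rw [show bb - 1 = (bb - 2) + 1 by omega, hpi] at this
    exact this hu
  have huW : ∀ i ≤ bb - 1, u ∈ vertexQ 2 (w i) := by
    intro i hi
    rcases Nat.eq_zero_or_pos i with rfl | h1
    · exact hle (Z_le_V hμ hu)
    · exact hw.near_adj_end h (by omega) h1 hi hμ hu
  have hufix : ∀ i ≤ bb, u ∈ St (p i) := by
    intro i hi
    rcases i with _ | i
    · exact (Q_le_edge h hl (huW 0 (by omega))).2
    · rw [hpi]; exact pCoreOf_le _ _ (huW i (by omega))
  have hrefN : Ref P₁ P₂ true bb := by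
    refine ⟨fun i => p (bb - i), u, (crit_walk h hp).rev, ?_, fun i hi => hufix _ (by omega), ?_⟩
    · show (p (bb - bb)).isLeft = true
      rw [Nat.sub_self]; exact crit_isN h hp
    · show u ∉ vertexQ 2 (p (bb - bb))
      rw [Nat.sub_self]; exact huQl
  have hrefC : Ref P₁ P₂ false bb := by
    have := crit_ref h hp
    rwa [hpb, show (w (bb - 1)).isLeft = false from hw.end_C h (m := m + 1) (by omega)] at this
  have hq : IsWalk (consW μ (fun i => w (bb - 1 - i))) bb := by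
    have h1 := ((hw.walk h (by omega)).rev).cons (x := μ) (by simpa using hμ.symm)
      (fun _ => by rw [show bb - 1 - 1 = bb - 2 by omega]; exact hμne.symm)
    exact h1.mono (by omega)
  obtain ⟨g, hg⟩ := transitive h hrefN hrefC (Nat.le_succ bb) (crit_walk h hp) hq (by
    rw [consW_zero, isN_of_adj hμ (hw.end_C h (m := m + 1) (by omega))]
    exact crit_isN h hp)
  have e0 : g • p 0 = μ := hg 0 (Nat.zero_le _)
  have eb : g • p bb = w 0 := by
    rw [hg bb le_rfl, show bb = (bb - 1) + 1 by omega, consW_succ]; simp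
  have h1 : g * z * g⁻¹ ∈ vertexQ 2 (w 0) :=
    hle (Z_le_V hμ (e0 ▸ conj_smul_mem_Z h g (show z ∈ vertexZ 2 (p 0) from hz)))
  rw [← eb, conj_smul_mem_Q_iff h, hpb] at h1
  exact hzQ h1

/-- Every neighbour of the start away from the walk is critical with the end. -/
theorem CC.all {w : ℕ → CosetVertex P₁ P₂} (hw : CC w) {m : ℕ} (hb : bb = 2 * m + 3)
    {l : CosetVertex P₁ P₂} (hl : (cosetGraph P₁ P₂).Adj (w 0) l) (hne : l ≠ w 1) :
    ¬ vertexZ 2 l ≤ vertexQ 2 (w (bb - 1)) := by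
  intro hle
  obtain ⟨l0, hl0, hbad⟩ := hw.exists_bad
  obtain ⟨μ, hμ', hμbad'⟩ := (hw.back h hb).exists_bad
  have hμ : (cosetGraph P₁ P₂).Adj (w (bb - 1)) μ := by simpa using hμ'
  have hμbad : ¬ vertexZ 2 μ ≤ vertexQ 2 (w 0) := by simpa using hμbad'
  obtain ⟨u, hu, huQ⟩ := SetLike.not_le_iff_exists.1 hμbad
  have hu1 : u ∈ vertexQ 2 (w 1) := hw.near_adj_end h (by omega) le_rfl (by omega) hμ hu
  have h01 : (cosetGraph P₁ P₂).Adj (w 0) (w 1) := hw.1 0 (by omega)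
  have hue : u ∈ edgeStabilizer (w 0) (w 1) := by
    rw [edgeStabilizer_comm]; exact Q_le_edge h h01.symm hu1
  have hend : u ∈ St (w (bb - 1)) := (Q_le_edge h hμ.symm (Z_le_Q h μ hu)).2
  rcases eq_or_ne l l0 with rfl | hll
  · exact hbad hle
  have hl0ne : l0 ≠ w 1 := by
    rintro rfl
    exact hbad (near h hw.1 (by omega : 1 ≤ bb - 1) le_rfl (by omega) (by omega))
  have hsw := swap h h01 hl hl0 hne hl0ne hll.symm hue huQ
  refine hbad fun x hx => ?_
  rw [← hsw, Amalgam55.vertexZ_smul h.charP] at hx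
  obtain ⟨y, hy, rfl⟩ := hx
  show u * y * u⁻¹ ∈ _
  rw [← MulAction.mem_stabilizer_iff.1 hend]
  exact conj_smul_mem_Q h u (hle hy)

theorem Wcore_conj {x : CosetVertex P₁ P₂} (g : G) {e : G} (he : e ∈ Wcore x) :
    g * e * g⁻¹ ∈ Wcore (g • x) := by
  rw [mem_Wcore] at he ⊢
  intro ν hν
  have hν' : (cosetGraph P₁ P₂).Adj x (g⁻¹ • ν) := by simpa using adj_smul g⁻¹ hν
  have := conj_smul_mem_Z h g (he _ hν')
  rwa [smul_inv_smul] at this

/-- `|Z_β| = 2` at centralizing vertices. -/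
theorem card_Z_two {m : ℕ} (hb : bb = 2 * m + 3) {x : CosetVertex P₁ P₂} (hx : IsC x) :
    Nat.card (vertexZ 2 x) = 2 := by
  obtain ⟨p, hp⟩ := exists_crit h
  have hN := crit_isN h hp
  have h01 : (cosetGraph P₁ P₂).Adj (p 0) (p 1) := hp.1 0 (by omega)
  have h12 : (cosetGraph P₁ P₂).Adj (p 1) (p 2) := hp.1 1 (by omega)
  have hC : IsC (p 1) := isC_of_adj h01 hN
  refine card_two_of h hC ?_ hx
  by_contra hbig
  push Not at hbig
  have hcc := crit_cc h hp
  have hCb : IsC (p bb) := by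
    have := hcc.end_C h (m := m + 1) (by omega)
    rwa [show bb - 1 + 1 = bb by omega] at this
  obtain ⟨μ, hμ', hμbad'⟩ := (hcc.back h hb).exists_bad
  have hμ : (cosetGraph P₁ P₂).Adj (p bb) μ := by
    simpa [show bb - 1 + 1 = bb by omega] using hμ'
  have hμbad : ¬ vertexZ 2 μ ≤ vertexQ 2 (p 1) := by simpa using hμbad'
  have hμN : IsN μ := isN_of_adj hμ hCb
  have hω : (cosetGraph P₁ P₂).Adj (p (bb - 1)) (p bb) := hp.1.adj_pred (by omega) le_rfl
  have hμne : μ ≠ p (bb - 1) := by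
    rintro rfl
    exact hμbad (near h hp.1 (by omega) (by omega) (by omega) (by omega))
  obtain ⟨u, hu, huQ⟩ := SetLike.not_le_iff_exists.1 hμbad
  haveI := finZ h (p 0)
  haveI := finZ h (p 1)
  have hAe : vertexZ 2 (p 0) ≤ edgeStabilizer (p bb) (p (bb - 1)) :=
    le_inf (crit_fix h hp le_rfl) (crit_fix h hp (by omega))
  have hhalf := card_le_two_mul h hω.symm hAe
  by_cases href : vertexZ 2 (p 0) ⊓ vertexQ 2 (p bb) ≤ vertexQ 2 μ
  · -- the common part lies in every `Z` at `p 1`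
    have hue : u ∈ edgeStabilizer (p 1) (p 2) := by
      have h2 : u ∈ vertexQ 2 (p 2) :=
        near_adj h hp.1 (a := bb) (c := 2) le_rfl (by omega) (by omega) (by omega) hμ hu
      rw [edgeStabilizer_comm]; exact Q_le_edge h h12.symm h2
    have hne02 : p 0 ≠ p 2 := ((crit_walk h hp).2 0 (by omega)).symm
    set α'' := u • p 0
    have hα'' : (cosetGraph P₁ P₂).Adj (p 1) α'' := adj_smul_fix h01.symm hue.1
    have hne0 : α'' ≠ p 0 := fun e => huQ (edge_inf_edge h h12 h01.symm hne02.symm hue e)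
    have hne2 : α'' ≠ p 2 := fun e =>
      hne02 (smul_left_cancel u (e.trans (MulAction.mem_stabilizer_iff.1 hue.2).symm))
    set H0 := vertexZ 2 (p 0) ⊓ vertexQ 2 (p bb)
    have hH0'' : H0 ≤ vertexZ 2 α'' := fun x hx' => by
      have := conj_smul_mem_Z h u hx'.1
      rwa [← (Z_spec h hu).2.2 x (href hx'), mul_inv_cancel_right] at this
    haveI : Finite H0 := Finite.of_injective (inclusion (inf_le_left : H0 ≤ vertexZ 2 (p 0))) (inclusion_injective _)
    -- move the pair to `(p 0, p 2)`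
    obtain ⟨t, ht, htQ⟩ := exists_edge_not_Q h h01.symm
    have hts : t • α'' = p 2 := swap h h01.symm hα'' h12 hne0 hne02.symm hne2.symm ht htQ
    haveI := finZ h (p 2)
    haveI : Finite ↥(vertexZ 2 (p 0) ⊓ vertexZ 2 (p 2)) :=
      Finite.of_injective (inclusion (inf_le_left : _ ≤ vertexZ 2 (p 0))) (inclusion_injective _)
    have hle1 : vertexZ 2 (p 0) ⊓ vertexZ 2 (p 2) ≤ H0 :=
      le_inf inf_le_left (inf_le_right.trans (near h hp.1 (by omega) le_rfl (by omega) (by omega)))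
    have hle2 : Nat.card H0 ≤ Nat.card ↥(vertexZ 2 (p 0) ⊓ vertexZ 2 (p 2)) := by
      rw [← card_map_of_injective (K := H0) (f := (MulAut.conj t).toMonoidHom) (MulAut.conj t).injective]
      refine card_le_of_le ?_
      rintro _ ⟨x, hx', rfl⟩
      exact ⟨Z_mem_conj h ht.2 hx'.1, hts ▸ conj_smul_mem_Z h t (hH0'' hx')⟩
    have hH02 : H0 = vertexZ 2 (p 0) ⊓ vertexZ 2 (p 2) := (eq_of_le_of_card_ge hle1 hle2).symm
    have hW : H0 ≤ Wcore (p 1) := by
      intro x hx'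
      rw [mem_Wcore]
      intro ν hν
      rcases eq_or_ne ν (p 0) with rfl | e1
      · exact hx'.1
      rcases eq_or_ne ν (p 2) with rfl | e2
      · rw [hH02] at hx'; exact hx'.2
      rw [nbr_eq h h01.symm h12 hα'' hne02.symm hne0 hne2 hν e1 e2]
      exact hH0'' hx'
    have hN2 : IsN (p 2) := isN_of_adj h12 hC
    haveI : Finite (Wcore (p 1)) := Finite.of_injective
      (inclusion (fun x hx' => mem_Wcore.1 hx' _ h12 : Wcore (p 1) ≤ vertexZ 2 (p 2))) (inclusion_injective _)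
    have hWc := card_le_of_le hW
    have hZeq : Nat.card (vertexZ 2 (p 2)) = Nat.card (vertexZ 2 (p 0)) := by
      rw [card_Z h hN2 h12.symm, card_Z h hN h01]
    have hWall : ∀ ν, (cosetGraph P₁ P₂).Adj (p 2) ν →
        Wcore ν ≤ vertexZ 2 (p 2) ∧ Nat.card (vertexZ 2 (p 2)) ≤ 2 * Nat.card (Wcore ν) := by
      intro ν hν
      refine ⟨fun x hx' => mem_Wcore.1 hx' _ hν.symm, ?_⟩
      obtain ⟨g, hg, hgν⟩ := exists_smul_neighbour h12.symm hν
      have hle3 : (Wcore (p 1)).map (MulAut.conj g).toMonoidHom ≤ Wcore ν := by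
        rintro _ ⟨x, hx', rfl⟩
        exact hgν ▸ Wcore_conj h g hx'
      haveI : Finite (Wcore ν) := Finite.of_injective
        (inclusion (fun x hx' => mem_Wcore.1 hx' _ hν.symm : Wcore ν ≤ vertexZ 2 (p 2))) (inclusion_injective _)
      have := card_le_of_le hle3
      rw [card_map_of_injective (MulAut.conj g).injective] at this
      omega
    obtain ⟨ν₂, hν₂, hν₂1⟩ := exists_other h h12.symm
    obtain ⟨ν₃, hν₃, hν₃1, hν₃2⟩ := exists_third h h12.symm hν₂
    set X := Wcore (p 1) ⊓ Wcore ν₂ ⊓ Wcore ν₃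
    have hX1 : X ≤ Wcore (p 1) := inf_le_left.trans inf_le_left
    have hXZ : X ≤ vertexZ 2 (p 2) := hX1.trans (hWall _ h12.symm).1
    haveI : Finite X := Finite.of_injective (inclusion hXZ) (inclusion_injective _)
    have hXn : St (p 2) ≤ normalizer (X : Set G) := by
      intro g hg
      refine mem_normalizer_of_forall fun x hx' => ?_
      have hall : ∀ ν, (cosetGraph P₁ P₂).Adj (p 2) ν → x ∈ Wcore ν := by
        intro ν hν
        rcases eq_or_ne ν (p 1) with rfl | e1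
        · exact hx'.1.1
        rcases eq_or_ne ν ν₂ with rfl | e2
        · exact hx'.1.2
        rw [nbr_eq h h12.symm hν₂ hν₃ hν₂1 hν₃1 hν₃2 hν e1 e2]
        exact hx'.2
      have hall' : ∀ ν, (cosetGraph P₁ P₂).Adj (p 2) ν → g * x * g⁻¹ ∈ Wcore ν := fun ν hν => by
        have := Wcore_conj h g (hall _ (adj_smul_fix hν (inv_mem hg)))
        rwa [smul_inv_smul] at this
      exact ⟨⟨hall' _ h12.symm, hall' _ hν₂⟩, hall' _ hν₃⟩
    have hXbot : X = ⊥ := by
      refine normal_bot h h12.symm (hXZ.trans ((Z_le_Q h _).trans (Q_le_edge h h12.symm))) hXn ?_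
      obtain ⟨k, hk, hkQ⟩ := SetLike.not_le_iff_exists.1 (Q_ne h h12.symm)
      refine normal_of_centralized h h12 hX1 ?_ (inf_le_right.trans hXn)
        (Q_le_edge h h12.symm hk).2 (fun e he => (Z_spec h (mem_Wcore.1 he _ h12)).2.2 k hk) hkQ
      intro g hg
      refine mem_normalizer_of_forall fun x hx' => ?_
      have := Wcore_conj h g hx'
      rwa [MulAction.mem_stabilizer_iff.1 hg] at this
    have s1 := card_le_two_mul_inf (hWall _ h12.symm).1 (hWall _ hν₂).1 (hWall _ hν₂).2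
    have s2 := card_le_two_mul_inf (A := Wcore (p 1) ⊓ Wcore ν₂) (inf_le_left.trans (hWall _ h12.symm).1)
      (hWall _ hν₃).1 (hWall _ hν₃).2
    change Nat.card _ ≤ 2 * Nat.card X at s2
    rw [hXbot, card_bot] at s2
    have h9 := (hWall _ h12.symm).2
    rw [card_Z h hN2 h12.symm] at h9
    have : 3 * 3 ≤ Nat.card (vertexZ 2 (p 1)) * Nat.card (vertexZ 2 (p 1)) := Nat.mul_le_mul hbig hbig
    omega
  · obtain ⟨c, hc, hcQ⟩ := SetLike.not_le_iff_exists.1 href
    haveI := finZ h μ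
    haveI := finZ h (p bb)
    have hu1 : vertexZ 2 μ ≤ edgeStabilizer (p 1) (p 2) := by
      refine fun x hx' => ?_
      have h2 : x ∈ vertexQ 2 (p 2) :=
        near_adj h hp.1 (a := bb) (c := 2) le_rfl (by omega) (by omega) (by omega) hμ hx'
      rw [edgeStabilizer_comm]; exact Q_le_edge h h12.symm h2
    have h2 := card_le_two_mul h h12 hu1
    have hZμ := card_Z h hμN hμ.symm
    have hZb : Nat.card (vertexZ 2 (p bb)) = Nat.card (vertexZ 2 (p 1)) := by
      obtain ⟨g, hg⟩ := exists_smul_same_side (u := p 1) (v := p bb) (hC.trans hCb.symm)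
      rw [← hg, card_Z_smul h]
    obtain ⟨c', hc', hc'Z⟩ : ∃ x ∈ vertexZ 2 μ ⊓ vertexQ 2 (p 1), x ∉ vertexZ 2 (p bb) := by
      by_contra hcon
      push Not at hcon
      have := card_le_of_le hcon
      have h4 : Nat.card (vertexZ 2 (p 1)) * Nat.card (vertexZ 2 (p 1)) ≤ 2 * Nat.card (vertexZ 2 (p 1)) := by
        rw [hZμ, hZb] at h2; omega
      have := Nat.le_of_mul_le_mul_right h4 Nat.card_pos
      omega
    have hce : c ∈ edgeStabilizer μ (p bb) := by
      rw [edgeStabilizer_comm]; exact Q_le_edge h hμ hc.2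
    have hc'e : c' ∈ edgeStabilizer (p 0) (p 1) := by
      rw [edgeStabilizer_comm]; exact Q_le_edge h h01.symm hc'.2
    have h3 := comm_mem h hN h01 hc'e hc.1
    have h4 := inv_mem (comm_mem h hμN hμ.symm hce hc'.1)
    have e : (c' * (c * c' * c⁻¹))⁻¹ = c * (c' * c * c'⁻¹) := by
      rw [mul_self_inv (Z_sq h hc.1), mul_self_inv (Z_sq h hc'.1), mul_inv_rev, mul_inv_rev, mul_inv_rev,
        mul_self_inv (Z_sq h hc.1), mul_self_inv (Z_sq h hc'.1)]
      group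
    rw [e] at h4
    have hrefN : Ref P₁ P₂ true bb := by
      refine Ref.mono (L := bb + 1) ⟨snocW p bb μ, c, (crit_walk h hp).snoc hμ (fun _ => hμne), ?_,
        fun i hi => ?_, ?_⟩ (Nat.le_succ _)
      · rw [snocW_succ]; exact hμN
      · rcases Nat.lt_or_ge i (bb + 1) with h5 | h5
        · rw [snocW_le _ _ (by omega)]; exact crit_fix h hp (by omega) hc.1
        · rw [show i = bb + 1 by omega, snocW_succ]; exact hce.1
      · rw [snocW_succ]; exact hcQ
    have hrefC : Ref P₁ P₂ false bb := by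
      have := crit_ref h hp
      rwa [show (p bb).isLeft = false from hCb] at this
    have hx1 := no_shared h hrefN hrefC (m := bb - 1) (k := m) (by omega) (by omega)
      (w := fun i => p (i + 1)) ((crit_walk h hp).shift 1 (by omega)) hC h3
      (by show _ ∈ vertexZ 2 (p (bb - 1 + 1)); rwa [show bb - 1 + 1 = bb by omega])
    refine hc'Z (fix_eq h hμN hμ.symm hce hcQ hc'.1 ?_)
    have h6 : c' * c * c'⁻¹ = c := (eq_inv_of_mul_eq_one_right hx1).trans (mul_self_inv (Z_sq h hc.1))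
    calc c * c' = c' * c * c'⁻¹ * c' := by rw [h6]
      _ = c' * c := by group

theorem Z_cases (hk : ∀ y : CosetVertex P₁ P₂, IsC y → Nat.card (vertexZ 2 y) = 2)
    {x l : CosetVertex P₁ P₂} (hC : IsC x) (hl : (cosetGraph P₁ P₂).Adj x l) {a c : G}
    (ha : a ∈ vertexZ 2 l) (ha' : a ∉ vertexZ 2 x) (hc : c ∈ vertexZ 2 l) (hc' : c ∉ vertexZ 2 x) :
    a * c ∈ vertexZ 2 x := by
  have hN := isN_of_adj hl hC
  obtain ⟨t, ht, htQ⟩ := exists_edge_not_Q h hl.symm
  have hne : ∀ y, y ∈ vertexZ 2 l → y ∉ vertexZ 2 x → y * (t * y * t⁻¹) ≠ 1 := fun y hy hy' e => by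
    have h6 : t * y * t⁻¹ = y := (eq_inv_of_mul_eq_one_right e).trans (mul_self_inv (Z_sq h hy))
    refine hy' (fix_eq h hN hl.symm ht htQ hy ?_)
    calc t * y = t * y * t⁻¹ * t := by group
      _ = y * t := by rw [h6]
  have e := eq_of_card_two (hk x hC) (comm_mem h hN hl.symm ht ha) (comm_mem h hN hl.symm ht hc)
    (hne a ha ha') (hne c hc hc')
  refine fix_eq h hN hl.symm ht htQ (mul_mem ha hc) ?_
  have hta := Z_mem_conj h ht.1 ha
  have htc := Z_mem_conj h ht.1 hc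
  have e2 : t * a * t⁻¹ * (t * c * t⁻¹) = a * c := by
    calc t * a * t⁻¹ * (t * c * t⁻¹) = a⁻¹ * (a * (t * a * t⁻¹)) * (t * c * t⁻¹) := by group
      _ = a⁻¹ * (c * (t * c * t⁻¹)) * (t * c * t⁻¹) := by rw [e]
      _ = a⁻¹ * c * ((t * c * t⁻¹) * (t * c * t⁻¹)) := by group
      _ = a * c := by rw [Z_sq h htc, mul_one, mul_self_inv (Z_sq h ha)]
  calc t * (a * c) = (t * a * t⁻¹ * (t * c * t⁻¹)) * t := by group
    _ = a * c * t := by rw [e2]

theorem Z_inter (hk : ∀ y : CosetVertex P₁ P₂, IsC y → Nat.card (vertexZ 2 y) = 2)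
    {x l l' : CosetVertex P₁ P₂} (hC : IsC x) (hl : (cosetGraph P₁ P₂).Adj x l)
    (hl' : (cosetGraph P₁ P₂).Adj x l') (hne : l ≠ l') {a : G} (ha : a ∈ vertexZ 2 l)
    (ha' : a ∈ vertexZ 2 l') : a ∈ vertexZ 2 x := by
  by_contra hax
  have key : ∀ {l l' : CosetVertex P₁ P₂}, (cosetGraph P₁ P₂).Adj x l → (cosetGraph P₁ P₂).Adj x l' →
      a ∈ vertexZ 2 l → a ∈ vertexZ 2 l' → vertexZ 2 l ≤ vertexZ 2 l' := by
    intro l l' hl hl' ha ha' y hy
    by_cases hyx : y ∈ vertexZ 2 x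
    · exact Zc_le h hC hl' hyx
    · have := Zc_le h hC hl' (Z_cases h hk hC hl ha hax hy hyx)
      have h2 := mul_mem (inv_mem ha') this
      rwa [inv_mul_cancel_left] at h2
  exact Z_ne h hl hl' hne (le_antisymm (key hl hl' ha ha') (key hl' hl ha' ha))

omit h in
theorem Cls.mem_V {β γ : CosetVertex P₁ P₂} {r : G} (hr : Cls β γ r) : r ∈ V β := by
  obtain ⟨l, l', a, c, hl, hl', -, -, -, ha, -, hc, -, rfl⟩ := hr
  exact mul_mem (Z_le_V hl ha) (Z_le_V hl' hc)

theorem Cls.not_mem (hk : ∀ y : CosetVertex P₁ P₂, IsC y → Nat.card (vertexZ 2 y) = 2)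
    {β γ : CosetVertex P₁ P₂} {r : G} (hr : Cls β γ r) (hC : IsC β) : r ∉ vertexZ 2 β := by
  obtain ⟨l, l', a, c, hl, hl', -, -, hne, ha, ha', hc, -, rfl⟩ := hr
  intro hmem
  refine ha' (Z_inter h hk hC hl hl' hne ha ?_)
  have := mul_mem (Zc_le h hC hl' hmem) (inv_mem hc)
  rwa [mul_inv_cancel_right] at this

theorem Cls.unique (hb : 3 ≤ bb) (hk : ∀ y : CosetVertex P₁ P₂, IsC y → Nat.card (vertexZ 2 y) = 2)
    {β γ : CosetVertex P₁ P₂} (hC : IsC β) (hγ : (cosetGraph P₁ P₂).Adj β γ) {r r' : G} (hr : Cls β γ r)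
    (hr' : Cls β γ r') : r * r' ∈ vertexZ 2 β := by
  obtain ⟨l, l', a, c, hl, hl', hlγ, hlγ', hne, ha, ha', hc, hc', rfl⟩ := hr
  obtain ⟨k, k', a₂, c₂, hkl, hkl', hkγ, hkγ', hkne, ha₂, ha₂', hc₂, hc₂', rfl⟩ := hr'
  have base : ∀ {a₂ c₂ : G}, a₂ ∈ vertexZ 2 l → a₂ ∉ vertexZ 2 β → c₂ ∈ vertexZ 2 l' → c₂ ∉ vertexZ 2 β →
      a * c * (a₂ * c₂) ∈ vertexZ 2 β := by
    intro a₂ c₂ ha₂ ha₂' hc₂ hc₂'
    have h1 := mul_mem (Z_cases h hk hC hl ha ha' ha₂ ha₂') (Z_cases h hk hC hl' hc hc' hc₂ hc₂')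
    rwa [show a * a₂ * (c * c₂) = a * c * (a₂ * c₂) by
      rw [← mul_assoc, mul_assoc a a₂ c, V_comm h hb (Z_le_V hl ha₂) (Z_le_V hl' hc)]
      group] at h1
  rcases eq_or_ne k l with rfl | hk1
  · obtain rfl : k' = l' := nbr_eq h hγ hl hl' hlγ hlγ' hne.symm hkl' hkγ' hkne.symm
    exact base ha₂ ha₂' hc₂ hc₂'
  · obtain rfl : k = l' := nbr_eq h hγ hl hl' hlγ hlγ' hne.symm hkl hkγ hk1
    obtain rfl : k' = l := nbr_eq h hγ hl' hl hlγ' hlγ hne hkl' hkγ' hkne.symm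
    rw [V_comm h hb (Z_le_V hkl ha₂) (Z_le_V hkl' hc₂)]
    exact base hc₂ hc₂' ha₂ ha₂'

theorem Cls.conj {β γ : CosetVertex P₁ P₂} {r g : G} (hr : Cls β γ r) (hg : g ∈ edgeStabilizer β γ) :
    Cls β γ (g * r * g⁻¹) := by
  obtain ⟨l, l', a, c, hl, hl', hlγ, hlγ', hne, ha, ha', hc, hc', rfl⟩ := hr
  have hfix : ∀ y, g * y * g⁻¹ ∈ vertexZ 2 β ↔ y ∈ vertexZ 2 β := fun y => by
    have := conj_smul_mem_Z_iff h g (δ := β) (x := y)
    rwa [MulAction.mem_stabilizer_iff.1 hg.1] at this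
  have hγ : g • γ = γ := MulAction.mem_stabilizer_iff.1 hg.2
  refine ⟨g • l, g • l', g * a * g⁻¹, g * c * g⁻¹, adj_smul_fix hl hg.1, adj_smul_fix hl' hg.1,
    fun e => hlγ (smul_left_cancel g (e.trans hγ.symm)), fun e => hlγ' (smul_left_cancel g (e.trans hγ.symm)),
    fun e => hne (smul_left_cancel g e), conj_smul_mem_Z h g ha, fun e => ha' ((hfix a).1 e),
    conj_smul_mem_Z h g hc, fun e => hc' ((hfix c).1 e), by group⟩

/-- An element in both classes at `γ` is in `Z_γ`. -/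
theorem Cls.mid (hb : 3 ≤ bb) (hk : ∀ y : CosetVertex P₁ P₂, IsC y → Nat.card (vertexZ 2 y) = 2)
    {β β' γ : CosetVertex P₁ P₂} (hN : IsN γ) (hβ : (cosetGraph P₁ P₂).Adj γ β)
    (hβ' : (cosetGraph P₁ P₂).Adj γ β') (hne : β ≠ β') {r : G} (hr : Cls β γ r) (hr' : Cls β' γ r) :
    r ∈ vertexZ 2 γ := by
  have hrV := hr.mem_V
  have hC := isC_of_adj hβ hN
  refine mem_Z_of_central h hN ?_ (V_sq h hb hrV) fun q hq => ?_
  · have hpath : IsPath (consW β (fun _ => γ)) 1 := by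
      intro i hi
      obtain rfl : i = 0 := by omega
      simpa [consW] using hβ.symm
    exact V_le_Q h hpath (a := 0) (c := 1) (by omega) le_rfl (by omega) (by omega) hrV
  have key : ∀ {β : CosetVertex P₁ P₂}, (cosetGraph P₁ P₂).Adj γ β → Cls β γ r →
      r * (q * r * q⁻¹) ∈ vertexZ 2 β := fun {β} hβ hr => Cls.unique h hb hk (isC_of_adj hβ hN) hβ.symm hr
        (hr.conj h (by rw [edgeStabilizer_comm]; exact Q_le_edge h hβ hq))
  have h1 := Z_mid h hN hβ hβ' hne (key hβ hr) (key hβ' hr')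
  have h2 : q * r * q⁻¹ = r := (eq_inv_of_mul_eq_one_right h1).trans (mul_self_inv (V_sq h hb hrV))
  calc q * r = q * r * q⁻¹ * q := by group
    _ = r * q := by rw [h2]

/-- The common class element of a critical pair. -/
theorem CC.rel {m : ℕ} (hb : bb = 2 * m + 3)
    (hk : ∀ y : CosetVertex P₁ P₂, IsC y → Nat.card (vertexZ 2 y) = 2) {w : ℕ → CosetVertex P₁ P₂}
    (hw : CC w) {l μ : CosetVertex P₁ P₂} (hl : (cosetGraph P₁ P₂).Adj (w 0) l) (hl1 : l ≠ w 1)
    (hμ : (cosetGraph P₁ P₂).Adj (w (bb - 1)) μ) (hμ1 : μ ≠ w (bb - 2)) {a u : G}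
    (ha : a ∈ vertexZ 2 l) (ha' : a ∉ vertexZ 2 (w 0)) (hu : u ∈ vertexZ 2 μ)
    (hu' : u ∉ vertexZ 2 (w (bb - 1))) :
    a ∉ vertexQ 2 (w (bb - 1)) ∧ u ∉ vertexQ 2 (w 0) ∧ Cls (w 0) (w 1) (a * (u * a * u⁻¹)) ∧
      Cls (w (bb - 1)) (w (bb - 2)) (a * (u * a * u⁻¹)) := by
  have hC0 : IsC (w 0) := hw.2.1
  have hCe : IsC (w (bb - 1)) := hw.end_C h (m := m + 1) (by omega)
  have hcore : ∀ {w : ℕ → CosetVertex P₁ P₂}, CC w → ∀ {l : CosetVertex P₁ P₂},
      (cosetGraph P₁ P₂).Adj (w 0) l → l ≠ w 1 → ∀ {a : G}, a ∈ vertexZ 2 l → a ∉ vertexZ 2 (w 0) →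
      a ∉ vertexQ 2 (w (bb - 1)) := by
    intro w hw l hl hl1 a ha ha' hQ
    obtain ⟨a0, ha0, ha0Q⟩ := SetLike.not_le_iff_exists.1 (hw.all h hb hl hl1)
    have hZQ : vertexZ 2 (w 0) ≤ vertexQ 2 (w (bb - 1)) :=
      near h hw.1 (Nat.zero_le _) le_rfl (by omega) (by omega)
    have := mul_mem (inv_mem hQ) (hZQ (Z_cases h hk hw.2.1 hl ha ha' ha0 (fun e => ha0Q (hZQ e))))
    rw [inv_mul_cancel_left] at this
    exact ha0Q this
  have haQ := hcore hw hl hl1 ha ha'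
  have huQ : u ∉ vertexQ 2 (w 0) := by
    have := hcore (hw.back h hb) (l := μ) (by simpa using hμ)
      (by rw [show bb - 1 - 1 = bb - 2 by omega]; exact hμ1) (a := u) hu (by simpa using hu')
    simpa using this
  have h01 : (cosetGraph P₁ P₂).Adj (w 0) (w 1) := hw.1 0 (by omega)
  have hω : (cosetGraph P₁ P₂).Adj (w (bb - 2)) (w (bb - 1)) := by
    have := hw.1.adj_pred (i := bb - 1) (by omega) le_rfl
    rwa [show bb - 1 - 1 = bb - 2 by omega] at this
  have hue : u ∈ edgeStabilizer (w 0) (w 1) := by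
    rw [edgeStabilizer_comm]
    exact Q_le_edge h h01.symm (hw.near_adj_end h (by omega) le_rfl (by omega) hμ hu)
  have hae : a ∈ edgeStabilizer (w (bb - 1)) (w (bb - 2)) := by
    rw [edgeStabilizer_comm]
    exact Q_le_edge h hω (near_adj h hw.1 (a := 0) (c := bb - 2) (by omega) (by omega) (by omega) (by omega) hl ha)
  have mk : ∀ {x y l : CosetVertex P₁ P₂} {a u : G}, IsC x → (cosetGraph P₁ P₂).Adj x y →
      (cosetGraph P₁ P₂).Adj x l → l ≠ y → a ∈ vertexZ 2 l → a ∉ vertexZ 2 x →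
      u ∈ edgeStabilizer x y → u ∉ vertexQ 2 x → Cls x y (a * (u * a * u⁻¹)) := by
    intro x y l a u hx hy hl hly ha ha' hu huQ
    have hfix : u • y = y := MulAction.mem_stabilizer_iff.1 hu.2
    refine ⟨l, u • l, a, u * a * u⁻¹, hl, adj_smul_fix hl hu.1, hly,
      fun e => hly (smul_left_cancel u (e.trans hfix.symm)),
      fun e => huQ (edge_inf_edge h hy hl hly.symm hu e.symm), ha, ha', conj_smul_mem_Z h u ha,
      fun e => ha' ?_, rfl⟩
    rw [← MulAction.mem_stabilizer_iff.1 hu.1] at e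
    exact (conj_smul_mem_Z_iff h u).1 e
  have h1 := mk hC0 h01 hl hl1 ha ha' hue huQ
  refine ⟨haQ, huQ, h1, ?_⟩
  have h2 := mk hCe hω.symm hμ hμ1 hu hu' hae haQ
  have e : u * (a * u * a⁻¹) = (a * (u * a * u⁻¹))⁻¹ := by
    rw [mul_self_inv (Z_sq h ha), mul_self_inv (Z_sq h hu), mul_inv_rev, mul_inv_rev, mul_inv_rev,
      mul_self_inv (Z_sq h ha), mul_self_inv (Z_sq h hu)]
    group
  rw [e, mul_self_inv (V_sq h (by omega) h1.mem_V)] at h2
  exact h2

end Cfsg.Agent.Lib.Goldschmidt73
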