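import Mathlib
import Cfsg.Agent.Lib.Goldschmidt73.Odd

/-!
# Goldschmidt amalgams: the critical distance is not odd and at least five
-/

set_option autoImplicit false

namespace Cfsg.Agent.Lib.Goldschmidt73

open Cfsg Subgroup Cfsg.Agent.Lib.Amalgam

variable {G : Type*} [Group G] {P₁ P₂ : Subgroup G}

local notation "St" => MulAction.stabilizer G
local notation "bb" => criticalDistance 2 P₁ P₂

theorem comm_flip {a c : G} (ha : a * a = 1) (hc : c * c = 1) :
    a * (c * a * c⁻¹) = (c * (a * c * a⁻¹))⁻¹ := by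
  simp only [mul_inv_rev, mul_self_inv ha, mul_self_inv hc, mul_assoc]

variable (h : Hyp P₁ P₂)
include h

theorem CC.map {w q : ℕ → CosetVertex P₁ P₂} (hw : CC w) (hq : IsPath q (bb - 1)) {g : G}
    (hg : ∀ i ≤ bb - 1, g • w i = q i) : CC q := by
  refine ⟨hq, ?_, fun hle => hw.2.2 fun v hv => ?_⟩
  · rw [IsC, ← hg 0 (Nat.zero_le _)]
    exact (show (g • w 0).isLeft = (w 0).isLeft by cases w 0 <;> rfl).trans hw.2.1
  · have h1 : g * v * g⁻¹ ∈ vertexQ 2 (q (bb - 1)) :=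
      hle (hg 0 (Nat.zero_le _) ▸ conj_smul_mem_V h g hv)
    rwa [← hg (bb - 1) le_rfl, conj_smul_mem_Q_iff h] at h1

omit h in
theorem CC.congr {w q : ℕ → CosetVertex P₁ P₂} (hw : CC w) (hq : ∀ i ≤ bb - 1, q i = w i) : CC q := by
  refine ⟨fun i hi => ?_, ?_, ?_⟩
  · rw [hq i (by omega), hq (i + 1) (by omega)]; exact hw.1 i hi
  · rw [hq 0 (Nat.zero_le _)]; exact hw.2.1
  · rw [hq 0 (Nat.zero_le _), hq (bb - 1) le_rfl]; exact hw.2.2

theorem D_move {m : ℕ} (hb : bb = 2 * m + 3)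
    (hk : ∀ y : CosetVertex P₁ P₂, IsC y → Nat.card (vertexZ 2 y) = 2) {w : ℕ → CosetVertex P₁ P₂}
    (hw : CC w) {x y : CosetVertex P₁ P₂} (hx : (cosetGraph P₁ P₂).Adj (w 0) x)
    (hy : (cosetGraph P₁ P₂).Adj (w 0) y) (hxy : x ≠ y) :
    ¬ vertexQ 2 (w 0) ⊓ vertexQ 2 x ≤ vertexQ 2 y := by
  intro hle
  have hC := hw.2.1
  have hall : ∀ {x' y' : CosetVertex P₁ P₂}, (cosetGraph P₁ P₂).Adj (w 0) x' →
      (cosetGraph P₁ P₂).Adj (w 0) y' → x' ≠ y' → vertexQ 2 (w 0) ⊓ vertexQ 2 x' ≤ vertexQ 2 y' := by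
    intro x' y' hx' hy' hne q hq
    obtain ⟨g, hg, hgx⟩ := exists_smul_neighbour hx hx'
    obtain ⟨g', hg', hgx', hgy'⟩ : ∃ g' ∈ St (w 0), g' • x = x' ∧ g' • y = y' := by
      rcases eq_or_ne (g • y) y' with e | e
      · exact ⟨g, hg, hgx, e⟩
      obtain ⟨t, ht, htQ⟩ := exists_edge_not_Q h hx'
      refine ⟨t * g, mul_mem ht.1 hg, by rw [mul_smul, hgx]; exact ht.2, ?_⟩
      rw [mul_smul]
      exact swap h hx' (adj_smul_fix hy hg) hy' (fun e' => hxy (smul_left_cancel g (hgx.trans e'.symm)))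
        hne.symm e.symm ht htQ
    have h1 : g'⁻¹ * q * g' ∈ vertexQ 2 (w 0) ⊓ vertexQ 2 x := by
      refine ⟨?_, ?_⟩
      · have := Q_mem_conj h (inv_mem hg') hq.1
        rwa [inv_inv] at this
      · have := conj_smul_mem_Q h g'⁻¹ hq.2
        rwa [← hgx', inv_smul_smul, inv_inv] at this
    have h2 := conj_smul_mem_Q h g' (hle h1)
    rw [hgy', show g' * (g'⁻¹ * q * g') * g'⁻¹ = q by group] at h2
    exact h2
  obtain ⟨μ, hμ', hμbad'⟩ := (hw.back h hb).exists_bad
  have hμ : (cosetGraph P₁ P₂).Adj (w (bb - 1)) μ := by simpa using hμ'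
  have hμbad : ¬ vertexZ 2 μ ≤ vertexQ 2 (w 0) := by simpa using hμbad'
  obtain ⟨u, hu, huQ⟩ := SetLike.not_le_iff_exists.1 hμbad
  have hμ1 : μ ≠ w (bb - 2) := by
    rintro rfl
    exact hμbad (near h hw.1 (by omega) (Nat.zero_le _) (by omega) (by omega))
  have hu' : u ∉ vertexZ 2 (w (bb - 1)) := fun e =>
    huQ (near h hw.1 le_rfl (Nat.zero_le _) (by omega) (by omega) e)
  have h01 : (cosetGraph P₁ P₂).Adj (w 0) (w 1) := hw.1 0 (by omega)
  obtain ⟨l, hl, hl1⟩ := exists_other h h01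
  obtain ⟨z, hz, hzQ⟩ := SetLike.not_le_iff_exists.1 (hw.all h hb hl hl1)
  have hz' : z ∉ vertexZ 2 (w 0) := fun e =>
    hzQ (near h hw.1 (Nat.zero_le _) le_rfl (by omega) (by omega) e)
  obtain ⟨-, -, hcls, hcls'⟩ := hw.rel h hb hk hl hl1 hμ hμ1 hz hz' hu hu'
  have hue : u ∈ edgeStabilizer (w 0) (w 1) := by
    rw [edgeStabilizer_comm]
    exact Q_le_edge h h01.symm (hw.near_adj_end h (by omega) le_rfl (by omega) hμ hu)
  have hl'' : (cosetGraph P₁ P₂).Adj (w 0) (u • l) := adj_smul_fix hl hue.1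
  have hne : l ≠ u • l := fun e => huQ (edge_inf_edge h h01 hl hl1.symm hue e.symm)
  set c := u * z * u⁻¹ with hc
  set r := z * c with hr
  have hcZ : c ∈ vertexZ 2 (u • l) := conj_smul_mem_Z h u hz
  have hc' : c ∉ vertexZ 2 (w 0) := fun e => hz' (by
    rw [← MulAction.mem_stabilizer_iff.1 hue.1] at e
    exact (conj_smul_mem_Z_iff h u).1 e)
  -- `Q` centralizes `r`
  have hQr : ∀ q ∈ vertexQ 2 (w 0), q * r = r * q := by
    intro q hq
    by_cases hql : q ∈ vertexQ 2 l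
    · have h1 := (Z_spec h hz).2.2 q hql
      have h2 := (Z_spec h hcZ).2.2 q (hall hl hl'' hne ⟨hq, hql⟩)
      calc q * r = (q * z) * c := by rw [hr]; group
        _ = z * (q * c) := by rw [h1]; group
        _ = r * q := by rw [h2, hr]; group
    · have hql' : q ∉ vertexQ 2 (u • l) := fun e => hql (hall hl'' hl hne.symm ⟨hq, e⟩)
      have step : ∀ {l : CosetVertex P₁ P₂} {a : G}, (cosetGraph P₁ P₂).Adj (w 0) l → q ∉ vertexQ 2 l →
          a ∈ vertexZ 2 l → a ∉ vertexZ 2 (w 0) →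
          a * (q * a * q⁻¹) ∈ vertexZ 2 (w 0) ∧ a * (q * a * q⁻¹) ≠ 1 := by
        intro l a hl hql ha ha'
        have hqe : q ∈ edgeStabilizer l (w 0) := by rw [edgeStabilizer_comm]; exact Q_le_edge h hl hq
        refine ⟨comm_mem h (isN_of_adj hl hC) hl.symm hqe ha, fun e => ha' (fix_eq h (isN_of_adj hl hC) hl.symm hqe hql ha ?_)⟩
        have h6 : q * a * q⁻¹ = a := (eq_inv_of_mul_eq_one_right e).trans (mul_self_inv (Z_sq h ha))
        calc q * a = q * a * q⁻¹ * q := by group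
          _ = a * q := by rw [h6]
      obtain ⟨s1, s1'⟩ := step hl hql hz hz'
      obtain ⟨s2, s2'⟩ := step hl'' hql' hcZ hc'
      have e := eq_of_card_two (hk _ hC) s1 s2 s1' s2'
      have hqz := Z_mem_conj h (Q_le_edge h hl hq).2 hz
      have hqc := Z_mem_conj h (Q_le_edge h hl'' hq).2 hcZ
      have h3 : q * r * q⁻¹ = r := by
        calc q * r * q⁻¹ = z⁻¹ * (z * (q * z * q⁻¹)) * (q * c * q⁻¹) := by rw [hr]; group
          _ = z⁻¹ * (c * (q * c * q⁻¹)) * (q * c * q⁻¹) := by rw [e]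
          _ = z⁻¹ * c * ((q * c * q⁻¹) * (q * c * q⁻¹)) := by group
          _ = r := by rw [Z_sq h hqc, mul_one, mul_self_inv (Z_sq h hz)]
      calc q * r = q * r * q⁻¹ * q := by group
        _ = r * q := by rw [h3]
  have hur : u * r = r * u := V_comm h (by omega) (Z_le_V hμ hu) hcls'.mem_V
  have hrQ : r ∈ vertexQ 2 (w 0) := V_le_Q_self h (by omega) hcls.mem_V
  refine hcls.not_mem h hk hC ?_
  rw [Z_eq_omCenter h hC h01]
  refine mem_omCenter (Q_le_edge h h01 hrQ) (V_sq h (by omega) hcls.mem_V) fun a ha => ?_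
  by_cases haQ : a ∈ vertexQ 2 (w 0)
  · exact hQr a haQ
  · have h5 := hQr _ (inv_mul_mem_Q h h01 hue ha huQ haQ)
    calc a * r = u * (u⁻¹ * a * r) := by group
      _ = u * (r * (u⁻¹ * a)) := by rw [h5]
      _ = (u * r) * (u⁻¹ * a) := by group
      _ = r * a := by rw [hur]; group

/-- A critical pair shifts two steps backwards along any continuation. -/
theorem CC.shift {m : ℕ} (hb : bb = 2 * m + 5)
    (hk : ∀ y : CosetVertex P₁ P₂, IsC y → Nat.card (vertexZ 2 y) = 2) {w : ℕ → CosetVertex P₁ P₂}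
    (hw : CC w) {l ν : CosetVertex P₁ P₂} (hl : (cosetGraph P₁ P₂).Adj (w 0) l) (hl1 : l ≠ w 1)
    (hν : (cosetGraph P₁ P₂).Adj l ν) (hν0 : ν ≠ w 0) : CC (consW ν (consW l w)) := by
  have hb' : bb = 2 * (m + 1) + 3 := by omega
  have hC0 : IsC (w 0) := hw.2.1
  have hNl : IsN l := isN_of_adj hl hC0
  have hCν : IsC ν := isC_of_adj hν hNl
  have hp := hw.crit h (by omega) hl (hw.all h hb' hl hl1)
  set p := consW l w with hpdef
  have hpi : ∀ i, p (i + 1) = w i := fun i => consW_succ l w i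
  have hp0 : p 0 = l := rfl
  have hpb : p bb = w (bb - 1) := by rw [show bb = (bb - 1) + 1 by omega, hpi]; simp
  have hpω : p (bb - 1) = w (bb - 2) := by rw [show bb - 1 = (bb - 2) + 1 by omega, hpi]
  have hP : IsPath (consW ν p) (bb + 1) := hp.1.cons (by rw [hp0]; exact hν.symm)
  have hend : consW ν p (bb - 1) = w (bb - 3) := by
    rw [show bb - 1 = (bb - 3) + 1 + 1 by omega, consW_succ, hpi]
  refine ⟨hP.mono (by omega), hCν, ?_⟩
  rw [hend, consW_zero]
  intro hII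
  have hVw : ∀ i ≤ bb - 3, V ν ≤ vertexQ 2 (w i) := by
    intro i hi
    rcases hi.lt_or_eq with h1 | rfl
    · have := V_le_Q h hP (a := 0) (c := i + 1 + 1) (by omega) (by omega) (by omega) (by omega)
      rw [consW_succ, hpi] at this
      exact this
    · exact hII
  have hVl : V ν ≤ St l := (V_le_Q_self h (by omega)).trans ((Q_le_edge h hν.symm).trans inf_le_right)
  have hVω : V ν ≤ St (w (bb - 2)) := by
    refine (hVw (bb - 3) le_rfl).trans ((Q_le_edge h ?_).trans inf_le_right)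
    have := hw.1 (bb - 3) (by omega)
    rwa [show bb - 3 + 1 = bb - 2 by omega] at this
  have hrefC : Ref P₁ P₂ false (bb - 1) := by
    have := crit_ref h hp
    rw [hpb, show (w (bb - 1)).isLeft = false from hw.end_C h (m := m + 2) (by omega)] at this
    exact this.mono (by omega)
  -- no reference element at the moving kind
  have noRef : ¬ Ref P₁ P₂ true (bb - 1) := by
    intro hrefN
    have hq : IsWalk (consW ν p) (bb - 1) := by
      refine ((crit_walk h hp).cons (by rw [hp0]; exact hν.symm) fun _ => ?_).mono (by omega)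
      rw [show (1 : ℕ) = 0 + 1 by rfl, hpi]; exact hν0.symm
    obtain ⟨g, hg⟩ := transitive h hrefN hrefC (Nat.le_succ _) (hw.walk h (by omega)) hq
      (hC0.trans hCν.symm)
    have := (hw.map h hq.1 hg).2.2
    rw [hend, consW_zero] at this
    exact this hII
  obtain ⟨μ, hμ', hμbad'⟩ := (hw.back h hb').exists_bad
  have hμ : (cosetGraph P₁ P₂).Adj (w (bb - 1)) μ := by simpa using hμ'
  have hμbad : ¬ vertexZ 2 μ ≤ vertexQ 2 (w 0) := by simpa using hμbad'
  obtain ⟨u, hu, huQ⟩ := SetLike.not_le_iff_exists.1 hμbad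
  have hωadj : (cosetGraph P₁ P₂).Adj (w (bb - 2)) (w (bb - 1)) := by
    have := hw.1.adj_pred (i := bb - 1) (by omega) le_rfl
    rwa [show bb - 1 - 1 = bb - 2 by omega] at this
  have hVω' : V ν ≤ vertexQ 2 (w (bb - 2)) := by
    intro y hy
    by_contra hyQ
    refine noRef ⟨p, y, (crit_walk h hp).mono (by omega), ?_, fun i hi => ?_, by rw [hpω]; exact hyQ⟩
    · rw [hpω]; exact isN_of_adj hωadj.symm (hw.end_C h (m := m + 2) (by omega))
    · rcases i with _ | i
      · exact hVl hy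
      rw [hpi]
      rcases Nat.lt_or_ge i (bb - 2) with h1 | h1
      · exact pCoreOf_le _ _ (hVw i (by omega) hy)
      · rw [show i = bb - 2 by omega]; exact hVω hy
  have hVend : V ν ≤ edgeStabilizer (w (bb - 1)) (w (bb - 2)) := by
    rw [edgeStabilizer_comm]; exact hVω'.trans (Q_le_edge h hωadj)
  have hμ1 : μ ≠ w (bb - 2) := by
    rintro rfl
    exact hμbad (near h hw.1 (by omega) (Nat.zero_le _) (by omega) (by omega))
  have hμN : IsN μ := isN_of_adj hμ (hw.end_C h (m := m + 2) (by omega))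
  have hcomm : ∀ n ∈ V ν, n ∈ vertexQ 2 (w (bb - 1)) → n * u = u * n := by
    intro n hn hnQ
    by_cases hnμ : n ∈ vertexQ 2 μ
    · exact (Z_spec h hu).2.2 n hnμ
    refine absurd ?_ noRef
    refine Ref.mono (L := bb + 1) ⟨snocW p bb μ, n, (crit_walk h hp).snoc (by rw [hpb]; exact hμ)
      (fun _ => by rw [hpω]; exact hμ1), ?_, fun i hi => ?_, ?_⟩ (by omega)
    · rw [snocW_succ]; exact hμN
    · rcases Nat.lt_or_ge i (bb + 1) with h5 | h5
      · rw [snocW_le _ _ (by omega)]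
        rcases i with _ | i
        · exact hVl hn
        rw [hpi]
        rcases Nat.lt_or_ge i (bb - 2) with h1 | h1
        · exact pCoreOf_le _ _ (hVw i (by omega) hn)
        rcases Nat.lt_or_ge i (bb - 1) with h2 | h2
        · exact pCoreOf_le _ _ (show n ∈ vertexQ 2 (w i) from (show i = bb - 2 by omega) ▸ hVω' hn)
        · rw [show i = bb - 1 by omega]; exact pCoreOf_le _ _ hnQ
      · rw [show i = bb + 1 by omega, snocW_succ]; exact (Q_le_edge h hμ hnQ).2
    · rw [snocW_succ]; exact hnμ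
  -- the product of the two closures
  set J := V ν ⊔ V (w 0) with hJ
  have hJQ : J ≤ vertexQ 2 (w 0) := sup_le (hVw 0 (Nat.zero_le _)) (V_le_Q_self h (by omega))
  haveI := finQ h (w 0)
  haveI : Finite J := Finite.of_injective (inclusion hJQ) (inclusion_injective _)
  have hJconj : ∀ g : G, (∀ v ∈ V ν, g * v * g⁻¹ ∈ J) → (∀ v ∈ V (w 0), g * v * g⁻¹ ∈ J) →
      g ∈ normalizer (J : Set G) := fun g h1 h2 => mem_normalizer_of_forall fun y hy => by
    have hle : J ≤ J.comap (MulAut.conj g).toMonoidHom := sup_le h1 h2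
    exact hle hy
  obtain ⟨z, hz, hzQ⟩ := SetLike.not_le_iff_exists.1 (hw.all h hb' hl hl1)
  have h01 : (cosetGraph P₁ P₂).Adj (w 0) (w 1) := hw.1 0 (by omega)
  have hue : u ∈ edgeStabilizer (w 0) (w 1) := by
    rw [edgeStabilizer_comm]
    exact Q_le_edge h h01.symm (hw.near_adj_end h (by omega) le_rfl (by omega) hμ hu)
  have huJ : u ∈ normalizer (J : Set G) := by
    refine hJconj u (fun v hv => ?_) fun v hv => mem_sup_right (V_mem_conj h hue.1 hv)
    have base : ∀ n ∈ V ν, n ∈ vertexQ 2 (w (bb - 1)) → u * n * u⁻¹ ∈ J := fun n hn hnQ => by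
      rw [← hcomm n hn hnQ, mul_inv_cancel_right]; exact mem_sup_left hn
    by_cases hvQ : v ∈ vertexQ 2 (w (bb - 1))
    · exact base v hv hvQ
    · have hzν : z ∈ V ν := Z_le_V hν.symm hz
      have h1 := base _ (mul_mem (inv_mem hzν) hv) (inv_mul_mem_Q h hωadj.symm (hVend hzν) (hVend hv) hzQ hvQ)
      have h2 : u * z * u⁻¹ ∈ J := mem_sup_right (V_mem_conj h hue.1 (Z_le_V hl hz))
      rw [show u * v * u⁻¹ = (u * z * u⁻¹) * (u * (z⁻¹ * v) * u⁻¹) by group]
      exact mul_mem h2 h1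
  have hQl : vertexQ 2 l ≤ normalizer (J : Set G) := fun q hq =>
    hJconj q (fun v hv => mem_sup_left (V_mem_conj h (Q_le_edge h hν hq).2 hv))
      fun v hv => mem_sup_right (V_mem_conj h (Q_le_edge h hl.symm hq).2 hv)
  have hne'' : u • l ≠ l := fun e => huQ (edge_inf_edge h h01 hl hl1.symm hue e)
  obtain ⟨d, ⟨hd0, hd''⟩, hdl⟩ :=
    SetLike.not_le_iff_exists.1 (D_move h hb' hk hw (adj_smul_fix hl hue.1) hl hne'')
  have hdJ : d ∈ normalizer (J : Set G) := by
    rw [Q_smul] at hd''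
    obtain ⟨d', hd', rfl⟩ := hd''
    exact mul_mem (mul_mem huJ (hQl hd')) (inv_mem huJ)
  have hde : d ∈ edgeStabilizer l (w 0) := by rw [edgeStabilizer_comm]; exact Q_le_edge h hl hd0
  have hedge : edgeStabilizer l (w 0) ≤ normalizer (J : Set G) := fun a ha => by
    by_cases haQ : a ∈ vertexQ 2 l
    · exact hQl haQ
    · have := mul_mem hdJ (hQl (inv_mul_mem_Q h hl.symm hde ha hdl haQ))
      rwa [mul_inv_cancel_left] at this
  have hSt0 : St (w 0) ≤ normalizer (J : Set G) :=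
    stab_le_of_move h hl (by rw [edgeStabilizer_comm]; exact hedge) hue.1 huJ hne''
  obtain ⟨ν', hν', hν'0, hν'ν⟩ := exists_third h hl.symm hν
  obtain ⟨t, ht, htQ⟩ := exists_edge_not_Q h hl.symm
  have htν : t • ν = ν' := swap h hl.symm hν hν' hν0 hν'0 hν'ν ht htQ
  have hν'J : V ν' ≤ J := by
    intro v hv
    have h1 := conj_smul_mem_V h t⁻¹ hv
    rw [← htν, inv_smul_smul, inv_inv] at h1
    have h2 := conj_mem (hedge ht) (mem_sup_left h1 : t⁻¹ * v * t ∈ J)
    rwa [show t * (t⁻¹ * v * t) * t⁻¹ = v by group] at h2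
  have hallJ : ∀ x, (cosetGraph P₁ P₂).Adj l x → V x ≤ J := by
    intro x hx
    rcases eq_or_ne x (w 0) with rfl | e1
    · exact le_sup_right
    rcases eq_or_ne x ν with rfl | e2
    · exact le_sup_left
    rw [nbr_eq h hl.symm hν hν' hν0 hν'0 hν'ν hx e1 e2]; exact hν'J
  have hStl : St l ≤ normalizer (J : Set G) := fun g hg =>
    hJconj g (fun v hv => hallJ _ (adj_smul_fix hν hg) (conj_smul_mem_V h g hv))
      fun v hv => hallJ _ (adj_smul_fix hl.symm hg) (conj_smul_mem_V h g hv)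
  have hbot := normal_bot h hl (hJQ.trans (Q_le_edge h hl)) hSt0 hStl
  obtain ⟨x, hx, hx1⟩ := exists_ne_one h l
  exact hx1 (mem_bot.1 (hbot ▸ (mem_sup_right (Z_le_V hl hx) : x ∈ J)))

/-- A critical pair shifts two steps forwards. -/
theorem CC.fwd {m : ℕ} (hb : bb = 2 * m + 5)
    (hk : ∀ y : CosetVertex P₁ P₂, IsC y → Nat.card (vertexZ 2 y) = 2) {w : ℕ → CosetVertex P₁ P₂}
    (hw : CC w) {μ ρ : CosetVertex P₁ P₂} (hμ : (cosetGraph P₁ P₂).Adj (w (bb - 1)) μ)
    (hμ1 : μ ≠ w (bb - 2)) (hρ : (cosetGraph P₁ P₂).Adj μ ρ) (hρ1 : ρ ≠ w (bb - 1)) :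
    ∃ q, CC q ∧ (∀ i, i + 2 ≤ bb - 1 → q i = w (i + 2)) ∧ q (bb - 2) = μ ∧ q (bb - 1) = ρ := by
  have h1 := (hw.back h (m := m + 1) (by omega)).shift h hb hk (l := μ) (ν := ρ)
    (by simpa using hμ) (by rw [show bb - 1 - 1 = bb - 2 by omega]; exact hμ1) hρ (by simpa using hρ1)
  refine ⟨_, h1.back h (m := m + 1) (by omega), fun i hi => ?_, ?_, ?_⟩
  · show consW ρ (consW μ _) (bb - 1 - i) = _
    rw [show bb - 1 - i = (bb - 3 - i) + 1 + 1 by omega, consW_succ, consW_succ]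
    congr 1; omega
  · show consW ρ (consW μ _) (bb - 1 - (bb - 2)) = _
    rw [show bb - 1 - (bb - 2) = 0 + 1 by omega, consW_succ, consW_zero]
  · show consW ρ (consW μ _) (bb - 1 - (bb - 1)) = _
    rw [Nat.sub_self, consW_zero]

theorem third_Z (hk : ∀ y : CosetVertex P₁ P₂, IsC y → Nat.card (vertexZ 2 y) = 2)
    {γ β β' δ : CosetVertex P₁ P₂} (hN : IsN γ) (hβ : (cosetGraph P₁ P₂).Adj γ β)
    (hβ' : (cosetGraph P₁ P₂).Adj γ β') (hδ : (cosetGraph P₁ P₂).Adj γ δ) (h1 : β ≠ β') (h2 : δ ≠ β)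
    (h3 : δ ≠ β') {r : G} (hr : r ∈ vertexZ 2 γ) (hrβ : r ∉ vertexZ 2 β) (hrβ' : r ∉ vertexZ 2 β') :
    r ∈ vertexZ 2 δ := by
  obtain ⟨d, hd, hd1⟩ := exists_ne_one h δ
  have hdγ := Zc_le h (isC_of_adj hδ hN) hδ.symm hd
  have key : ∀ {β : CosetVertex P₁ P₂}, (cosetGraph P₁ P₂).Adj γ β → δ ≠ β → r ∉ vertexZ 2 β →
      r * d ∈ vertexZ 2 β := fun {β} hβ hne hrβ =>
    Z_cases h hk (isC_of_adj hβ hN) hβ.symm hr hrβ hdγ fun e => hd1 (Z_mid h hN hδ hβ hne hd e)
  have h4 := Z_mid h hN hβ hβ' h1 (key hβ h2 hrβ) (key hβ' h3 hrβ')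
  rw [eq_inv_of_mul_eq_one_left h4, mul_self_inv (Z_sq h hd)]
  exact hd

theorem V_comm_near {p : ℕ → CosetVertex P₁ P₂} {j a c : ℕ} (hp : IsPath p j) (ha : a ≤ j) (hc : c ≤ j)
    (h1 : a + 3 ≤ c + bb) (h2 : c + 3 ≤ a + bb) {v x : G} (hv : v ∈ V (p a)) (hx : x ∈ V (p c)) :
    v * x = x * v := by
  have hle : V (p a) ≤ centralizer (V (p c) : Set G) := by
    refine V_le fun ν hν => ?_
    rw [le_centralizer_iff]
    refine V_le fun μ hμ => ?_
    intro s hs
    refine mem_centralizer_iff.2 fun k hk => ?_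
    refine ((Z_spec h hk).2.2 s (Q_of_lt h ?_ hs)).symm
    have h3 := dist_le_of_path h hp hc ha (d := bb - 3) (by omega) (by omega)
    have h4 := (conn h).dist_triangle (u := μ) (v := p c) (w := p a)
    have h5 := (conn h).dist_triangle (u := μ) (v := p a) (w := ν)
    rw [SimpleGraph.dist_eq_one_iff_adj.2 hμ.symm] at h4
    rw [SimpleGraph.dist_eq_one_iff_adj.2 hν] at h5
    omega
  exact (mem_centralizer_iff.1 (hle hv) x hx).symm

/-- The class element lies at the third vertex of the walk. -/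
theorem CC.mid_val {m : ℕ} (hb : bb = 2 * m + 5)
    (hk : ∀ y : CosetVertex P₁ P₂, IsC y → Nat.card (vertexZ 2 y) = 2) {w : ℕ → CosetVertex P₁ P₂}
    (hw : CC w) {l μ : CosetVertex P₁ P₂} (hl : (cosetGraph P₁ P₂).Adj (w 0) l) (hl1 : l ≠ w 1)
    (hμ : (cosetGraph P₁ P₂).Adj (w (bb - 1)) μ) (hμ1 : μ ≠ w (bb - 2)) {a u : G}
    (ha : a ∈ vertexZ 2 l) (ha' : a ∉ vertexZ 2 (w 0)) (hu : u ∈ vertexZ 2 μ)
    (hu' : u ∉ vertexZ 2 (w (bb - 1))) : a * (u * a * u⁻¹) ∈ vertexZ 2 (w 2) := by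
  have hb' : bb = 2 * (m + 1) + 3 := by omega
  have hC0 : IsC (w 0) := hw.2.1
  have hCe : IsC (w (bb - 1)) := hw.end_C h (m := m + 2) (by omega)
  have h01 : (cosetGraph P₁ P₂).Adj (w 0) (w 1) := hw.1 0 (by omega)
  have h12 : (cosetGraph P₁ P₂).Adj (w 1) (w 2) := hw.1 1 (by omega)
  have hN1 : IsN (w 1) := isN_of_adj h01 hC0
  have hwalk := hw.walk h (by omega)
  obtain ⟨-, -, hr, hre⟩ := hw.rel h hb' hk hl hl1 hμ hμ1 ha ha' hu hu'
  set r := a * (u * a * u⁻¹)
  -- the sibling walk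
  obtain ⟨β', hβ', hβ'0, hβ'2⟩ := exists_third h h01.symm h12
  obtain ⟨ρ, hρ, hρ1⟩ := exists_other h hμ.symm
  obtain ⟨w2, hw2, hw2i, -, -⟩ := hw.fwd h hb hk hμ hμ1 hρ hρ1
  have e20 : w2 0 = w 2 := hw2i 0 (by omega)
  have e21 : w2 1 = w 3 := hw2i 1 (by omega)
  have hw3 := hw2.shift h hb hk (l := w 1) (ν := β') (by rw [e20]; exact h12.symm)
    (by rw [e21]; exact (hwalk.2 1 (by omega)).symm) hβ' (by rw [e20]; exact hβ'2)
  set w3 := consW β' (consW (w 1) w2)
  have e3 : ∀ i, i + 2 ≤ bb - 1 → w3 (i + 2) = w (i + 2) := fun i hi => by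
    show consW β' (consW (w 1) w2) (i + 1 + 1) = _
    rw [consW_succ, consW_succ, hw2i i hi]
  have e30 : w3 0 = β' := rfl
  have e31 : w3 1 = w 1 := rfl
  have e3e : w3 (bb - 1) = w (bb - 1) := by
    have := e3 (bb - 3) (by omega)
    rwa [show bb - 3 + 2 = bb - 1 by omega] at this
  have e3ω : w3 (bb - 2) = w (bb - 2) := by
    have := e3 (bb - 4) (by omega)
    rwa [show bb - 4 + 2 = bb - 2 by omega] at this
  obtain ⟨l', hl', hl'1⟩ := exists_other h hβ'.symm
  obtain ⟨a', ha₂, ha₂Q⟩ := SetLike.not_le_iff_exists.1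
    (hw3.all h hb' (l := l') (by rw [e30]; exact hl') (by rw [e31]; exact hl'1))
  have ha₂' : a' ∉ vertexZ 2 (w3 0) := fun e =>
    ha₂Q (near h hw3.1 (Nat.zero_le _) le_rfl (by omega) (by omega) e)
  obtain ⟨-, -, hr', hre'⟩ := hw3.rel h hb' hk (l := l') (μ := μ) (by rw [e30]; exact hl')
    (by rw [e31]; exact hl'1) (by rw [e3e]; exact hμ) (by rw [e3ω]; exact hμ1) ha₂ ha₂' hu
    (by rw [e3e]; exact hu')
  rw [e30, e31] at hr'
  rw [e3e, e3ω] at hre'
  set r' := a' * (u * a' * u⁻¹)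
  have hωadj : (cosetGraph P₁ P₂).Adj (w (bb - 2)) (w (bb - 1)) := by
    have := hw.1.adj_pred (i := bb - 1) (by omega) le_rfl
    rwa [show bb - 1 - 1 = bb - 2 by omega] at this
  have hdiff : r * r' ∈ vertexZ 2 (w (bb - 1)) :=
    Cls.unique h (by omega) hk hCe hωadj.symm hre hre'
  -- an element moving the end and commuting with both
  obtain ⟨ν, hν, hν0⟩ := exists_other h hl.symm
  have hsh := hw.shift h hb hk hl hl1 hν hν0
  have hCν : IsC ν := hsh.2.1
  have hshe : consW ν (consW l w) (bb - 1) = w (bb - 3) := by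
    rw [show bb - 1 = (bb - 3) + 1 + 1 by omega, consW_succ, consW_succ]
  have hshV : ¬ V ν ≤ vertexQ 2 (w (bb - 3)) := by
    have := hsh.2.2
    rwa [hshe, consW_zero] at this
  obtain ⟨y, hy, hyQ⟩ := SetLike.not_le_iff_exists.1 hshV
  have hP : IsPath (consW ν (consW l w)) (bb + 1) :=
    ((hw.1.cons hl.symm).cons (by rw [consW_zero]; exact hν.symm)).mono (by omega)
  have hP2 : ∀ i, consW ν (consW l w) (i + 2) = w i := fun i => by
    show consW ν (consW l w) (i + 1 + 1) = _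
    rw [consW_succ, consW_succ]
  have hyV0 : ∀ x ∈ V (w 0), y * x = x * y := fun x hx => by
    refine V_comm_near h hP (a := 0) (c := 2) (by omega) (by omega) (by omega) (by omega) hy ?_
    have := hP2 0
    rw [zero_add] at this
    rw [this]; exact hx
  have hyr : y * r = r * y := hyV0 r hr.mem_V
  have hyr' : y * r' = r' * y := by
    have hW : IsPath (consW ν (consW l (consW (w 0) (consW (w 1) fun _ => β')))) 4 := by
      have h4 : IsPath (fun _ : ℕ => β') 0 := fun i hi => by omega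
      exact (((h4.cons hβ').cons h01).cons hl.symm).cons hν.symm
    by_cases hboth : V ν ≤ vertexQ 2 β' ∧ V β' ≤ vertexQ 2 ν
    · have hr'V := hr'.mem_V
      have hCβ' : IsC β' := isC_of_adj hβ' hN1
      have c1 := V_quot h (by omega) hCν (hboth.2 hr'V) hy
      have c2 := V_quot h (by omega) hCβ' (hboth.1 hy) hr'V
      have e : r' * (y * r' * y⁻¹) = (y * (r' * y * r'⁻¹))⁻¹ :=
        comm_flip (V_sq h (by omega) hr'V) (V_sq h (by omega) hy)
      rw [e, mul_self_inv (Z_sq h c1)] at c2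
      have hβ0 : y * (r' * y * r'⁻¹) ∈ vertexZ 2 (w 0) :=
        Z_inter h hk hC0 hl h01 hl1 (Zc_le h hCν hν.symm c1) (Zc_le h hCβ' hβ'.symm c2)
      have h1 := Z_mid h (isN_of_adj hl hC0) hν hl.symm hν0 c1 hβ0
      have h2 : r' * y * r'⁻¹ = y :=
        (eq_inv_of_mul_eq_one_right h1).trans (mul_self_inv (V_sq h (by omega) hy))
      calc y * r' = r' * y * r'⁻¹ * r' := by rw [h2]
        _ = r' * y := by group
    · have hb5 : bb - 1 = 4 := by
        by_contra hne
        refine hboth ⟨?_, ?_⟩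
        · simpa [consW] using V_le_Q h hW (a := 0) (c := 4) (by omega) le_rfl (by omega) (by omega)
        · simpa [consW] using V_le_Q h hW (a := 4) (c := 0) le_rfl (by omega) (by omega) (by omega)
      set W := consW ν (consW l (consW (w 0) (consW (w 1) fun _ => β')))
      have hWC : CC W := by
        have hCβ' : IsC β' := isC_of_adj hβ' hN1
        by_cases hA : V ν ≤ vertexQ 2 β'
        · have hB : ¬ V β' ≤ vertexQ 2 ν := fun hh => hboth ⟨hA, hh⟩
          have hrev : CC (fun i => W (bb - 1 - i)) := by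
            refine ⟨(hb5.symm ▸ hW : IsPath W (bb - 1)).rev, ?_, ?_⟩
            · simpa [W, hb5, consW] using hCβ'
            · simpa [W, hb5, consW] using hB
          refine (hrev.back h hb').congr fun i hi => ?_
          show W i = W (bb - 1 - (bb - 1 - i))
          congr 1; omega
        · refine ⟨hb5.symm ▸ hW, hCν, ?_⟩
          simpa [W, hb5, consW] using hA
      have eW0 : W 0 = ν := rfl
      have eW1 : W 1 = l := rfl
      have eWe : W (bb - 1) = β' := by rw [hb5]; rfl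
      have eWω : W (bb - 2) = w 1 := by rw [show bb - 2 = 3 by omega]; rfl
      obtain ⟨l2, hl2, hl21⟩ := exists_other h hν.symm
      obtain ⟨a2, ha2, ha2Q⟩ := SetLike.not_le_iff_exists.1
        (hWC.all h hb' (l := l2) (by rw [eW0]; exact hl2) (by rw [eW1]; exact hl21))
      have hl'bad := (hWC.back h hb').all h hb' (l := l') (by simpa [eWe] using hl')
        (by rw [show bb - 1 - 1 = bb - 2 by omega, eWω]; exact hl'1)
      obtain ⟨c2, hc2, hc2Q⟩ := SetLike.not_le_iff_exists.1 hl'bad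
      obtain ⟨-, -, hs, hse⟩ := hWC.rel h hb' hk (l := l2) (μ := l') (by rw [eW0]; exact hl2)
        (by rw [eW1]; exact hl21) (by rw [eWe]; exact hl') (by rw [eWω]; exact hl'1) ha2
        (fun e => ha2Q (near h hWC.1 (Nat.zero_le _) le_rfl (by omega) (by omega) e)) hc2
        (fun e => hc2Q (by simpa using near h hWC.1 le_rfl (Nat.zero_le _) (by omega) (by omega) e))
      rw [eW0, eW1] at hs
      rw [eWe, eWω] at hse
      set s := a2 * (c2 * a2 * c2⁻¹)
      have h1 := Cls.unique h (by omega) hk (isC_of_adj hβ' hN1) hβ'.symm hr' hse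
      have h2 : y * (r' * s) = (r' * s) * y :=
        hyV0 _ (Z_le_V h01 (Zc_le h (isC_of_adj hβ' hN1) hβ'.symm h1))
      have h3 : y * s = s * y := V_comm h (by omega) hy hs.mem_V
      calc y * r' = y * (r' * s) * s⁻¹ := by group
        _ = (r' * s) * (y * s⁻¹) := by rw [h2]; group
        _ = (r' * s) * (s⁻¹ * y) := by
          rw [mul_self_inv (V_sq h (by omega) hs.mem_V), h3]
        _ = r' * y := by group
  have hrr : r * r' = 1 := by
    by_contra hne
    have hyfix : y ∈ edgeStabilizer (w (bb - 3)) (w (bb - 4)) := by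
      have hadj := hw.1 (bb - 4) (by omega)
      rw [show bb - 4 + 1 = bb - 3 by omega] at hadj
      rw [edgeStabilizer_comm]
      refine Q_le_edge h hadj ?_
      have := V_le_Q h hP (a := 0) (c := (bb - 4) + 2) (by omega) (by omega) (by omega) (by omega) hy
      rwa [hP2] at this
    have h34 : (cosetGraph P₁ P₂).Adj (w (bb - 3)) (w (bb - 4)) := by
      have hadj := hw.1 (bb - 4) (by omega)
      rw [show bb - 4 + 1 = bb - 3 by omega] at hadj
      exact hadj.symm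
    have h32 : (cosetGraph P₁ P₂).Adj (w (bb - 3)) (w (bb - 2)) := by
      have hadj := hw.1 (bb - 3) (by omega)
      rwa [show bb - 3 + 1 = bb - 2 by omega] at hadj
    have hmove : y • w (bb - 2) ≠ w (bb - 2) := fun e => hyQ (edge_inf_edge h h34 h32 (by
      have := hwalk.2 (bb - 4) (by omega)
      rw [show bb - 4 + 2 = bb - 2 by omega] at this
      exact this.symm) hyfix e)
    have hC3 : IsC (w (bb - 3)) := by
      have := hw.1.isLeft_even (k := m + 1) (by omega)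
      rw [show 2 * (m + 1) = bb - 3 by omega] at this
      exact this.trans hC0
    have hin := Zc_le h hCe hωadj.symm hdiff
    have h1 := conj_smul_mem_Z h y hin
    have hcomm : y * (r * r') = r * r' * y := by
      rw [← mul_assoc, hyr, mul_assoc, hyr', ← mul_assoc]
    rw [hcomm, mul_inv_cancel_right] at h1
    have h2 := Z_inter h hk hC3 (adj_smul_fix h32 hyfix.1) h32 hmove h1 hin
    exact hne (Z_mid h (isN_of_adj h32 hC3) h32.symm hωadj (by
      have := hwalk.2 (bb - 3) (by omega)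
      rw [show bb - 3 + 2 = bb - 1 by omega] at this
      exact this.symm) h2 hdiff)
  have hreq : r' = r := by
    rw [← mul_self_inv (V_sq h (by omega) hr.mem_V)]
    exact eq_inv_of_mul_eq_one_right hrr
  rw [hreq] at hr'
  exact third_Z h hk hN1 h01.symm hβ' h12 hβ'0.symm (hwalk.2 0 (by omega)) hβ'2.symm
    (hr.mid h (by omega) hk hN1 h01.symm hβ' hβ'0.symm hr') (hr.not_mem h hk hC0)
    (hr'.not_mem h hk (isC_of_adj hβ' hN1))

/-- The third and third-last vertices share a central involution. -/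
theorem CC.shared {m : ℕ} (hb : bb = 2 * m + 5)
    (hk : ∀ y : CosetVertex P₁ P₂, IsC y → Nat.card (vertexZ 2 y) = 2) {w : ℕ → CosetVertex P₁ P₂}
    (hw : CC w) : ∃ x, x ≠ 1 ∧ x ∈ vertexZ 2 (w 2) ∧ x ∈ vertexZ 2 (w (bb - 3)) := by
  have hb' : bb = 2 * (m + 1) + 3 := by omega
  have h01 : (cosetGraph P₁ P₂).Adj (w 0) (w 1) := hw.1 0 (by omega)
  obtain ⟨l, hl, hl1⟩ := exists_other h h01
  obtain ⟨a, ha, haQ⟩ := SetLike.not_le_iff_exists.1 (hw.all h hb' hl hl1)
  obtain ⟨μ, hμ', hμbad'⟩ := (hw.back h hb').exists_bad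
  have hμ : (cosetGraph P₁ P₂).Adj (w (bb - 1)) μ := by simpa using hμ'
  have hμbad : ¬ vertexZ 2 μ ≤ vertexQ 2 (w 0) := by simpa using hμbad'
  obtain ⟨u, hu, huQ⟩ := SetLike.not_le_iff_exists.1 hμbad
  have hμ1 : μ ≠ w (bb - 2) := by
    rintro rfl
    exact hμbad (near h hw.1 (by omega) (Nat.zero_le _) (by omega) (by omega))
  have ha' : a ∉ vertexZ 2 (w 0) := fun e => haQ (near h hw.1 (Nat.zero_le _) le_rfl (by omega) (by omega) e)
  have hu' : u ∉ vertexZ 2 (w (bb - 1)) := fun e =>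
    huQ (near h hw.1 le_rfl (Nat.zero_le _) (by omega) (by omega) e)
  have h1 := hw.mid_val h hb hk hl hl1 hμ hμ1 ha ha' hu hu'
  obtain ⟨-, -, hr, -⟩ := hw.rel h hb' hk hl hl1 hμ hμ1 ha ha' hu hu'
  refine ⟨_, fun e => hr.not_mem h hk hw.2.1 (by rw [e]; exact one_mem _), h1, ?_⟩
  have h2 := (hw.back h hb').mid_val h hb hk (l := μ) (μ := l) (by simpa using hμ)
    (by rw [show bb - 1 - 1 = bb - 2 by omega]; exact hμ1) (by simpa using hl)
    (by rw [show bb - 1 - (bb - 2) = 1 by omega]; exact hl1) hu (by simpa using hu') ha (by simpa using ha')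
  have e : a * (u * a * u⁻¹) = (u * (a * u * a⁻¹))⁻¹ := comm_flip (Z_sq h ha) (Z_sq h hu)
  rw [e]
  have h3 := inv_mem h2
  rwa [show bb - 1 - 2 = bb - 3 by omega] at h3

theorem not_long {m : ℕ} (hb : bb = 2 * m + 7) : False := by
  have hk : ∀ y : CosetVertex P₁ P₂, IsC y → Nat.card (vertexZ 2 y) = 2 :=
    fun y hy => card_Z_two h (m := m + 2) (by omega) hy
  have hb' : bb = 2 * (m + 1) + 5 := by omega
  obtain ⟨p, hp⟩ := exists_crit h
  have hw := crit_cc h hp
  set w := fun i => p (i + 1)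
  obtain ⟨l, hl, hl1⟩ := exists_other h (hw.1 0 (by omega))
  obtain ⟨ν, hν, hν0⟩ := exists_other h hl.symm
  obtain ⟨ν', hν', hν'0, hν'ν⟩ := exists_third h hl.symm hν
  have key : ∀ {ν}, (cosetGraph P₁ P₂).Adj l ν → ν ≠ w 0 →
      ∃ x, x ≠ 1 ∧ x ∈ vertexZ 2 ν ∧ x ∈ vertexZ 2 (w (bb - 7)) := by
    intro ν hν hν0
    have h1 := hw.shift h hb' hk hl hl1 hν hν0
    obtain ⟨l2, hl2, hl21⟩ := exists_other h hν.symm
    obtain ⟨ν2, hν2, hν20⟩ := exists_other h hl2.symm
    have h2 := h1.shift h hb' hk (l := l2) (ν := ν2) hl2 hl21 hν2 hν20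
    obtain ⟨x, hx1, hx, hx'⟩ := h2.shared h hb' hk
    refine ⟨x, hx1, hx, ?_⟩
    rw [show bb - 3 = (bb - 7) + 1 + 1 + 1 + 1 by omega, consW_succ, consW_succ, consW_succ, consW_succ] at hx'
    exact hx'
  obtain ⟨x, hx1, hx, hx'⟩ := key hν hν0
  obtain ⟨y, hy1, hy, hy'⟩ := key hν' hν'0
  have hC7 : IsC (w (bb - 7)) := by
    have := hw.1.isLeft_even (k := m) (by omega)
    rw [show 2 * m = bb - 7 by omega] at this
    exact this.trans hw.2.1
  rw [← eq_of_card_two (hk _ hC7) hx' hy' hx1 hy1] at hy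
  exact hx1 (Z_mid h (isN_of_adj hl hw.2.1) hν hν' hν'ν.symm hx hy)

theorem not_five (hb : bb = 5) : False := by
  have hk : ∀ y : CosetVertex P₁ P₂, IsC y → Nat.card (vertexZ 2 y) = 2 :=
    fun y hy => card_Z_two h (m := 1) (by omega) hy
  have hb' : bb = 2 * 0 + 5 := by omega
  have hb3 : bb = 2 * 1 + 3 := by omega
  obtain ⟨p, hp⟩ := exists_crit h
  have hw := crit_cc h hp
  set w := fun i => p (i + 1)
  have e1 : bb - 1 = 4 := by omega
  have e2 : bb - 2 = 3 := by omega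
  have h01 : (cosetGraph P₁ P₂).Adj (w 0) (w 1) := hw.1 0 (by omega)
  have h12 : (cosetGraph P₁ P₂).Adj (w 1) (w 2) := hw.1 1 (by omega)
  have h23 : (cosetGraph P₁ P₂).Adj (w 2) (w 3) := hw.1 2 (by omega)
  have h34 : (cosetGraph P₁ P₂).Adj (w 3) (w 4) := hw.1 3 (by omega)
  have hwalk := hw.walk h (by omega)
  obtain ⟨l, hl, hl1⟩ := exists_other h h01
  obtain ⟨ν, hν, hν0⟩ := exists_other h hl.symm
  have hs1 := hw.shift h hb' hk hl hl1 hν hν0
  obtain ⟨l2, hl2, hl21⟩ := exists_other h hν.symm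
  have hbad := hs1.all h hb3 (l := l2) hl2 hl21
  rw [show consW ν (consW l w) (bb - 1) = w 2 by rw [e1]; rfl] at hbad
  obtain ⟨y, hy, hyQ⟩ := SetLike.not_le_iff_exists.1 hbad
  have hy0 : y ∈ vertexQ 2 (w 0) :=
    near_adj h hs1.1 (a := 0) (c := 2) (by omega) (by omega) (by omega) (by omega) hl2 hy
  have hy1 : y ∈ vertexQ 2 (w 1) :=
    near_adj h hs1.1 (a := 0) (c := 3) (by omega) (by omega) (by omega) (by omega) hl2 hy
  have hy' : y ∉ vertexZ 2 ν := fun e => hyQ (by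
    have := near h hs1.1 (a := 0) (c := 4) (by omega) (by omega) (by omega) (by omega) e
    exact this)
  have hye : y ∈ edgeStabilizer (w 2) (w 1) := by rw [edgeStabilizer_comm]; exact Q_le_edge h h12 hy1
  obtain ⟨μ, hμ', hμbad'⟩ := (hw.back h hb3).exists_bad
  have hμ : (cosetGraph P₁ P₂).Adj (w 4) μ := by simpa [e1] using hμ'
  have hμbad : ¬ vertexZ 2 μ ≤ vertexQ 2 (w 0) := by simpa [e1] using hμbad'
  obtain ⟨u, hu, huQ⟩ := SetLike.not_le_iff_exists.1 hμbad
  have hμ1 : μ ≠ w 3 := by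
    rintro rfl
    exact hμbad (near h hw.1 (by omega) (by omega) (by omega) (by omega))
  have hu' : u ∉ vertexZ 2 (w 4) := fun e => huQ (near h hw.1 (by omega) (by omega) (by omega) (by omega) e)
  have hue : u ∈ edgeStabilizer (w 0) (w 1) := by
    rw [edgeStabilizer_comm]
    exact Q_le_edge h h01.symm (hw.near_adj_end h (by omega) le_rfl (by omega) (by rw [e1]; exact hμ) hu)
  -- the two further walks
  have hne3 : y • w 3 ≠ w 3 := fun e =>
    hyQ (edge_inf_edge h h12.symm h23 (hwalk.2 1 (by omega)).symm hye e)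
  have hA0 := hw.back h hb3
  obtain ⟨lA, hlA, hlA1⟩ := exists_other h h34.symm
  obtain ⟨νA, hνA, hνA0⟩ := exists_other h hlA.symm
  have hA1 := hA0.shift h hb' hk (l := lA) (ν := νA) (by simpa [e1] using hlA)
    (by rw [show bb - 1 - 1 = 3 by omega]; exact hlA1) hνA (by simpa [e1] using hνA0)
  set WA := consW νA (consW lA fun i => w (bb - 1 - i))
  have eA : ∀ i, WA (i + 2) = w (4 - i) := fun i => by
    show consW νA (consW lA fun i => w (bb - 1 - i)) (i + 1 + 1) = _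
    rw [consW_succ, consW_succ, e1]
  obtain ⟨A, hA, hAi, hA3, hA4⟩ := hA1.fwd h hb' hk (μ := y • w 3) (ρ := y • w 4)
    (by rw [e1, eA 2]; exact adj_smul_fix h23 hye.1)
    (by rw [e2, eA 1]; exact hne3) (adj_smul y h34)
    (fun e => hwalk.2 2 (by omega)
      (smul_left_cancel y ((e.trans (by rw [e1, eA 2])).trans (MulAction.mem_stabilizer_iff.1 hye.1).symm)))
  have eA0 : A 0 = w 4 := (hAi 0 (by omega)).trans (eA 0)
  have eA1 : A 1 = w 3 := (hAi 1 (by omega)).trans (eA 1)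
  have eA2 : A 2 = w 2 := (hAi 2 (by omega)).trans (eA 2)
  have hu2' : y * u * y⁻¹ ∉ vertexZ 2 (A (bb - 1)) := by
    rw [hA4, conj_smul_mem_Z_iff h]; exact hu'
  have rA := hA.mid_val h hb' hk (l := μ) (μ := y • μ) (by rw [eA0]; exact hμ)
    (by rw [eA1]; exact hμ1) (by rw [hA4]; exact adj_smul y hμ)
    (by rw [hA3]; exact fun e => hμ1 (smul_left_cancel y e)) hu (by rw [eA0]; exact hu')
    (conj_smul_mem_Z h y hu) hu2'
  rw [eA2] at rA
  obtain ⟨νB, hνB, hνB0⟩ := exists_other h hl2.symm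
  have hB1 := hs1.shift h hb' hk (l := l2) (ν := νB) hl2 hl21 hνB hνB0
  set WB := consW νB (consW l2 (consW ν (consW l w)))
  have hne1 : u • l ≠ l := fun e => huQ (edge_inf_edge h h01 hl hl1.symm hue e)
  obtain ⟨B, hB, hBi, hB3, hB4⟩ := hB1.fwd h hb' hk (μ := u • l) (ρ := u • ν)
    (by rw [e1]; exact adj_smul_fix hl hue.1)
    (by rw [e2]; exact hne1) (adj_smul u hν)
    (by rw [e1]; exact fun e => hν0 (smul_left_cancel u (e.trans (MulAction.mem_stabilizer_iff.1 hue.1).symm)))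
  have eB0 : B 0 = ν := hBi 0 (by omega)
  have eB1 : B 1 = l := hBi 1 (by omega)
  have eB2 : B 2 = w 0 := hBi 2 (by omega)
  have rB := hB.mid_val h hb' hk (l := l2) (μ := u • l2) (by rw [eB0]; exact hl2)
    (by rw [eB1]; exact hl21) (by rw [hB4]; exact adj_smul u hl2)
    (by rw [hB3]; exact fun e => hl21 (smul_left_cancel u e)) hy (by rw [eB0]; exact hy')
    (conj_smul_mem_Z h u hy) (by rw [hB4, conj_smul_mem_Z_iff h]; exact hy')
  rw [eB2] at rB
  obtain ⟨-, -, hcls, -⟩ := hA.rel h hb3 hk (l := μ) (μ := y • μ) (by rw [eA0]; exact hμ)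
    (by rw [eA1]; exact hμ1) (by rw [hA4]; exact adj_smul y hμ)
    (by rw [hA3]; exact fun e => hμ1 (smul_left_cancel y e)) hu (by rw [eA0]; exact hu')
    (conj_smul_mem_Z h y hu) hu2'
  have hne := hcls.not_mem h hk hA.2.1
  have e : u * (y * u * y⁻¹ * u * (y * u * y⁻¹)⁻¹) = (y * (u * y * u⁻¹ * y * (u * y * u⁻¹)⁻¹))⁻¹ := by
    simp only [mul_inv_rev, mul_self_inv (Z_sq h hu), mul_self_inv (Z_sq h hy), mul_assoc]
  have h1 := inv_mem rB
  rw [← e] at h1
  have := Z_mid h (isN_of_adj h01 hw.2.1) h01.symm h12 (hwalk.2 0 (by omega)).symm h1 rA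
  rw [this] at hne
  exact hne (one_mem _)

end Cfsg.Agent.Lib.Goldschmidt73
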