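import Mathlib
import Cfsg.Agent.Lib.Goldschmidt73.Long

/-!
# Goldschmidt amalgams: critical distance three
-/

set_option autoImplicit false

namespace Cfsg.Agent.Lib.Goldschmidt73

open Cfsg Subgroup Cfsg.Agent.Lib.Amalgam

variable {G : Type*} [Group G] {P₁ P₂ : Subgroup G}

local notation "St" => MulAction.stabilizer G
local notation "bb" => criticalDistance 2 P₁ P₂

/-- The two halves of a critical pair at distance two. -/
structure Pair3 (β γ δ α μ : CosetVertex P₁ P₂) (z u : G) : Prop where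
  b3 : bb = 3
  hk : ∀ y : CosetVertex P₁ P₂, IsC y → Nat.card (vertexZ 2 y) = 2
  hβ : (cosetGraph P₁ P₂).Adj γ β
  hδ : (cosetGraph P₁ P₂).Adj γ δ
  hne : β ≠ δ
  hN : IsN γ
  hα : (cosetGraph P₁ P₂).Adj β α
  hαγ : α ≠ γ
  hμ : (cosetGraph P₁ P₂).Adj δ μ
  hμγ : μ ≠ γ
  hz : z ∈ vertexZ 2 α
  hzQ : z ∉ vertexQ 2 δ
  hzZ : z ∉ vertexZ 2 β
  hu : u ∈ vertexZ 2 μ
  huQ : u ∉ vertexQ 2 β
  huZ : u ∉ vertexZ 2 δ
  hr : z * (u * z * u⁻¹) ∈ vertexZ 2 γ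

/-- In a finite `2`-group a normal section has a central point. -/
theorem exists_central_mod {T A B : Subgroup G} [Finite T] (hT : IsPGroup 2 T) (hA : A ≤ T) (hB : B ≤ T)
    (hAn : T ≤ normalizer (A : Set G)) (hBn : T ≤ normalizer (B : Set G)) (hne : ¬ A ≤ B) :
    ∃ x ∈ A, x ∉ B ∧ ∀ a ∈ T, x⁻¹ * (a * x * a⁻¹) ∈ B := by
  haveI : (A.subgroupOf T).Normal := (normal_subgroupOf_iff_le_normalizer hA).2 hAn
  haveI : (B.subgroupOf T).Normal := (normal_subgroupOf_iff_le_normalizer hB).2 hBn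
  set π := QuotientGroup.mk' (B.subgroupOf T)
  haveI : Group.IsNilpotent (↥T ⧸ B.subgroupOf T) := (hT.to_quotient _).isNilpotent
  haveI : ((A.subgroupOf T).map π).Normal := Normal.map inferInstance π (QuotientGroup.mk'_surjective _)
  have h1 : (A.subgroupOf T).map π ≠ ⊥ := by
    intro e
    refine hne fun x hx => ?_
    have : π ⟨x, hA hx⟩ ∈ (⊥ : Subgroup _) := e ▸ mem_map_of_mem π (show (⟨x, hA hx⟩ : T) ∈ A.subgroupOf T from hx)
    exact ((QuotientGroup.eq_one_iff (⟨x, hA hx⟩ : T)).1 (mem_bot.1 this) : (⟨x, hA hx⟩ : T) ∈ B.subgroupOf T)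
  obtain ⟨c, hc, hc1⟩ := (bot_or_exists_ne_one _).resolve_left (Nilp.inf_center_ne_bot_of_normal h1)
  obtain ⟨⟨⟨x, hxT⟩, hxA, rfl⟩, hcen⟩ := hc
  refine ⟨x, hxA, fun hxB => hc1 ((QuotientGroup.eq_one_iff (⟨x, hxT⟩ : T)).2 hxB), fun a ha => ?_⟩
  have h2 := mem_center_iff.1 hcen (π ⟨a, ha⟩)
  have h3 : π ((⟨x, hxT⟩ : T)⁻¹ * (⟨a, ha⟩ * ⟨x, hxT⟩ * (⟨a, ha⟩ : T)⁻¹)) = 1 := by
    rw [map_mul, map_mul, map_mul, map_inv, map_inv, h2]; group
  have h4 := (QuotientGroup.eq_one_iff (N := B.subgroupOf T) _).1 h3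
  exact h4

variable (h : Hyp P₁ P₂)
include h

theorem Ecore_smul {x : CosetVertex P₁ P₂} (g : G) {e : G} (he : e ∈ Ecore x) :
    g * e * g⁻¹ ∈ Ecore (g • x) := by
  rw [mem_Ecore] at he ⊢
  refine ⟨conj_smul_mem_Q h g he.1, fun ν hν => ?_⟩
  have hν' : (cosetGraph P₁ P₂).Adj x (g⁻¹ • ν) := by simpa using adj_smul g⁻¹ hν
  have := conj_smul_mem_Q h g (he.2 _ hν')
  rwa [smul_inv_smul] at this

theorem Q_of_two (hb : bb = 3) {x y v : CosetVertex P₁ P₂} (h1 : (cosetGraph P₁ P₂).Adj x y)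
    (h2 : (cosetGraph P₁ P₂).Adj y v) : vertexZ 2 x ≤ vertexQ 2 v := by
  refine Q_of_lt h ?_
  have h3 := (conn h).dist_triangle (u := x) (v := y) (w := v)
  rw [SimpleGraph.dist_eq_one_iff_adj.2 h1, SimpleGraph.dist_eq_one_iff_adj.2 h2] at h3
  omega

theorem Q_of_adj (hb : bb = 3) {x y : CosetVertex P₁ P₂} (h1 : (cosetGraph P₁ P₂).Adj x y) :
    vertexZ 2 x ≤ vertexQ 2 y :=
  Q_of_lt h (by rw [SimpleGraph.dist_eq_one_iff_adj.2 h1]; omega)

theorem Z_le_Ecore (hb : bb = 3) {x y : CosetVertex P₁ P₂} (h1 : (cosetGraph P₁ P₂).Adj x y) :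
    vertexZ 2 x ≤ Ecore y := fun _ hv =>
  mem_Ecore.2 ⟨Q_of_adj h hb h1 hv, fun _ hν => Q_of_two h hb h1 hν hv⟩

variable {β γ δ α μ : CosetVertex P₁ P₂} {z u : G}

theorem Pair3.symm (d : Pair3 β γ δ α μ z u) : Pair3 δ γ β μ α u z := by
  refine ⟨d.b3, d.hk, d.hδ, d.hβ, d.hne.symm, d.hN, d.hμ, d.hμγ, d.hα, d.hαγ, d.hu, d.huQ, d.huZ, d.hz,
    d.hzQ, d.hzZ, ?_⟩
  rw [comm_flip (Z_sq h d.hu) (Z_sq h d.hz)]
  exact inv_mem d.hr

theorem Pair3.hC (d : Pair3 β γ δ α μ z u) : IsC β := isC_of_adj d.hβ d.hN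

theorem Pair3.zQγ (d : Pair3 β γ δ α μ z u) : z ∈ vertexQ 2 γ :=
  Q_of_two h d.b3 d.hα.symm d.hβ.symm d.hz

theorem Pair3.uEdge (d : Pair3 β γ δ α μ z u) : u ∈ edgeStabilizer β γ := by
  rw [edgeStabilizer_comm]; exact Q_le_edge h d.hβ ((d.symm h).zQγ h)

theorem Pair3.V_split (d : Pair3 β γ δ α μ z u) {v : G} (hv : v ∈ V β) :
    v ∈ vertexZ 2 γ ∨ z * v ∈ vertexZ 2 γ := by
  have hb : 3 ≤ bb := d.b3.ge
  have hzV : z ∈ V β := Z_le_V d.hα d.hz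
  have hz2 : z * z = 1 := Z_sq h d.hz
  have hβγ : vertexZ 2 β ≤ vertexZ 2 γ := Zc_le h (d.hC h) d.hβ.symm
  let A : Subgroup G :=
    { carrier := {v | v ∈ V β ∧ (v ∈ vertexZ 2 γ ∨ z * v ∈ vertexZ 2 γ)}
      one_mem' := ⟨one_mem _, Or.inl (one_mem _)⟩
      mul_mem' := fun {a c} ha hc => by
        refine ⟨mul_mem ha.1 hc.1, ?_⟩
        rcases ha.2 with h1 | h1 <;> rcases hc.2 with h2 | h2
        · exact Or.inl (mul_mem h1 h2)
        · refine Or.inr ?_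
          rw [← mul_assoc, V_comm h hb hzV ha.1, mul_assoc]
          exact mul_mem h1 h2
        · refine Or.inr ?_
          rw [← mul_assoc]; exact mul_mem h1 h2
        · refine Or.inl ?_
          have h3 := mul_mem h1 h2
          rwa [show z * a * (z * c) = z * (a * z) * c by group, ← V_comm h hb hzV ha.1, ← mul_assoc z z a,
            hz2, one_mul] at h3
      inv_mem' := fun {a} ha => by rw [mul_self_inv (V_sq h hb ha.1)]; exact ha }
  have hue := d.uEdge h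
  set α'' := u • α
  have hα'' : (cosetGraph P₁ P₂).Adj β α'' := adj_smul_fix d.hα hue.1
  have hne0 : α'' ≠ α := fun e => d.huQ (edge_inf_edge h d.hβ.symm d.hα d.hαγ.symm hue e)
  have hne2 : α'' ≠ γ := fun e =>
    d.hαγ (smul_left_cancel u (e.trans (MulAction.mem_stabilizer_iff.1 hue.2).symm))
  have hle : V β ≤ A := by
    refine V_le fun ν hν x hx => ⟨Z_le_V hν hx, ?_⟩
    rcases eq_or_ne ν γ with rfl | e1
    · exact Or.inl hx
    rcases eq_or_ne ν α with rfl | e2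
    · by_cases hxβ : x ∈ vertexZ 2 β
      · exact Or.inl (hβγ hxβ)
      · exact Or.inr (hβγ (Z_cases h d.hk (d.hC h) hν d.hz d.hzZ hx hxβ))
    obtain rfl : ν = α'' := nbr_eq h d.hβ.symm d.hα hα'' d.hαγ hne2 hne0 hν e1 e2
    have hx' : u⁻¹ * x * u ∈ vertexZ 2 α := by
      have := conj_smul_mem_Z h u⁻¹ hx
      rwa [inv_smul_smul, inv_inv] at this
    set x' := u⁻¹ * x * u with hx'def
    have ex : x = u * x' * u⁻¹ := by rw [hx'def]; group
    by_cases hxβ : x' ∈ vertexZ 2 β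
    · refine Or.inl ?_
      rw [ex, C_central h (d.hC h) hue.1 hxβ, mul_inv_cancel_right]
      exact hβγ hxβ
    · refine Or.inr ?_
      have h1 := Z_cases h d.hk (d.hC h) d.hα d.hz d.hzZ hx' hxβ
      have h2 := mul_mem d.hr (hβγ h1)
      rw [ex]
      rwa [show z * (u * z * u⁻¹) * (z * x') = z * (u * z * u⁻¹ * (z * x')) by group,
        ← C_central h (d.hC h) (g := u) hue.1 h1 |> fun e => show u * (z * x') * u⁻¹ = z * x' by
          rw [e, mul_inv_cancel_right],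
        show z * (u * z * u⁻¹ * (u * (z * x') * u⁻¹)) = z * (u * ((z * z) * x') * u⁻¹) by group,
        hz2, one_mul] at h2
  exact (hle hv).2

theorem Pair3.V_inf_Q (d : Pair3 β γ δ α μ z u) {v : G} (hv : v ∈ V β) (hvQ : v ∈ vertexQ 2 δ) :
    v ∈ vertexZ 2 γ := by
  rcases d.V_split h hv with h1 | h1
  · exact h1
  · refine absurd ?_ d.hzQ
    have := mul_mem (Q_of_adj h d.b3 d.hδ h1) (inv_mem hvQ)
    rwa [mul_inv_cancel_right] at this

theorem Pair3.comm_V_of (d : Pair3 β γ δ α μ z u) {g : G} (h1 : g * z = z * g)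
    (h2 : ∀ c ∈ vertexZ 2 γ, g * c = c * g) {v : G} (hv : v ∈ V β) : g * v = v * g := by
  rcases d.V_split h hv with h3 | h3
  · exact h2 v h3
  · have e : v = z * (z * v) := by rw [← mul_assoc, Z_sq h d.hz, one_mul]
    rw [e, ← mul_assoc, h1, mul_assoc, h2 _ h3]; group

theorem Pair3.mem_E (d : Pair3 β γ δ α μ z u) {e : G} (h1 : e ∈ vertexQ 2 β) (h2 : e ∈ vertexQ 2 α)
    (h3 : e ∈ vertexQ 2 γ) : e ∈ Ecore β := by
  refine mem_Ecore.2 ⟨h1, fun ν hν => mem_Q_of_centralizes h (isN_of_adj hν (d.hC h))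
    (Q_le_edge h hν h1).2 fun w hw => ?_⟩
  exact d.comm_V_of h ((Z_spec h d.hz).2.2 e h2) (fun c hc => (Z_spec h hc).2.2 e h3) (Z_le_V hν hw)

theorem Pair3.card_Q_le (d : Pair3 β γ δ α μ z u) :
    Nat.card (vertexQ 2 β) ≤ 4 * Nat.card (Ecore β) := by
  have h1 := card_le_two_mul h d.hα.symm (A := vertexQ 2 β)
    (by rw [edgeStabilizer_comm]; exact Q_le_edge h d.hα)
  have h2 := card_le_two_mul h d.hβ (A := vertexQ 2 β ⊓ vertexQ 2 α)
    (inf_le_left.trans (by rw [edgeStabilizer_comm]; exact Q_le_edge h d.hβ.symm))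
  haveI := finEcore h β
  have h3 : Nat.card ↥(vertexQ 2 β ⊓ vertexQ 2 α ⊓ vertexQ 2 γ) ≤ Nat.card (Ecore β) :=
    card_le_of_le fun e he => d.mem_E h he.1.1 he.1.2 he.2
  omega

theorem Pair3.card_Q_le_F (d : Pair3 β γ δ α μ z u) :
    Nat.card (vertexQ 2 β) ≤ 16 * Nat.card ↥(Ecore β ⊓ Ecore δ) := by
  have hEγ : Ecore β ≤ vertexQ 2 γ := fun e he => (mem_Ecore.1 he).2 γ d.hβ.symm
  haveI := finEcore h β
  have h1 := card_le_two_mul h d.hδ.symm (A := Ecore β)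
    (hEγ.trans (by rw [edgeStabilizer_comm]; exact Q_le_edge h d.hδ))
  have h2 := card_le_two_mul h d.hμ.symm (A := Ecore β ⊓ vertexQ 2 δ)
    (inf_le_right.trans (by rw [edgeStabilizer_comm]; exact Q_le_edge h d.hμ))
  haveI : Finite ↥(Ecore β ⊓ Ecore δ) :=
    Finite.of_injective (inclusion (inf_le_left : _ ≤ Ecore β)) (inclusion_injective _)
  have h3 : Nat.card ↥(Ecore β ⊓ vertexQ 2 δ ⊓ vertexQ 2 μ) ≤ Nat.card ↥(Ecore β ⊓ Ecore δ) :=
    card_le_of_le fun e he => ⟨he.1.1, (d.symm h).mem_E h he.1.2 he.2 (hEγ he.1.1)⟩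
  have h4 := d.card_Q_le h
  omega

omit h in
/-- The elements acting trivially on `E_β / V_β`. -/
def Triv (β : CosetVertex P₁ P₂) (g : G) : Prop :=
  g ∈ St β ∧ ∀ e ∈ Ecore β, e⁻¹ * (g * e * g⁻¹) ∈ V β

theorem Pair3.u_triv (d : Pair3 β γ δ α μ z u) : Triv β u := by
  have hb : 3 ≤ bb := d.b3.ge
  refine ⟨(d.uEdge h).1, ?_⟩
  have hzV : z ∈ V β := Z_le_V d.hα d.hz
  have hδγ : vertexZ 2 δ ≤ vertexZ 2 γ := Zc_le h (isC_of_adj d.hδ d.hN) d.hδ.symm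
  have base : ∀ e ∈ Ecore β, e ∈ vertexQ 2 δ → e⁻¹ * (u * e * u⁻¹) ∈ V β := by
    intro e he heδ
    have hee : e ∈ edgeStabilizer μ δ := by rw [edgeStabilizer_comm]; exact Q_le_edge h d.hμ heδ
    have h1 := Z_le_V d.hβ.symm (hδγ (comm_mem h (isN_of_adj d.hμ (isC_of_adj d.hδ d.hN)) d.hμ.symm hee d.hu))
    rw [show e⁻¹ * (u * e * u⁻¹) = e⁻¹ * (u * (e * u * e⁻¹)) * e by
      rw [mul_self_inv (Z_sq h d.hu)]; group]
    have h2 := Ecore_comm_V h he h1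
    rw [mul_assoc, ← h2, inv_mul_cancel_left]
    exact h1
  intro e he
  by_cases heδ : e ∈ vertexQ 2 δ
  · exact base e he heδ
  have heγ : e ∈ vertexQ 2 γ := (mem_Ecore.1 he).2 γ d.hβ.symm
  have hed : ∀ x ∈ vertexQ 2 γ, x ∈ edgeStabilizer δ γ := fun x hx => by
    rw [edgeStabilizer_comm]; exact Q_le_edge h d.hδ hx
  have hzE : z ∈ Ecore β := Z_le_Ecore h d.b3 d.hα.symm d.hz
  have h1 := base _ (mul_mem (inv_mem hzE) he)
    (inv_mul_mem_Q h d.hδ.symm (hed z (d.zQγ h)) (hed e heγ) d.hzQ heδ)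
  set e0 := z⁻¹ * e with he0
  have he0E : e0 ∈ Ecore β := mul_mem (inv_mem hzE) he
  rw [show e = z * e0 by rw [he0]; group]
  rw [show (z * e0)⁻¹ * (u * (z * e0) * u⁻¹) = e0⁻¹ * (z⁻¹ * (u * z * u⁻¹)) * e0 * (e0⁻¹ * (u * e0 * u⁻¹)) by
    group]
  refine mul_mem ?_ h1
  have h2 : z⁻¹ * (u * z * u⁻¹) ∈ V β := by
    rw [mul_self_inv (Z_sq h d.hz)]; exact Z_le_V d.hβ.symm d.hr
  rw [mul_assoc, ← Ecore_comm_V h he0E h2, inv_mul_cancel_left]
  exact h2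

theorem Pair3.exists_triv_mover (d : Pair3 β γ δ α μ z u) : ∃ k, Triv β k ∧ k • γ ≠ γ := by
  have hb : 2 ≤ bb := by rw [d.b3]; omega
  let K : Subgroup G :=
    { carrier := {g | Triv β g}
      one_mem' := ⟨one_mem _, fun e _ => by simp [one_mem]⟩
      mul_mem' := fun {a c} ha hc => ⟨mul_mem ha.1 hc.1, fun e he => by
        have h1 := Ecore_conj h hc.1 he
        have := mul_mem (hc.2 e he) (ha.2 _ h1)
        rwa [show e⁻¹ * (c * e * c⁻¹) * ((c * e * c⁻¹)⁻¹ * (a * (c * e * c⁻¹) * a⁻¹)) =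
          e⁻¹ * (a * c * e * (a * c)⁻¹) by group] at this⟩
      inv_mem' := fun {a} ha => ⟨inv_mem ha.1, fun e he => by
        have h1 := Ecore_conj h (inv_mem ha.1) he
        rw [inv_inv] at h1
        have := inv_mem (ha.2 _ h1)
        rw [inv_inv]
        rwa [show ((a⁻¹ * e * a)⁻¹ * (a * (a⁻¹ * e * a) * a⁻¹))⁻¹ = e⁻¹ * (a⁻¹ * e * a) by group] at this⟩ }
  have hK : St β ≤ normalizer (K : Set G) := by
    intro g hg
    haveI := fin h β
    haveI : Finite K := Finite.of_injective (inclusion (fun x hx => hx.1 : K ≤ St β)) (inclusion_injective _)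
    refine mem_normalizer_of_forall fun k hk => ⟨mul_mem (mul_mem hg hk.1) (inv_mem hg), fun e he => ?_⟩
    have h1 := Ecore_conj h (inv_mem hg) he
    rw [inv_inv] at h1
    have := V_mem_conj h hg (hk.2 _ h1)
    rwa [show g * ((g⁻¹ * e * g)⁻¹ * (k * (g⁻¹ * e * g) * k⁻¹)) * g⁻¹ =
      e⁻¹ * (g * k * g⁻¹ * e * (g * k * g⁻¹)⁻¹) by group] at this
  obtain ⟨k, hk, -, hmove⟩ := exists_mover h d.hβ.symm hK (d.u_triv h) (d.uEdge h).1 d.huQ
  exact ⟨k, hk, hmove⟩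

omit h in
/-- The squares of `E_β`. -/
abbrev SqE (β : CosetVertex P₁ P₂) : Subgroup G :=
  Subgroup.closure {y | ∃ e ∈ Ecore β, y = e * e}

theorem Pair3.sqE_inf (d : Pair3 β γ δ α μ z u) {w : G} (hw : w ∈ SqE β) (hwZ : w ∈ vertexZ 2 γ) :
    w ∈ vertexZ 2 β := by
  obtain ⟨k, hk, hmove⟩ := d.exists_triv_mover h
  have hle : SqE β ≤ centralizer ({k} : Set G) := by
    refine (closure_le _).2 ?_
    rintro y ⟨e, he, rfl⟩
    have hv := hk.2 e he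
    have hcomm := Ecore_comm_V h he hv
    set v := e⁻¹ * (k * e * k⁻¹) with hvdef
    have e1 : k * e * k⁻¹ = e * v := by rw [hvdef]; group
    have e2 : k * (e * e) * k⁻¹ = e * e := by
      calc k * (e * e) * k⁻¹ = (k * e * k⁻¹) * (k * e * k⁻¹) := by group
        _ = e * v * (e * v) := by rw [e1]
        _ = e * (v * e) * v := by group
        _ = e * e * (v * v) := by rw [← hcomm]; group
        _ = e * e := by rw [V_sq h d.b3.ge hv, mul_one]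
    refine mem_centralizer_singleton_iff.2 ?_
    calc e * e * k = k * (e * e) * k⁻¹ * k := by rw [e2]
      _ = k * (e * e) := by group
  have hc := mem_centralizer_singleton_iff.1 (hle hw)
  have h1 := conj_smul_mem_Z h k hwZ
  rw [← hc, mul_inv_cancel_right] at h1
  exact Z_inter h d.hk (d.hC h) (adj_smul_fix d.hβ.symm hk.1) d.hβ.symm hmove h1 hwZ

theorem Pair3.sqE_normalized (d : Pair3 β γ δ α μ z u) :
    SqE β ≤ Ecore β ∧ vertexQ 2 γ ≤ normalizer (SqE β : Set G) := by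
  have hle : SqE β ≤ Ecore β := (closure_le _).2 fun y ⟨e, he, e'⟩ => e' ▸ mul_mem he he
  refine ⟨hle, fun g hg => ?_⟩
  haveI := finEcore h β
  haveI : Finite (SqE β) := Finite.of_injective (inclusion hle) (inclusion_injective _)
  refine mem_normalizer_of_forall fun y hy => ?_
  have hsub : SqE β ≤ (SqE β).comap (MulAut.conj g).toMonoidHom := (closure_le _).2 fun y ⟨e, he, e'⟩ => by
    subst e'
    exact subset_closure ⟨g * e * g⁻¹, Ecore_conj h (Q_le_edge h d.hβ hg).2 he, by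
      show g * (e * e) * g⁻¹ = g * e * g⁻¹ * (g * e * g⁻¹)
      group⟩
  exact hsub hy

theorem Pair3.F_sq (d : Pair3 β γ δ α μ z u) {x : G} (hx : x ∈ Ecore β) (hx' : x ∈ Ecore δ) :
    x * x = 1 := by
  by_contra hne
  set M := SqE β ⊓ SqE δ
  obtain ⟨hle, hn⟩ := d.sqE_normalized h
  obtain ⟨hle', hn'⟩ := (d.symm h).sqE_normalized h
  haveI := finQ h γ
  have hM : M ≤ vertexQ 2 γ := fun y hy => (mem_Ecore.1 (hle hy.1)).2 γ d.hβ.symm
  haveI : Finite M := Finite.of_injective (inclusion hM) (inclusion_injective _)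
  obtain ⟨y, hy, hy1, hy2, hyc⟩ := exists_central_invol (T := vertexQ 2 γ)
    ((edge_facts h d.hβ).2.2.1.to_le (Q_le_edge h d.hβ)) hM
    (fun g hg => mem_normalizer_of_forall fun y hy => ⟨conj_mem (hn hg) hy.1, conj_mem (hn' hg) hy.2⟩)
    (fun e => hne (mem_bot.1 (e ▸ (⟨subset_closure ⟨x, hx, rfl⟩, subset_closure ⟨x, hx', rfl⟩⟩ : x * x ∈ M))))
  have hyZ := mem_Z_of_central h d.hN (hM hy) hy2 hyc
  exact hy1 (Z_mid h d.hN d.hβ d.hδ d.hne (d.sqE_inf h hy.1 hyZ) ((d.symm h).sqE_inf h hy.2 hyZ))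

/-- Commutators of a point central modulo `Z_γ` with `Q_β` lie in `V_β`. -/
theorem Pair3.comm_V (d : Pair3 β γ δ α μ z u) {x : G} (hx : x ∈ Ecore β)
    (hcen : ∀ q ∈ vertexQ 2 γ, x⁻¹ * (q * x * q⁻¹) ∈ vertexZ 2 γ) {q : G} (hq : q ∈ vertexQ 2 β) :
    x⁻¹ * (q * x * q⁻¹) ∈ V β := by
  obtain ⟨k, hk, hmove⟩ := d.exists_triv_mover h
  have hγ' : (cosetGraph P₁ P₂).Adj β (k • γ) := adj_smul_fix d.hβ.symm hk.1
  have hwCC : CC (consW β (consW γ fun _ => δ)) := by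
    refine ⟨?_, d.hC h, fun hle => d.hzQ ?_⟩
    · rw [show bb - 1 = 2 by rw [d.b3]]
      exact IsPath.cons (IsPath.cons (show IsPath (fun _ : ℕ => δ) 0 from fun i hi => by omega) d.hδ) d.hβ.symm
    · rw [show bb - 1 = 2 by rw [d.b3]] at hle
      exact hle (Z_le_V d.hα d.hz)
  have hDm := D_move h (m := 0) d.b3 d.hk hwCC (x := k • γ) (y := γ) hγ' d.hβ.symm hmove
  obtain ⟨d', ⟨hd'β, hd'γ'⟩, hd'γ⟩ := SetLike.not_le_iff_exists.1 hDm
  change d' ∈ vertexQ 2 β at hd'β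
  have hZV : vertexZ 2 γ ≤ V β := Z_le_V d.hβ.symm
  have hqS : ∀ q ∈ vertexQ 2 β, q ∈ St β := fun q hq => pCoreOf_le _ _ hq
  have hdT : x⁻¹ * (d' * x * d'⁻¹) ∈ V β := by
    set d0 := k⁻¹ * d' * k with hd0
    have hd0γ : d0 ∈ vertexQ 2 γ := by
      have := conj_smul_mem_Q h k⁻¹ hd'γ'
      rwa [inv_smul_smul, inv_inv] at this
    have hd0β : d0 ∈ vertexQ 2 β := by
      have := Q_mem_conj h (inv_mem hk.1) hd'β
      rwa [inv_inv] at this
    have hx1 := Ecore_conj h (inv_mem hk.1) hx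
    rw [inv_inv] at hx1
    set x1 := k⁻¹ * x * k with hx1def
    have hv : x⁻¹ * x1 ∈ V β := by
      have := inv_mem (hk.2 x1 hx1)
      rwa [show (x1⁻¹ * (k * x1 * k⁻¹))⁻¹ = x⁻¹ * x1 by rw [hx1def]; group] at this
    set v := x⁻¹ * x1 with hvdef
    have h1 : v⁻¹ * (x⁻¹ * (d0 * x * d0⁻¹)) * (d0 * v * d0⁻¹) ∈ V β :=
      mul_mem (mul_mem (inv_mem hv) (hZV (hcen d0 hd0γ))) (V_mem_conj h (hqS _ hd0β) hv)
    have h2 := V_mem_conj h hk.1 h1
    rwa [show k * (v⁻¹ * (x⁻¹ * (d0 * x * d0⁻¹)) * (d0 * v * d0⁻¹)) * k⁻¹ = x⁻¹ * (d' * x * d'⁻¹) by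
      rw [hvdef, hx1def, hd0]; group] at h2
  by_cases hqγ : q ∈ vertexQ 2 γ
  · exact hZV (hcen q hqγ)
  · have hqe : ∀ q ∈ vertexQ 2 β, q ∈ edgeStabilizer γ β := fun q hq => by
      rw [edgeStabilizer_comm]; exact Q_le_edge h d.hβ.symm hq
    have h1 := hZV (hcen _ (inv_mul_mem_Q h d.hβ (hqe d' hd'β) (hqe q hq) hd'γ hqγ))
    set q0 := d'⁻¹ * q with hq0
    have h2 := mul_mem hdT (V_mem_conj h (hqS _ hd'β) h1)
    rwa [show x⁻¹ * (d' * x * d'⁻¹) * (d' * (x⁻¹ * (q0 * x * q0⁻¹)) * d'⁻¹) = x⁻¹ * (q * x * q⁻¹) by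
      rw [hq0]; group] at h2

/-- If moreover it lies in every `Q` at `γ`, the commutators lie in `Z_β`. -/
theorem Pair3.comm_Z (d : Pair3 β γ δ α μ z u) {ε : CosetVertex P₁ P₂}
    (hε : (cosetGraph P₁ P₂).Adj γ ε) (hεβ : ε ≠ β) (hεδ : ε ≠ δ) {x : G} (hx : x ∈ Ecore β)
    (hxδ : x ∈ vertexQ 2 δ) (hxε : x ∈ vertexQ 2 ε)
    (hcen : ∀ q ∈ vertexQ 2 γ, x⁻¹ * (q * x * q⁻¹) ∈ vertexZ 2 γ) {q : G} (hq : q ∈ vertexQ 2 β) :
    x⁻¹ * (q * x * q⁻¹) ∈ vertexZ 2 β := by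
  have hqZ : ∀ q ∈ vertexQ 2 β, x⁻¹ * (q * x * q⁻¹) ∈ vertexZ 2 γ := by
    intro q hq
    have hqe := Q_le_edge h d.hβ.symm hq
    refine d.V_inf_Q h (d.comm_V h hx hcen hq) (mul_mem (inv_mem hxδ) ?_)
    have hqδ : q⁻¹ • δ ≠ β := fun e => d.hne (by
      rw [← smul_inv_smul q δ, e, MulAction.mem_stabilizer_iff.1 hqe.1])
    have hxq : x ∈ vertexQ 2 (q⁻¹ • δ) := by
      rcases eq_or_ne (q⁻¹ • δ) δ with e | e
      · rwa [e]
      · rwa [nbr_eq h d.hβ d.hδ hε d.hne.symm hεβ hεδ (adj_smul_fix d.hδ (inv_mem hqe.2)) hqδ e]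
    have := conj_smul_mem_Q h q hxq
    rwa [smul_inv_smul] at this
  obtain ⟨k, hk, hmove⟩ := d.exists_triv_mover h
  set q0 := k⁻¹ * q * k with hq0
  have hq0β : q0 ∈ vertexQ 2 β := by
    have := Q_mem_conj h (inv_mem hk.1) hq
    rwa [inv_inv] at this
  have hx1 := Ecore_conj h (inv_mem hk.1) hx
  rw [inv_inv] at hx1
  set x1 := k⁻¹ * x * k with hx1def
  have hv : x⁻¹ * x1 ∈ V β := by
    have := inv_mem (hk.2 x1 hx1)
    rwa [show (x1⁻¹ * (k * x1 * k⁻¹))⁻¹ = x⁻¹ * x1 by rw [hx1def]; group] at this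
  set v := x⁻¹ * x1 with hvdef
  set c := x⁻¹ * (q0 * x * q0⁻¹) with hcdef
  have hc := hqZ q0 hq0β
  have hcv : v * c = c * v := V_comm h d.b3.ge hv (Z_le_V d.hβ.symm hc)
  have h1 : v⁻¹ * c * (q0 * v * q0⁻¹) ∈ vertexZ 2 γ := by
    have h3 := mul_mem hc (Zc_le h (d.hC h) d.hβ.symm (V_quot h d.b3.ge (d.hC h) hq0β hv))
    rwa [mul_self_inv (V_sq h d.b3.ge hv), hcv, mul_assoc c v]
  have h2 := conj_smul_mem_Z h k h1
  rw [show k * (v⁻¹ * c * (q0 * v * q0⁻¹)) * k⁻¹ = x⁻¹ * (q * x * q⁻¹) by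
    rw [hcdef, hvdef, hx1def, hq0]; group] at h2
  exact Z_inter h d.hk (d.hC h) (adj_smul_fix d.hβ.symm hk.1) d.hβ.symm hmove h2 (hqZ q hq)

theorem Pair3.card_F (d : Pair3 β γ δ α μ z u) : Nat.card ↥(Ecore β ⊓ Ecore δ) ≤ 4 := by
  obtain ⟨ε, hε, hεβ, hεδ⟩ := exists_third h d.hβ d.hδ
  set F := Ecore β ⊓ Ecore δ
  have hFγ : F ≤ vertexQ 2 γ := fun e he => (mem_Ecore.1 he.1).2 γ d.hβ.symm
  haveI := finQ h γ
  haveI : Finite F := Finite.of_injective (inclusion hFγ) (inclusion_injective _)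
  haveI := finZ h γ
  have hZF : vertexZ 2 γ ≤ F := le_inf (Z_le_Ecore h d.b3 d.hβ) (Z_le_Ecore h d.b3 d.hδ)
  have hFn : ∀ g ∈ vertexQ 2 γ, ∀ y ∈ F, g * y * g⁻¹ ∈ F := fun g hg y hy =>
    ⟨Ecore_conj h (Q_le_edge h d.hβ hg).2 hy.1, Ecore_conj h (Q_le_edge h d.hδ hg).2 hy.2⟩
  -- the part in the third `Q`
  have hF1 : F ⊓ vertexQ 2 ε ≤ vertexZ 2 γ := by
    by_contra hne
    obtain ⟨x, ⟨hxF, hxε⟩, hxZ, hcen⟩ := exists_central_mod (T := vertexQ 2 γ)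
      ((edge_facts h d.hβ).2.2.1.to_le (Q_le_edge h d.hβ)) (inf_le_left.trans hFγ) (Z_le_Q h γ)
      (fun g hg => by
        haveI : Finite ↥(F ⊓ vertexQ 2 ε) :=
          Finite.of_injective (inclusion (inf_le_left : _ ≤ F)) (inclusion_injective _)
        exact mem_normalizer_of_forall fun y hy =>
          ⟨hFn g hg y hy.1, Q_mem_conj h (Q_le_edge h hε hg).2 hy.2⟩)
      ((pCoreOf_le _ _).trans (Z_le_normalizer h γ)) hne
    have hxδ : x ∈ vertexQ 2 δ := (mem_Ecore.1 hxF.2).1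
    have hxβ : x ∈ vertexQ 2 β := (mem_Ecore.1 hxF.1).1
    have base : ∀ q ∈ vertexQ 2 β, q ∈ vertexQ 2 δ → q * x = x * q := by
      intro q hqβ hqδ
      have h1 := Z_mid h d.hN d.hβ d.hδ d.hne (d.comm_Z h hε hεβ hεδ hxF.1 hxδ hxε hcen hqβ)
        ((d.symm h).comm_Z h hε hεδ hεβ hxF.2 hxβ hxε hcen hqδ)
      calc q * x = x * (x⁻¹ * (q * x * q⁻¹)) * q := by group
        _ = x * q := by rw [h1, mul_one]
    have hxu : u * x = x * u := (Ecore_comm_V h hxF.2 (Z_le_V d.hμ d.hu)).symm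
    have hxz : z * x = x * z := (Ecore_comm_V h hxF.1 (Z_le_V d.hα d.hz)).symm
    have step : ∀ q ∈ vertexQ 2 γ, q ∈ vertexQ 2 δ → q * x = x * q := by
      intro q hq hqδ
      by_cases hqβ : q ∈ vertexQ 2 β
      · exact base q hqβ hqδ
      · have hqe : ∀ w ∈ vertexQ 2 γ, w ∈ edgeStabilizer β γ := fun w hw => by
          rw [edgeStabilizer_comm]; exact Q_le_edge h d.hβ hw
        have huγ := (d.symm h).zQγ h
        have huδ : u ∈ vertexQ 2 δ := Q_of_adj h d.b3 d.hμ.symm d.hu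
        have h1 := base _ (inv_mul_mem_Q h d.hβ.symm (hqe u huγ) (hqe q hq) d.huQ hqβ)
          (mul_mem (inv_mem huδ) hqδ)
        calc q * x = u * (u⁻¹ * q * x) := by group
          _ = u * (x * (u⁻¹ * q)) := by rw [h1]
          _ = (u * x) * (u⁻¹ * q) := by group
          _ = x * q := by rw [hxu]; group
    refine hxZ (mem_Z_of_central h d.hN (hFγ hxF) (d.F_sq h hxF.1 hxF.2) fun q hq => ?_)
    by_cases hqδ : q ∈ vertexQ 2 δ
    · exact step q hq hqδ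
    · have hqe : ∀ w ∈ vertexQ 2 γ, w ∈ edgeStabilizer δ γ := fun w hw => by
        rw [edgeStabilizer_comm]; exact Q_le_edge h d.hδ hw
      have h1 := step _ (mul_mem (inv_mem (d.zQγ h)) hq)
        (inv_mul_mem_Q h d.hδ.symm (hqe z (d.zQγ h)) (hqe q hq) d.hzQ hqδ)
      calc q * x = z * (z⁻¹ * q * x) := by group
        _ = z * (x * (z⁻¹ * q)) := by rw [h1]
        _ = (z * x) * (z⁻¹ * q) := by group
        _ = x * q := by rw [hxz]; group
  have hcard : Nat.card (vertexZ 2 γ) = 4 := by rw [card_Z h d.hN d.hβ, d.hk β (d.hC h)]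
  by_cases hFZ : F ≤ vertexZ 2 γ
  · have := card_le_of_le hFZ; omega
  exfalso
  obtain ⟨x, hxF, hxZ⟩ := SetLike.not_le_iff_exists.1 hFZ
  have hFe : ∀ y ∈ F, y ∈ edgeStabilizer ε γ := fun y hy => by
    rw [edgeStabilizer_comm]; exact Q_le_edge h hε (hFγ hy)
  have hcls : ∀ y ∈ F, y ∈ vertexZ 2 γ ∨ x⁻¹ * y ∈ vertexZ 2 γ := by
    intro y hy
    by_cases hyε : y ∈ vertexQ 2 ε
    · exact Or.inl (hF1 ⟨hy, hyε⟩)
    · exact Or.inr (hF1 ⟨(mul_mem (inv_mem hxF) hy : x⁻¹ * y ∈ F),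
        inv_mul_mem_Q h hε.symm (hFe x hxF) (hFe y hy) (fun e => hxZ (hF1 ⟨hxF, e⟩)) hyε⟩)
  have hxεQ : x ∉ vertexQ 2 ε := fun e => hxZ (hF1 ⟨hxF, e⟩)
  have hcen : ∀ q ∈ vertexQ 2 γ, x⁻¹ * (q * x * q⁻¹) ∈ vertexZ 2 γ := by
    intro q hq
    rcases hcls _ (hFn q hq x hxF) with h1 | h1
    · refine absurd ?_ hxZ
      have := Z_mem_conj h (inv_mem (pCoreOf_le _ _ hq : q ∈ St γ)) h1
      rwa [inv_inv, show q⁻¹ * (q * x * q⁻¹) * q = x by group] at this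
    · exact h1
  -- the other two intersections
  have side : ∀ {β δ α μ : CosetVertex P₁ P₂} {z u : G}, Pair3 β γ δ α μ z u → ε ≠ β → ε ≠ δ →
      x ∈ Ecore β → x ∈ vertexQ 2 δ → x ∈ Ecore δ →
      (∀ y, y ∈ Ecore β → y ∈ Ecore δ → y ∈ vertexZ 2 γ ∨ x⁻¹ * y ∈ vertexZ 2 γ) →
      x * z ∈ Ecore ε ∧ ∀ y, y ∈ Ecore β → y ∈ Ecore ε → y ∈ vertexZ 2 γ ∨ (x * z)⁻¹ * y ∈ vertexZ 2 γ := by
    intro β δ α μ z u d hεβ hεδ hxβ hxδ hxδ' hcls
    obtain ⟨q, hqβ, hqγ⟩ := SetLike.not_le_iff_exists.1 (Q_ne h d.hβ.symm)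
    have hqe : q ∈ edgeStabilizer γ β := by rw [edgeStabilizer_comm]; exact Q_le_edge h d.hβ.symm hqβ
    have hqδ : q • δ = ε := swap h d.hβ d.hδ hε d.hne.symm hεβ hεδ hqe hqγ
    have hqε : q • ε = δ := swap h d.hβ hε d.hδ hεβ d.hne.symm hεδ.symm hqe hqγ
    have h1 : q * x * q⁻¹ ∈ Ecore ε := hqδ ▸ Ecore_smul h q hxδ'
    have h2 : q * x * q⁻¹ ∉ vertexQ 2 δ := by rw [← hqε, conj_smul_mem_Q_iff h]; exact hxεQ
    have hcV := d.comm_V h hxβ hcen hqβ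
    set c := x⁻¹ * (q * x * q⁻¹) with hcdef
    have hc : z * c ∈ vertexZ 2 γ := by
      refine (d.V_split h hcV).resolve_left fun hh => h2 ?_
      have := mul_mem hxδ (Q_of_adj h d.b3 d.hδ hh)
      rwa [hcdef, mul_inv_cancel_left] at this
    have e : q * x * q⁻¹ = x * z * (z * c) := by
      calc q * x * q⁻¹ = x * c := by rw [hcdef]; group
        _ = x * ((z * z) * c) := by rw [Z_sq h d.hz, one_mul]
        _ = x * z * (z * c) := by group
    refine ⟨?_, fun y hy hy' => ?_⟩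
    · have := mul_mem h1 (inv_mem (Z_le_Ecore h d.b3 hε hc))
      rwa [e, mul_inv_cancel_right] at this
    · have hy1 : q⁻¹ * y * q ∈ Ecore β := by
        have := Ecore_conj h (inv_mem (pCoreOf_le _ _ hqβ : q ∈ St β)) hy
        rwa [inv_inv] at this
      have hy2 : q⁻¹ * y * q ∈ Ecore δ := by
        have := Ecore_smul h q⁻¹ hy'
        rwa [← hqδ, inv_smul_smul, inv_inv] at this
      rcases hcls _ hy1 hy2 with h3 | h3
      · left
        have := Z_mem_conj h hqe.1 h3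
        rwa [show q * (q⁻¹ * y * q) * q⁻¹ = y by group] at this
      · right
        have h4 := mul_mem hc (Z_mem_conj h hqe.1 h3)
        rwa [show z * c * (q * (x⁻¹ * (q⁻¹ * y * q)) * q⁻¹) = z * x⁻¹ * y by rw [hcdef]; group,
          show z * x⁻¹ * y = (x * z)⁻¹ * y by rw [mul_inv_rev, mul_self_inv (Z_sq h d.hz)]] at h4
  obtain ⟨hxz, hclsβ⟩ := side d hεβ hεδ hxF.1 (mem_Ecore.1 hxF.2).1 hxF.2 (fun y h1 h2 => hcls y ⟨h1, h2⟩)
  obtain ⟨hxu, hclsδ⟩ := side (d.symm h) hεδ hεβ hxF.2 (mem_Ecore.1 hxF.1).1 hxF.1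
    (fun y h1 h2 => hcls y ⟨h2, h1⟩)
  obtain ⟨g, hg, hgβ, hgδ⟩ : ∃ g ∈ St γ, g • β = ε ∧ g • δ = β := by
    obtain ⟨g1, hg1, h1⟩ := exists_smul_neighbour d.hβ hε
    rcases eq_or_ne (g1 • δ) β with e | e
    · exact ⟨g1, hg1, h1, e⟩
    obtain ⟨t, ht, htQ⟩ := exists_edge_not_Q h hε
    refine ⟨t * g1, mul_mem ht.1 hg1, by rw [mul_smul, h1]; exact ht.2, ?_⟩
    rw [mul_smul]
    exact swap h hε (adj_smul_fix d.hδ hg1) d.hβ (fun e' => d.hne (smul_left_cancel g1 (h1.trans e'.symm)))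
      hεβ.symm e.symm ht htQ
  have hgε : g • ε = δ := nbr_eq h hε d.hβ d.hδ hεβ.symm hεδ.symm d.hne.symm (adj_smul_fix hε hg)
    (fun e => hεβ (smul_left_cancel g (e.trans hgβ.symm)))
    (fun e => hεδ (smul_left_cancel g (e.trans hgδ.symm)))
  have hzE : z ∈ Ecore β := Z_le_Ecore h d.b3 d.hα.symm d.hz
  set a := g * x * g⁻¹ with ha
  set a' := g * (x * z) * g⁻¹ with ha'
  have hnotZ : ∀ w, w ∉ vertexZ 2 γ → g * w * g⁻¹ ∉ vertexZ 2 γ := fun w hw hh => hw (by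
    have := Z_mem_conj h (inv_mem hg) hh
    rwa [inv_inv, show g⁻¹ * (g * w * g⁻¹) * g = w by group] at this)
  have hxzZ : x * z ∉ vertexZ 2 γ := fun e => d.hzQ (by
    have := mul_mem (inv_mem (mem_Ecore.1 hxF.2).1) (Q_of_adj h d.b3 d.hδ e)
    rwa [inv_mul_cancel_left] at this)
  have ha1 : (x * z)⁻¹ * a ∈ vertexZ 2 γ :=
    (hclsβ a (hgδ ▸ Ecore_smul h g hxF.2) (hgβ ▸ Ecore_smul h g hxF.1)).resolve_left (hnotZ x hxZ)
  have ha2 : (x * u)⁻¹ * a' ∈ vertexZ 2 γ :=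
    (hclsδ a' (hgε ▸ Ecore_smul h g hxz) (hgβ ▸ Ecore_smul h g (mul_mem hxF.1 hzE))).resolve_left
      (hnotZ _ hxzZ)
  have hxzc : x * z = z * x := Ecore_comm_V h hxF.1 (Z_le_V d.hα d.hz)
  have hxuc : x * u = u * x := Ecore_comm_V h hxF.2 (Z_le_V d.hμ d.hu)
  have haa : a * a' = a' * a := by
    calc a * a' = g * (x * (x * z)) * g⁻¹ := by rw [ha, ha']; group
      _ = g * (x * (z * x)) * g⁻¹ := by rw [← hxzc]
      _ = g * (x * z * x) * g⁻¹ := by group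
      _ = a' * a := by rw [ha, ha']; group
  set c1 := (x * z)⁻¹ * a
  set c2 := (x * u)⁻¹ * a'
  have hzγ := d.zQγ h
  have huγ := (d.symm h).zQγ h
  have ea : a = x * z * c1 := (mul_inv_cancel_left (x * z) a).symm
  have ea' : a' = x * u * c2 := (mul_inv_cancel_left (x * u) a').symm
  have hc1 : ∀ w ∈ vertexQ 2 γ, w * c1 = c1 * w := (Z_spec h ha1).2.2
  have hc2 : ∀ w ∈ vertexQ 2 γ, w * c2 = c2 * w := (Z_spec h ha2).2.2
  have hxγ := hFγ hxF
  have h5 : x * z * (x * u) = x * u * (x * z) := by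
    have e1 : a * a' = x * z * (x * u) * (c1 * c2) := by
      rw [ea, ea', show x * z * c1 * (x * u * c2) = x * z * (c1 * (x * u)) * c2 by group,
        ← hc1 _ (mul_mem hxγ huγ)]
      group
    have e2 : a' * a = x * u * (x * z) * (c1 * c2) := by
      rw [ea, ea', show x * u * c2 * (x * z * c1) = x * u * (c2 * (x * z)) * c1 by group,
        ← hc2 _ (mul_mem hxγ hzγ), Z_comm h ha1 ha2]
      group
    rw [e1, e2] at haa
    exact mul_right_cancel haa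
  have h6 : u * z = z * u := by
    have e1 : x * z * (x * u) = x * x * (z * u) := by
      rw [show x * z * (x * u) = x * (z * x) * u by group, ← hxzc]; group
    have e2 : x * u * (x * z) = x * x * (u * z) := by
      rw [show x * u * (x * z) = x * (u * x) * z by group, ← hxuc]; group
    rw [e1, e2] at h5
    exact (mul_left_cancel h5).symm
  refine d.huQ (mem_Q_of_centralizes_V h (d.uEdge h).1 fun v hv => d.comm_V_of h h6 ?_ hv)
  exact fun c hc => (Z_spec h hc).2.2 u huγ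

theorem bound_three (hb : bb = 3) : Nat.card ↥(P₁ ⊓ P₂) ≤ 2 ^ 7 := by
  have hk : ∀ y : CosetVertex P₁ P₂, IsC y → Nat.card (vertexZ 2 y) = 2 :=
    fun y hy => card_Z_two h (m := 0) (by omega) hy
  have hb' : bb = 2 * 0 + 3 := by omega
  obtain ⟨p, hp⟩ := exists_crit h
  have hN0 := crit_isN h hp
  have hw := crit_cc h hp
  have h01 : (cosetGraph P₁ P₂).Adj (p 0) (p 1) := hp.1 0 (by omega)
  have h12 : (cosetGraph P₁ P₂).Adj (p 1) (p 2) := hp.1 1 (by omega)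
  have h23 : (cosetGraph P₁ P₂).Adj (p 2) (p 3) := hp.1 2 (by omega)
  have hC1 : IsC (p 1) := isC_of_adj h01 hN0
  have hN2 : IsN (p 2) := isN_of_adj h12 hC1
  have hwalk := crit_walk h hp
  have h02 : p 0 ≠ p 2 := (hwalk.2 0 (by omega)).symm
  obtain ⟨z, hz, hzQ⟩ := SetLike.not_le_iff_exists.1 hp.2
  rw [hb] at hzQ
  have hzZ : z ∉ vertexZ 2 (p 1) := fun e => hzQ (near h hp.1 (by omega) (by omega) (by omega) (by omega) e)
  obtain ⟨μ, hμ', hμbad'⟩ := (hw.back h hb').exists_bad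
  have e2 : bb - 1 = 2 := by omega
  have hμ : (cosetGraph P₁ P₂).Adj (p 3) μ := by simpa [e2] using hμ'
  have hμbad : ¬ vertexZ 2 μ ≤ vertexQ 2 (p 1) := by simpa [e2] using hμbad'
  obtain ⟨u, hu, huQ⟩ := SetLike.not_le_iff_exists.1 hμbad
  have hμ2 : μ ≠ p 2 := by
    rintro rfl
    exact hμbad (near h hp.1 (by omega) (by omega) (by omega) (by omega))
  have huZ : u ∉ vertexZ 2 (p 3) := fun e => huQ (near h hp.1 (by omega) (by omega) (by omega) (by omega) e)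
  obtain ⟨-, -, hr, hr'⟩ := hw.rel h hb' hk (l := p 0) (μ := μ) h01.symm h02
    (by simpa [e2] using hμ) (by rw [show bb - 2 = 1 by omega]; exact hμ2) hz hzZ hu
    (by simpa [e2] using huZ)
  rw [e2, show bb - 2 = 1 by omega] at hr'
  have hne : p 1 ≠ p 3 := (hwalk.2 1 (by omega)).symm
  have d : Pair3 (p 1) (p 2) (p 3) (p 0) μ z u := ⟨hb, hk, h12.symm, h23, hne, hN2, h01.symm, h02, hμ, hμ2,
    hz, hzQ, hzZ, hu, huQ, huZ, Cls.mid h (by omega) hk hN2 h12.symm h23 hne hr hr'⟩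
  have h1 := d.card_Q_le_F h
  have h2 := d.card_F h
  rw [card_base h h12]
  omega

/-- The order bound. -/
theorem bound : Nat.card ↥(P₁ ⊓ P₂) ≤ 2 ^ 7 := by
  obtain ⟨p, hp⟩ := exists_crit h
  have hpos := crit_pos h hp
  rcases Nat.even_or_odd' bb with ⟨k, hk | hk⟩
  · rcases Nat.lt_or_ge k 2 with h1 | h1
    · exact bound_crit_two h (by omega)
    · exact (not_even h (m := k - 2) (by omega)).elim
  · rcases Nat.lt_or_ge k 1 with h1 | h1
    · exact bound_one h (by omega)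
    rcases Nat.lt_or_ge k 2 with h2 | h2
    · exact bound_three h (by omega)
    rcases Nat.lt_or_ge k 3 with h3 | h3
    · exact (not_five h (by omega)).elim
    · exact (not_long h (m := k - 3) (by omega)).elim

end Cfsg.Agent.Lib.Goldschmidt73
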